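import Groth.Prelude.Def_W4c2azumayainvolQEt
import Groth.Agent.StrictHens.Basic
import Mathlib.FieldTheory.IsSepClosed
import Mathlib.RingTheory.Idempotents

/-!
A ring with an involution whose fixed ring is strictly henselian is a product of at most two
strictly henselian local rings.
-/

set_option autoImplicit false
set_option linter.style.haveILetI false

universe u v

open IsLocalRing Polynomial

namespace Groth.Agent.AzInvLib

/-- An algebraic extension of a separably closed field is separably closed. -/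
theorem isSepClosed_of_isAlgebraic (k : Type u) [Field k] (K : Type v) [Field K] [Algebra k K]
    [IsSepClosed k] [Algebra.IsAlgebraic k K] : IsSepClosed K := by
  haveI : IsPurelyInseparable k K := inferInstance
  let Ω := AlgebraicClosure K
  haveI : Algebra.IsAlgebraic k Ω := Algebra.IsAlgebraic.trans k K Ω
  haveI : IsPurelyInseparable k Ω := inferInstance
  refine IsSepClosed.of_exists_root K fun p hpm hirr hsep => ?_
  obtain ⟨z, hz⟩ := IsAlgClosed.exists_aeval_eq_zero Ω p (degree_pos_of_irreducible hirr).ne'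
  haveI : IsPurelyInseparable K Ω := IsPurelyInseparable.tower_top k K Ω
  have hzs : IsSeparable K z := hsep.of_dvd (minpoly.dvd K z hz)
  obtain ⟨x, hx⟩ := IsPurelyInseparable.inseparable K z hzs
  refine ⟨x, (algebraMap K Ω).injective ?_⟩
  rw [map_zero, ← aeval_algebraMap_apply_eq_algebraMap_eval, hx, hz]

/-- A nontrivial quotient of a henselian local ring is henselian local. -/
theorem henselianLocalRing_of_surjective {S : Type u} {S' : Type v} [CommRing S] [CommRing S'] [HenselianLocalRing S]
    [Nontrivial S'] (f : S →+* S') (hf : Function.Surjective f) : HenselianLocalRing S' := by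
  haveI : IsLocalRing S' := IsLocalRing.of_surjective' f hf
  haveI : IsLocalHom f := hf.isLocalHom f
  refine ⟨fun g hg a₀ h1 h2 => ?_⟩
  obtain ⟨G, hG, -, hGm⟩ := Polynomial.lifts_and_degree_eq_and_monic
    ((Polynomial.lifts_iff_coeff_lifts _).2 fun n => hf (g.coeff n)) hg
  obtain ⟨b, rfl⟩ := hf a₀
  obtain ⟨a, ha, ha'⟩ := HenselianLocalRing.is_henselian G hGm b
    (fun h => h1 (by rw [← hG, eval_map_apply]; exact h.map f))
    (isUnit_of_map_unit f _ (by rw [← eval_map_apply, ← derivative_map, hG]; exact h2))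
  refine ⟨f a, ?_, ?_⟩
  · rw [IsRoot, ← hG, eval_map_apply, ha, map_zero]
  · intro h
    rw [← map_sub] at h
    exact ha' (isUnit_of_map_unit f _ h)

variable {S : Type u} {R : Type v} [CommRing S] [CommRing R] [Algebra S R] {lam : R ≃+* R}

theorem isIntegral_of_fixed (hlam : Function.Involutive lam) (hS : RInv.IsFixedRing S R lam) :
    Algebra.IsIntegral S R := by
  refine ⟨fun r => ?_⟩
  obtain ⟨a, ha⟩ := (hS.2 (r + lam r)).1 (by rw [map_add, hlam r, add_comm])
  obtain ⟨b, hb⟩ := (hS.2 (r * lam r)).1 (by rw [map_mul, hlam r, mul_comm])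
  refine ⟨X ^ 2 + (-C a * X + C b), (monic_X_pow_add (lt_of_le_of_lt (degree_add_le _ _) ?_)), ?_⟩
  · refine max_lt (lt_of_le_of_lt (degree_mul_le _ _) ?_) (lt_of_le_of_lt degree_C_le (by norm_num))
    rw [degree_neg]
    exact lt_of_le_of_lt (add_le_add degree_C_le degree_X_le) (by norm_num)
  · simp only [eval₂_add, eval₂_mul, eval₂_neg, eval₂_pow, eval₂_X, eval₂_C, ha, hb]
    ring

variable [HenselianLocalRing S]

/-- Maximal ideals over the closed point of a fixed ring: at most two, exchanged by the involution. -/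
theorem eq_or_eq_comap (hlam : Function.Involutive lam) (hS : RInv.IsFixedRing S R lam)
    (M Q : Ideal R) [M.IsMaximal] [Q.IsMaximal] : Q = M ∨ Q = M.comap lam := by
  haveI := isIntegral_of_fixed hlam hS
  haveI hM' : (M.comap lam).IsMaximal := Ideal.comap_isMaximal_of_surjective (f := (lam : R →+* R)) lam.surjective
  have hcS : ∀ N : Ideal R, N.IsMaximal → N.comap (algebraMap S R) = maximalIdeal S := fun N hN =>
    IsLocalRing.eq_maximalIdeal (Ideal.isMaximal_comap_of_isIntegral_of_isMaximal (R := S) N)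
  have hsub : (Q : Set R) ⊆ M ∪ M.comap lam := fun x hx => by
    obtain ⟨b, hb⟩ := (hS.2 (x * lam x)).1 (by rw [map_mul, hlam x, mul_comm])
    have h1 : b ∈ Q.comap (algebraMap S R) := by
      rw [Ideal.mem_comap, hb]; exact Q.mul_mem_right _ hx
    rw [hcS Q inferInstance, ← hcS M inferInstance, Ideal.mem_comap, hb] at h1
    exact (Ideal.IsPrime.mem_or_mem inferInstance h1).elim Or.inl Or.inr
  rcases Ideal.subset_union.1 hsub with h | h
  · exact Or.inl (Ideal.IsMaximal.eq_of_le inferInstance Ideal.IsPrime.ne_top' h)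
  · exact Or.inr (Ideal.IsMaximal.eq_of_le inferInstance Ideal.IsPrime.ne_top' h)

/-- A quotient of `R` with a unique maximal ideal is strictly henselian. -/
theorem sh_quotient [IsSepClosed (ResidueField S)] [Algebra.IsIntegral S R] (I : Ideal R)
    (h : ∃! Q : Ideal R, Q.IsMaximal ∧ I ≤ Q) :
    ∃ _ : HenselianLocalRing (R ⧸ I), IsSepClosed (ResidueField (R ⧸ I)) := by
  obtain ⟨Q, ⟨hQ, hIQ⟩, huniq⟩ := h
  haveI : IsLocalRing (R ⧸ I) := by
    refine IsLocalRing.of_unique_max_ideal ⟨Q.map (Ideal.Quotient.mk I), ?_, fun N hN => ?_⟩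
    · refine Ideal.IsMaximal.map_of_surjective_of_ker_le Ideal.Quotient.mk_surjective ?_
      rwa [Ideal.mk_ker]
    · rw [← huniq (N.comap (Ideal.Quotient.mk I)) ⟨Ideal.comap_isMaximal_of_surjective _ Ideal.Quotient.mk_surjective, fun x hx => by
        rw [Ideal.mem_comap, Ideal.Quotient.eq_zero_iff_mem.2 hx]; exact zero_mem N⟩,
        Ideal.map_comap_of_surjective _ Ideal.Quotient.mk_surjective]
  haveI : Algebra.IsIntegral S (R ⧸ I) :=
    ⟨fun x => by
      obtain ⟨r, rfl⟩ := Ideal.Quotient.mk_surjective x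
      exact (Algebra.IsIntegral.isIntegral r).map (Ideal.Quotient.mkₐ S I)⟩
  let S₀ := (algebraMap S (R ⧸ I)).range
  haveI : HenselianLocalRing S₀ := by
    exact henselianLocalRing_of_surjective _ (RingHom.rangeRestrict_surjective _)
  haveI : Algebra.IsIntegral S₀ (R ⧸ I) :=
    ⟨fun x => by
      obtain ⟨p, hp, hp0⟩ := Algebra.IsIntegral.isIntegral (R := S) x
      exact ⟨p.map (algebraMap S (R ⧸ I)).rangeRestrict, hp.map _, by rw [eval₂_map]; exact hp0⟩⟩
  haveI := Groth.Agent.StrictHens.Basic.henselianLocalRing_of_integral (R := S₀) (T := R ⧸ I)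
  refine ⟨inferInstance, ?_⟩
  haveI : IsLocalHom (algebraMap S (R ⧸ I)) := ⟨fun a ha => by
    by_contra hna
    have hmax := Ideal.isMaximal_comap_of_isIntegral_of_isMaximal (R := S) (maximalIdeal (R ⧸ I))
    have : a ∈ (maximalIdeal (R ⧸ I)).comap (algebraMap S (R ⧸ I)) := by
      rw [IsLocalRing.eq_maximalIdeal hmax]; exact hna
    exact this ha⟩
  haveI : Algebra.IsAlgebraic (ResidueField S) (ResidueField (R ⧸ I)) := ⟨fun x => by
    obtain ⟨r, rfl⟩ := IsLocalRing.residue_surjective x
    obtain ⟨p, hp, hp0⟩ := Algebra.IsIntegral.isIntegral (R := S) r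
    refine (IsIntegral.isAlgebraic ⟨p.map (residue S), hp.map _, ?_⟩)
    rw [eval₂_map, show (algebraMap (ResidueField S) (ResidueField (R ⧸ I))).comp (residue S) =
      (residue (R ⧸ I)).comp (algebraMap S (R ⧸ I)) from RingHom.ext fun _ => rfl, ← hom_eval₂, hp0, map_zero]⟩
  exact isSepClosed_of_isAlgebraic (ResidueField S) _

/-- The decomposition: complete orthogonal idempotents with strictly henselian local factors. -/
theorem exists_sh_idempotents [IsSepClosed (ResidueField S)] (hlam : Function.Involutive lam)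
    (hS : RInv.IsFixedRing S R lam) :
    ∃ (ι : Type) (_ : Fintype ι) (e : ι → R), CompleteOrthogonalIdempotents e ∧
      ∀ i, ∃ _ : HenselianLocalRing (R ⧸ Ideal.span {1 - e i}),
        IsSepClosed (ResidueField (R ⧸ Ideal.span {1 - e i})) := by
  classical
  haveI := isIntegral_of_fixed hlam hS
  haveI : Nontrivial R := hS.1.nontrivial
  obtain ⟨M, hM⟩ := Ideal.exists_maximal R
  by_cases hM' : M.comap lam = M
  · refine ⟨Unit, inferInstance, fun _ => 1, ?_, fun _ => ?_⟩
    · exact ⟨⟨fun _ => IsIdempotentElem.one, Subsingleton.pairwise⟩, by simp⟩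
    · refine sh_quotient (S := S) _ ⟨M, ⟨hM, by simp⟩, fun Q hQ => ?_⟩
      haveI := hQ.1
      exact (eq_or_eq_comap hlam hS M Q).elim id (fun h => h.trans hM')
  haveI hN : (M.comap lam).IsMaximal := Ideal.comap_isMaximal_of_surjective (f := (lam : R →+* R)) lam.surjective
  obtain ⟨x, hxM, hxN⟩ : ∃ x ∈ M, lam x ∉ M := by
    by_contra! h
    exact hM' (Ideal.IsMaximal.eq_of_le hM hN.ne_top (fun x hx => h x hx)).symm
  obtain ⟨s, hs⟩ := (hS.2 (x + lam x)).1 (by rw [map_add, hlam x, add_comm])
  obtain ⟨q, hq⟩ := (hS.2 (x * lam x)).1 (by rw [map_mul, hlam x, mul_comm])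
  have hcS : M.comap (algebraMap S R) = maximalIdeal S :=
    IsLocalRing.eq_maximalIdeal (Ideal.isMaximal_comap_of_isIntegral_of_isMaximal (R := S) M)
  have hqm : q ∈ maximalIdeal S := by
    rw [← hcS, Ideal.mem_comap, hq]; exact M.mul_mem_right _ hxM
  have hsm : s ∉ maximalIdeal S := by
    rw [← hcS, Ideal.mem_comap, hs]
    exact fun h => hxN (by simpa using M.sub_mem h hxM)
  obtain ⟨a, ha, ham⟩ := HenselianLocalRing.is_henselian (X ^ 2 + (-C s * X + C q))
    (monic_X_pow_add (lt_of_le_of_lt (degree_add_le _ _) (max_lt (lt_of_le_of_lt (degree_mul_le _ _) (by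
      rw [degree_neg]; exact lt_of_le_of_lt (add_le_add degree_C_le degree_X_le) (by norm_num)))
      (lt_of_le_of_lt degree_C_le (by norm_num))))) 0
    (by simpa using hqm) (by simpa using IsLocalRing.notMem_maximalIdeal.1 hsm)
  rw [sub_zero] at ham
  simp only [IsRoot, eval_add, eval_mul, eval_neg, eval_pow, eval_X, eval_C] at ha
  have hu : IsUnit (s - 2 * a) := by
    rw [← IsLocalRing.notMem_maximalIdeal]
    intro h
    exact hsm (by simpa using (maximalIdeal S).add_mem h ((maximalIdeal S).mul_mem_left 2 ham))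
  obtain ⟨w, hw⟩ := isUnit_iff_exists_inv'.1 hu
  let al := algebraMap S R
  let e := al w * (x - al a)
  have hxx : x * x = al s * x - al q := by
    show _ = algebraMap S R s * x - algebraMap S R q
    rw [hs, hq]; ring
  have haa : al a * al a = al s * al a - al q := by
    rw [← map_mul, ← map_mul, ← map_sub]
    congr 1
    linear_combination ha
  have hw' : al w * (al s - 2 * al a) = 1 := by
    have := congrArg al hw
    simpa [map_ofNat] using this
  have he : IsIdempotentElem e := by
    show e * e = e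
    have h2 : e * e = al w * (al w * ((x - al a) * (x - al a))) := by ring
    have h3 : (x - al a) * (x - al a) = (al s - 2 * al a) * (x - al a) := by
      linear_combination hxx - haa
    rw [h2, h3, ← mul_assoc (al w) (al s - 2 * al a), hw', one_mul]
  have haM : al a ∈ M := by
    rw [← Ideal.mem_comap, hcS]; exact ham
  have haN : al a ∈ M.comap lam := by
    have hfix : lam (al a) = al a := (hS.2 _).2 ⟨a, rfl⟩
    show lam (al a) ∈ M
    rwa [hfix]
  have heM : e ∈ M := M.mul_mem_left _ (M.sub_mem hxM haM)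
  have hu' : IsUnit (al w) := .of_mul_eq_one _ hw'
  have heN : e ∉ M.comap lam := fun h => by
    have h' : x - al a ∈ M.comap lam := ((M.comap lam).unit_mul_mem_iff_mem hu').1 h
    exact hxN (by
      have := (M.comap lam).add_mem h' haN
      rw [sub_add_cancel] at this
      exact this)
  refine ⟨Bool, inferInstance, fun b => bif b then e else 1 - e, ?_, fun b => ?_⟩
  · refine ⟨⟨fun b => ?_, fun b c hbc => ?_⟩, by simp⟩
    · cases b <;> simp [he, he.one_sub]
    · have h1 : e * (1 - e) = 0 := by rw [mul_sub, mul_one, he.eq, sub_self]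
      cases b <;> cases c <;> simp_all [mul_comm]
  · cases b
    · refine sh_quotient (S := S) _ ⟨M, ⟨hM, by simp [Ideal.span_le, heM]⟩, fun Q hQ => ?_⟩
      haveI := hQ.1
      refine (eq_or_eq_comap hlam hS M Q).elim id fun h => absurd ?_ heN
      rw [← h]
      have := hQ.2 (Ideal.mem_span_singleton_self (1 - (1 - e)))
      rwa [sub_sub_cancel] at this
    · refine sh_quotient (S := S) _ ⟨M.comap lam, ⟨hN, ?_⟩, fun Q hQ => ?_⟩
      · rw [Ideal.span_le, Set.singleton_subset_iff]
        have h1 : (1 - e) * e ∈ M.comap lam := by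
          rw [sub_mul, one_mul, he.eq, sub_self]; exact zero_mem _
        exact (hN.isPrime.mem_or_mem h1).resolve_right heN
      · haveI := hQ.1
        refine (eq_or_eq_comap hlam hS M Q).elim (fun h => ?_) id
        refine absurd ?_ hM.ne_top
        rw [Ideal.eq_top_iff_one]
        have := M.add_mem (h ▸ hQ.2 (Ideal.mem_span_singleton_self (1 - e))) heM
        rwa [sub_add_cancel] at this

end Groth.Agent.AzInvLib
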