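import Groth.Agent.AzInvLib.Split
import Groth.Agent.EtaleSite.SplitInt
import Groth.Agent.Azu.Basic
import Mathlib.FieldTheory.IsAlgClosed.AlgebraicClosure
import Mathlib.FieldTheory.SeparableClosure
import Mathlib.RingTheory.Spectrum.Prime.Chevalley
import Mathlib.RingTheory.Nullstellensatz

/-!
# Étale coverings of the fixed ring dominating étale coverings of the ring with involution
-/

set_option autoImplicit false

universe u v w

noncomputable section

open scoped TensorProduct

namespace Groth.Agent.AzInvLib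

/-- A ring with an involution is integral over its fixed ring. -/
theorem isIntegral_fixed {S : Type u} {R : Type v} [CommRing S] [CommRing R] [Algebra S R]
    {lam : R ≃+* R} (hlam : Function.Involutive lam) (hS : RInv.IsFixedRing S R lam) :
    Algebra.IsIntegral S R := ⟨fun r => by
  obtain ⟨s₁, hs₁⟩ := (hS.2 (r + lam r)).mp (by rw [map_add, hlam r, add_comm])
  obtain ⟨s₀, hs₀⟩ := (hS.2 (r * lam r)).mp (by rw [map_mul, hlam r, mul_comm])
  refine ⟨Polynomial.X ^ 2 - Polynomial.C s₁ * Polynomial.X + Polynomial.C s₀, ?_, ?_⟩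
  · rcases subsingleton_or_nontrivial S with h | h
    · exact Polynomial.monic_of_subsingleton _
    · rw [sub_add]
      exact Polynomial.monic_X_pow_sub (by
        rw [Polynomial.degree_lt_iff_coeff_zero]
        intro m hm
        have : 2 ≤ m := hm
        simp [Polynomial.coeff_X, Polynomial.coeff_C, show m ≠ 0 by omega, show (1 : ℕ) ≠ m by omega])
  · simp only [Polynomial.eval₂_add, Polynomial.eval₂_sub, Polynomial.eval₂_X_pow,
      Polynomial.eval₂_mul, Polynomial.eval₂_C, Polynomial.eval₂_X, hs₁, hs₀]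
    ring⟩

/-- An étale covering of an integral algebra has a section after an étale covering of the base. -/
theorem exists_section_int {S R C : Type u} [CommRing S] [CommRing R] [CommRing C] [Algebra S R]
    [Algebra.IsIntegral S R] [Algebra R C] [Algebra.Etale R C] [Module.FaithfullyFlat R C] :
    ∃ (S' : Type u) (_ : CommRing S') (_ : Algebra S S') (_ : Algebra.Etale S S')
      (_ : Module.FaithfullyFlat S S') (h : C →+* S' ⊗[S] R),
      h.comp (algebraMap R C) = Algebra.TensorProduct.includeRight.toRingHom := by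
  classical
  have key : ∀ p : PrimeSpectrum S, ∃ (T : Type u) (_ : CommRing T) (_ : Algebra S T),
      Algebra.Etale S T ∧ p ∈ Set.range (PrimeSpectrum.comap (algebraMap S T)) ∧
      ∃ h : C →+* T ⊗[S] R,
        h.comp (algebraMap R C) = Algebra.TensorProduct.includeRight.toRingHom := by
    intro p
    let L := AlgebraicClosure p.asIdeal.ResidueField
    let K := separableClosure p.asIdeal.ResidueField L
    have hψ : ∀ τ : R →ₐ[S] L, ∃ ψ : C →+* L, ∀ b, ψ (algebraMap R C b) = τ b := by
      intro τ
      letI := τ.toRingHom.toAlgebra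
      haveI : Nontrivial (L ⊗[R] C) :=
        Module.FaithfullyFlat.rTensor_nontrivial R C L
      obtain ⟨m, hm⟩ := Ideal.exists_maximal (L ⊗[R] C)
      letI := Ideal.Quotient.field m
      haveI : Module.Finite L ((L ⊗[R] C) ⧸ m) := finite_of_finite_type_of_isJacobsonRing L _
      let e : L ≃ₐ[L] (L ⊗[R] C) ⧸ m := AlgEquiv.ofBijective (Algebra.ofId L _)
        IsAlgClosed.algebraMap_bijective_of_isIntegral
      refine ⟨e.symm.toRingEquiv.toRingHom.comp ((Ideal.Quotient.mk m).comp
        Algebra.TensorProduct.includeRight.toRingHom), fun b => ?_⟩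
      show e.symm (Ideal.Quotient.mk m ((1 : L) ⊗ₜ[R] algebraMap R C b)) = τ b
      rw [Algebra.algebraMap_eq_smul_one, ← TensorProduct.smul_tmul, Algebra.smul_def, mul_one]
      exact e.symm.commutes (τ b)
    choose ψ hψ using hψ
    haveI : IsScalarTower S K L := IsScalarTower.of_algebraMap_eq fun s => rfl
    haveI : IsSepClosed K := inferInstance
    obtain ⟨T, _, _, hT, π, h, hh, -⟩ := EtaleSite.exists_etale_split_integral (A := S) (B := R)
      (K := K) (L := L) ψ hψ ∅ Set.subsingleton_empty
    refine ⟨T, _, _, hT, ⟨⟨RingHom.ker π.toRingHom, RingHom.ker_isPrime _⟩, ?_⟩, h, hh⟩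
    refine PrimeSpectrum.ext ?_
    ext s
    show π (algebraMap S T s) = 0 ↔ _
    rw [π.commutes, IsScalarTower.algebraMap_apply S p.asIdeal.ResidueField K, map_eq_zero,
      Ideal.algebraMap_residueField_eq_zero]
  choose T _ _ hT hp h hh using key
  let U : PrimeSpectrum S → Set (PrimeSpectrum S) := fun p =>
    Set.range (PrimeSpectrum.comap (algebraMap S (T p)))
  have hU : ∀ p, IsOpen (U p) := fun p =>
    haveI := hT p
    haveI : Module.Flat S (T p) := inferInstance
    PrimeSpectrum.isOpenMap_comap_of_hasGoingDown_of_finitePresentation.isOpen_range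
  obtain ⟨s, hs⟩ := isCompact_univ.elim_finite_subcover U hU
    fun p _ => Set.mem_iUnion.mpr ⟨p, hp p⟩
  haveI : ∀ i : s, Algebra.Etale S (T i) := fun i => hT _
  haveI : ∀ i : s, Module.Flat S (T i) := fun i => inferInstance
  let S' := Π i : s, T i
  haveI : Module.Flat S S' :=
    Module.Flat.of_linearEquiv (DirectSum.linearEquivFunOnFintype S s fun i => T i).symm
  have hff : Module.FaithfullyFlat S S' := by
    refine Module.FaithfullyFlat.of_comap_surjective fun p => ?_
    obtain ⟨i, hi, q, hq⟩ : ∃ i ∈ s, p ∈ U i := by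
      simpa only [Set.mem_iUnion, exists_prop] using hs (Set.mem_univ p)
    refine ⟨PrimeSpectrum.comap (Pi.evalRingHom (fun i : s => T i) ⟨i, hi⟩) q, ?_⟩
    rw [← hq, ← PrimeSpectrum.comap_comp_apply]
    rfl
  let F : S' ⊗[S] R ≃ₐ[S] Π i : s, T i ⊗[S] R :=
    (Algebra.TensorProduct.comm S S' R).trans
      ((Algebra.TensorProduct.piRight S S R (fun i : s => T i)).trans
        (AlgEquiv.piCongrRight fun i => Algebra.TensorProduct.comm S R (T i)))
  refine ⟨S', inferInstance, inferInstance, inferInstance, hff,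
    F.symm.toRingEquiv.toRingHom.comp (RingHom.pi fun i : s => h i), RingHom.ext fun b => ?_⟩
  apply F.injective
  show F (F.symm _) = F _
  rw [AlgEquiv.apply_symm_apply]
  funext i
  show h i (algebraMap R C b) = _
  rw [← RingHom.comp_apply, hh]
  rfl

theorem etale_comp {X Y Z : Type*} [CommRing X] [CommRing Y] [CommRing Z] {f : X →+* Y} {g : Y →+* Z}
    (hf : f.Etale) (hg : g.Etale) : (g.comp f).Etale := by
  algebraize [f, g, g.comp f]
  rw [← RingHom.algebraMap_toAlgebra (g.comp f), RingHom.etale_algebraMap]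
  exact Algebra.Etale.comp X Y Z

theorem faithfullyFlat_comp {X Y Z : Type*} [CommRing X] [CommRing Y] [CommRing Z] {f : X →+* Y}
    {g : Y →+* Z} (hf : f.FaithfullyFlat) (hg : g.FaithfullyFlat) : (g.comp f).FaithfullyFlat := by
  algebraize [f, g, g.comp f]
  rw [← RingHom.algebraMap_toAlgebra (g.comp f), RingHom.faithfullyFlat_algebraMap_iff]
  exact .trans X Y Z

/-- The same for arbitrary universes. -/
theorem exists_section_int' {S : Type u} {R C : Type v} [CommRing S] [CommRing R] [CommRing C]
    [Algebra S R] [Algebra.IsIntegral S R] [Algebra R C] [Algebra.Etale R C]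
    [Module.FaithfullyFlat R C] :
    ∃ (S' : Type u) (_ : CommRing S') (_ : Algebra S S') (_ : Algebra.Etale S S')
      (_ : Module.FaithfullyFlat S S') (h : C →+* S' ⊗[S] R),
      h.comp (algebraMap R C) = Algebra.TensorProduct.includeRight.toRingHom := by
  let S₁ := ULift.{v} S
  let R₁ := ULift.{u} R
  let C₁ := ULift.{u} C
  letI : Algebra S₁ R₁ := Algebra.ofModule (fun r x y => ULift.ext _ _ (smul_mul_assoc _ _ _))
    (fun r x y => ULift.ext _ _ (mul_smul_comm _ _ _))
  haveI : Algebra.IsIntegral S₁ R₁ := ⟨fun x =>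
    IsIntegral.map_of_comp_eq ((ULift.ringEquiv (R := S)).symm.toRingHom : S →+* S₁)
      ((ULift.ringEquiv (R := R)).symm.toRingHom : R →+* R₁) (RingHom.ext fun s => by
        rw [RingHom.comp_apply, Algebra.algebraMap_eq_smul_one (R := S₁)]
        exact ULift.ext _ _ (Algebra.algebraMap_eq_smul_one (R := S) (A := R) s).symm) (Algebra.IsIntegral.isIntegral x.down)⟩
  letI : Algebra R₁ C₁ := Algebra.ofModule (fun r x y => ULift.ext _ _ (smul_mul_assoc _ _ _))
    (fun r x y => ULift.ext _ _ (mul_smul_comm _ _ _))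
  have halg : algebraMap R₁ C₁ = (ULift.ringEquiv (R := C)).symm.toRingHom.comp
      ((algebraMap R C).comp (ULift.ringEquiv (R := R)).toRingHom) := RingHom.ext fun r => by
    rw [Algebra.algebraMap_eq_smul_one]
    exact ULift.ext _ _ (Algebra.algebraMap_eq_smul_one r.down).symm
  have hC : RingHom.Etale (algebraMap R₁ C₁) ∧ RingHom.FaithfullyFlat (algebraMap R₁ C₁) := by
    have hbR := (ULift.ringEquiv (R := R)).bijective
    have hbC := (ULift.ringEquiv (R := C)).symm.bijective
    rw [halg]
    exact ⟨etale_comp (etale_comp (RingHom.Etale.of_bijective hbR)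
        (RingHom.etale_algebraMap.mpr ‹Algebra.Etale R C›)) (RingHom.Etale.of_bijective hbC),
      faithfullyFlat_comp (faithfullyFlat_comp (RingHom.FaithfullyFlat.of_bijective hbR)
        (RingHom.faithfullyFlat_algebraMap_iff.mpr ‹Module.FaithfullyFlat R C›))
        (RingHom.FaithfullyFlat.of_bijective hbC)⟩
  haveI : Algebra.Etale R₁ C₁ := RingHom.etale_algebraMap.mp hC.1
  haveI : Module.FaithfullyFlat R₁ C₁ := RingHom.faithfullyFlat_algebraMap_iff.mp hC.2
  obtain ⟨T, _, _, hTe, hTf, h, hh⟩ := exists_section_int (S := S₁) (R := R₁) (C := C₁)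
  have hTe' := RingHom.etale_algebraMap.mpr hTe
  have hTf' := RingHom.faithfullyFlat_algebraMap_iff.mpr hTf
  obtain ⟨Y, _, _, hYe, hYf, e, he⟩ : ∃ (Y : Type u) (_ : CommRing Y) (_ : Algebra S Y),
      Algebra.Etale S Y ∧ Module.FaithfullyFlat S Y ∧
        ∃ e : Y ≃+* T, ∀ s, e (algebraMap S Y s) = algebraMap S₁ T (ULift.up s) := by
    letI : Algebra S T := ((algebraMap S₁ T).comp ULift.ringEquiv.symm.toRingHom).toAlgebra
    have hT : RingHom.Etale (algebraMap S T) ∧ RingHom.FaithfullyFlat (algebraMap S T) :=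
      ⟨etale_comp (RingHom.Etale.of_bijective (ULift.ringEquiv (R := S)).symm.bijective) hTe',
        faithfullyFlat_comp
          (RingHom.FaithfullyFlat.of_bijective (ULift.ringEquiv (R := S)).symm.bijective) hTf'⟩
    haveI : Algebra.Etale S T := RingHom.etale_algebraMap.mp hT.1
    haveI : Module.FaithfullyFlat S T := RingHom.faithfullyFlat_algebraMap_iff.mp hT.2
    obtain ⟨Y, _, _, ⟨e⟩⟩ := exists_model (R := S) T
    exact ⟨Y, _, _, Algebra.Etale.of_equiv e.symm,
      Module.FaithfullyFlat.of_linearEquiv (R := S) (M := T) e.toLinearEquiv, e.toRingEquiv,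
      fun s => e.commutes s⟩
  letI : Algebra S₁ (Y ⊗[S] R) := Algebra.ofModule (fun r x y => smul_mul_assoc r.down x y)
    (fun r x y => mul_smul_comm r.down x y)
  have hal : ∀ s : S₁, algebraMap S₁ (Y ⊗[S] R) s = algebraMap S Y s.down ⊗ₜ[S] (1 : R) :=
    fun s => by
      rw [Algebra.algebraMap_eq_smul_one]
      exact (Algebra.algebraMap_eq_smul_one (R := S) (A := Y ⊗[S] R) s.down).symm
  let gT : T →ₐ[S₁] Y ⊗[S] R :=
    { toRingHom := (Algebra.TensorProduct.includeLeftRingHom).comp e.symm.toRingHom
      commutes' := fun s => by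
        show e.symm (algebraMap S₁ T (ULift.up s.down)) ⊗ₜ[S] (1 : R) = _
        rw [← he, RingEquiv.symm_apply_apply, hal] }
  let gR : R₁ →ₐ[S₁] Y ⊗[S] R :=
    { toRingHom := Algebra.TensorProduct.includeRight.toRingHom.comp ULift.ringEquiv.toRingHom
      commutes' := fun s => by
        show (1 : Y) ⊗ₜ[S] (algebraMap S₁ R₁ s).down = _
        rw [show (algebraMap S₁ R₁ s).down = algebraMap S R s.down by
          rw [Algebra.algebraMap_eq_smul_one (R := S₁), Algebra.algebraMap_eq_smul_one (R := S)]; rfl]
        rw [hal, Algebra.algebraMap_eq_smul_one (R := S) (A := R), ← TensorProduct.smul_tmul,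
          ← Algebra.algebraMap_eq_smul_one] }
  refine ⟨Y, inferInstance, inferInstance, inferInstance, inferInstance,
    ((Algebra.TensorProduct.lift gT gR fun _ _ => Commute.all _ _).toRingHom.comp h).comp
      ULift.ringEquiv.symm.toRingHom, RingHom.ext fun b => ?_⟩
  show Algebra.TensorProduct.lift gT gR (fun _ _ => Commute.all _ _) (h (ULift.up (algebraMap R C b))) = _
  rw [show ULift.up (algebraMap R C b) = algebraMap R₁ C₁ (ULift.up b) by rw [halg]; rfl]
  rw [← RingHom.comp_apply h, hh]
  show Algebra.TensorProduct.lift gT gR (fun _ _ => Commute.all _ _) ((1 : T) ⊗ₜ ULift.up b) = _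
  rw [Algebra.TensorProduct.lift_tmul, map_one, one_mul]
  rfl

section Cancel

variable {S : Type u} {R : Type v} [CommRing S] [CommRing R] [Algebra S R]
  (S' : Type u) [CommRing S'] [Algebra S S']
  (A : Type w) [Ring A] [Algebra S A] [Algebra R A] [IsScalarTower S R A]

attribute [local instance] Algebra.TensorProduct.rightAlgebra

/-- `1 ⊗` the structure map. -/
def scal : S' ⊗[S] R →ₐ[S'] S' ⊗[S] A :=
  Algebra.TensorProduct.map (AlgHom.id S' S') (IsScalarTower.toAlgHom S R A)

theorem commute_scal (z : S' ⊗[S] R) (y : S' ⊗[S] A) : Commute (scal S' A z) y := by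
  induction z using TensorProduct.induction_on with
  | zero => simp
  | add a b ha hb => rw [map_add]; exact ha.add_left hb
  | tmul s r =>
    induction y using TensorProduct.induction_on with
    | zero => simp
    | add a b ha hb => exact ha.add_right hb
    | tmul s' a =>
      simp [scal, Commute, SemiconjBy, Algebra.TensorProduct.tmul_mul_tmul, mul_comm s,
        Algebra.commutes]

/-- `(S' ⊗ R) ⊗_R A ≅ S' ⊗ A`. -/
def cancel : (S' ⊗[S] R) ⊗[R] A ≃ₐ[S'] S' ⊗[S] A :=
  letI : Algebra (S' ⊗[S] R) (S' ⊗[S] A) :=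
    (scal S' A).toRingHom.toAlgebra' fun z y => commute_scal S' A z y
  letI : Algebra R (S' ⊗[S] A) := Algebra.compHom _ (algebraMap R (S' ⊗[S] R))
  haveI : IsScalarTower R (S' ⊗[S] R) (S' ⊗[S] A) := IsScalarTower.of_algebraMap_eq fun _ => rfl
  haveI : IsScalarTower S' (S' ⊗[S] R) (S' ⊗[S] A) :=
    IsScalarTower.of_algebraMap_eq fun s => ((scal S' A).commutes s).symm
  let f : (S' ⊗[S] R) ⊗[R] A →ₐ[S'] S' ⊗[S] A :=
    (Algebra.TensorProduct.lift (Algebra.ofId (S' ⊗[S] R) (S' ⊗[S] A))
      { toRingHom := Algebra.TensorProduct.includeRight.toRingHom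
        commutes' := fun r => by
          show (1 : S') ⊗ₜ[S] algebraMap R A r = scal S' A ((1 : S') ⊗ₜ[S] r)
          simp [scal] }
      fun z a => commute_scal S' A z _).restrictScalars S'
  let g : S' ⊗[S] A →ₐ[S'] (S' ⊗[S] R) ⊗[R] A :=
    Algebra.TensorProduct.lift (Algebra.ofId S' _)
      { toRingHom := Algebra.TensorProduct.includeRight.toRingHom
        commutes' := fun s => by
          show (1 : S' ⊗[S] R) ⊗ₜ[R] algebraMap S A s = _
          rw [IsScalarTower.algebraMap_apply S R A, Algebra.algebraMap_eq_smul_one,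
            ← TensorProduct.smul_tmul, Algebra.smul_def, mul_one]
          show _ = algebraMap S (S' ⊗[S] R) s ⊗ₜ[R] (1 : A)
          congr 1
          show (1 : S') ⊗ₜ[S] algebraMap S R s = _
          rw [Algebra.algebraMap_eq_smul_one, ← TensorProduct.smul_tmul, ← Algebra.algebraMap_eq_smul_one]
          rfl }
      fun s a => Algebra.commutes s _
  AlgEquiv.ofAlgHom f g
    (Algebra.TensorProduct.ext (AlgHom.ext fun s => by
      simp [f, g, RingHom.algebraMap_toAlgebra', scal, Algebra.TensorProduct.tmul_mul_tmul])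
    (AlgHom.ext fun a => by
      simp [f, g, RingHom.algebraMap_toAlgebra', scal, Algebra.TensorProduct.tmul_mul_tmul]))
    (AlgHom.ext fun x => by
      induction x using TensorProduct.induction_on with
      | zero => simp
      | add a b ha hb => simp only [map_add, ha, hb]
      | tmul z a =>
        induction z using TensorProduct.induction_on with
        | zero => simp
        | add a b ha hb => simp only [TensorProduct.add_tmul, map_add, ha, hb]
        | tmul s r =>
          have h1 : f ((s ⊗ₜ[S] r) ⊗ₜ[R] a) = s ⊗ₜ[S] (algebraMap R A r * a) := by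
            simp [f, RingHom.algebraMap_toAlgebra', scal, Algebra.TensorProduct.tmul_mul_tmul]
          rw [AlgHom.comp_apply, h1]
          simp only [g, Algebra.TensorProduct.lift_tmul, AlgHom.coe_mk, AlgHom.id_apply]
          show algebraMap S' _ s * ((1 : S' ⊗[S] R) ⊗ₜ[R] (algebraMap R A r * a)) = _
          rw [← Algebra.smul_def r a, ← TensorProduct.smul_tmul, Algebra.smul_def, mul_one,
            Algebra.TensorProduct.algebraMap_apply, Algebra.TensorProduct.tmul_mul_tmul, one_mul]
          congr 1
          show algebraMap S' (S' ⊗[S] R) s * ((1 : S') ⊗ₜ[S] r) = _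
          simp [Algebra.TensorProduct.algebraMap_apply, Algebra.TensorProduct.tmul_mul_tmul])

theorem cancel_tmul (z : S' ⊗[S] R) (a : A) :
    cancel S' A (z ⊗ₜ a) = scal S' A z * ((1 : S') ⊗ₜ[S] a) := rfl

end Cancel

end Groth.Agent.AzInvLib
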