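import Groth.Prelude.Def_AzInv
import Groth.Prelude.Def_W4c2azumayainvolQEt
import Groth.Agent.AzInvLib.FixedSplit
import Mathlib.LinearAlgebra.Matrix.NonsingularInverse
import Mathlib.LinearAlgebra.Dimension.Constructions
import Mathlib.RingTheory.Ideal.GoingUp

/-!
# Hermitian and skew hermitian forms near a prime of the fixed ring

Division free orthogonalisation of hermitian forms at a prime of the fixed ring, and the pairing
step for skew hermitian forms at ramified primes.
-/

set_option autoImplicit false

universe u v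

noncomputable section

open Matrix

namespace Groth.Agent.AzInvLib.Herm

variable {S : Type u} {R : Type v} [CommRing S] [CommRing R] [Algebra S R] (lam : R ≃ₐ[S] R)
variable {n : Type*} [Fintype n] [DecidableEq n] (h : Matrix n n R)

/-- The form of a matrix. -/
def H (x y : n → R) : R := (fun i => lam (x i)) ⬝ᵥ (h *ᵥ y)

omit [DecidableEq n] in
theorem H_def (x y : n → R) : H lam h x y = ∑ i, ∑ j, lam (x i) * h i j * y j := by
  simp only [H, dotProduct, Matrix.mulVec, Finset.mul_sum, mul_assoc]

omit [DecidableEq n] in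
theorem H_add_right (x y z : n → R) : H lam h x (y + z) = H lam h x y + H lam h x z := by
  simp only [H, Matrix.mulVec_add, dotProduct_add]

omit [DecidableEq n] in
theorem H_smul_right (a : R) (x y : n → R) : H lam h x (a • y) = a * H lam h x y := by
  simp only [H, Matrix.mulVec_smul, dotProduct_smul, smul_eq_mul]

omit [DecidableEq n] in
theorem H_add_left (x y z : n → R) : H lam h (x + y) z = H lam h x z + H lam h y z := by
  simp only [H_def, Pi.add_apply, map_add, add_mul, Finset.sum_add_distrib]

omit [DecidableEq n] in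
theorem H_smul_left (a : R) (x y : n → R) : H lam h (a • x) y = lam a * H lam h x y := by
  simp only [H_def, Pi.smul_apply, smul_eq_mul, map_mul, mul_assoc, Finset.mul_sum]

omit [DecidableEq n] in
theorem H_neg_left (x y : n → R) : H lam h (-x) y = -H lam h x y := by
  rw [← neg_one_smul R x, H_smul_left, map_neg, map_one, neg_one_mul]

omit [DecidableEq n] in
theorem H_neg_right (x y : n → R) : H lam h x (-y) = -H lam h x y := by
  rw [← neg_one_smul R y, H_smul_right, neg_one_mul]

omit [DecidableEq n] in
theorem H_sub_left (x y z : n → R) : H lam h (x - y) z = H lam h x z - H lam h y z := by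
  rw [sub_eq_add_neg, H_add_left, H_neg_left, ← sub_eq_add_neg]

omit [DecidableEq n] in
theorem H_sub_right (x y z : n → R) : H lam h x (y - z) = H lam h x y - H lam h x z := by
  rw [sub_eq_add_neg, H_add_right, H_neg_right, ← sub_eq_add_neg]

omit [DecidableEq n] in
theorem H_sum_right {κ : Type*} (s : Finset κ) (x : n → R) (y : κ → n → R) :
    H lam h x (∑ i ∈ s, y i) = ∑ i ∈ s, H lam h x (y i) := by
  simp only [H, Matrix.mulVec_sum, dotProduct_sum]

omit [DecidableEq n] in
theorem H_sum_left {κ : Type*} (s : Finset κ) (x : κ → n → R) (y : n → R) :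
    H lam h (∑ i ∈ s, x i) y = ∑ i ∈ s, H lam h (x i) y := by
  classical
  induction s using Finset.induction_on with
  | empty => simp [H_def]
  | @insert a s ha ih => rw [Finset.sum_insert ha, Finset.sum_insert ha, H_add_left, ih]

omit [DecidableEq n] in
/-- An `e`-hermitian matrix gives an `e`-hermitian form. -/
theorem lam_H (hlam : ∀ r, lam (lam r) = r) {e : R} (herm : AzInv.lamTr lam h = e • h)
    (x y : n → R) : lam (H lam h x y) = e * H lam h y x := by
  simp only [H_def, map_sum, map_mul, hlam, Finset.mul_sum]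
  rw [Finset.sum_comm]
  refine Finset.sum_congr rfl fun j _ => Finset.sum_congr rfl fun i _ => ?_
  have e1 : lam (h i j) = e * h j i := by
    have := congrFun (congrFun herm j) i
    simpa using this
  rw [e1]; ring

theorem H_single_left (i : n) (y : n → R) : H lam h (Pi.single i 1) y = (h *ᵥ y) i := by
  have : (fun j => lam ((Pi.single i (1 : R) : n → R) j)) = Pi.single i 1 := by
    funext j
    rcases eq_or_ne j i with rfl | hne
    · simp
    · simp [hne]
  rw [H, this, single_dotProduct, one_mul]

omit [DecidableEq n] in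
/-- The Gram matrix of a family of vectors. -/
theorem gram_eq (v : n → n → R) (i j : n) :
    (AzInv.lamTr lam (Matrix.of fun a k => v k a : Matrix n n R) * h *
      (Matrix.of fun a k => v k a : Matrix n n R)) i j = H lam h (v i) (v j) := by
  rw [H_def, Matrix.mul_apply]
  simp only [Matrix.mul_apply, AzInv.lamTr_apply, Matrix.of_apply, Finset.sum_mul]
  exact Finset.sum_comm

section Prime

variable (Q : Ideal R) [Q.IsPrime]

/-- Scaling the identity is not of small rank modulo a prime. -/
theorem exists_coord_notMem {k : ℕ} (hk : k < Fintype.card n) (u : Fin k → n → R) (A : n → Fin k → R)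
    {D : R} (hD : D ∉ Q) :
    ∃ i l : n, (D • (Pi.single i 1 : n → R) - ∑ m, A i m • u m) l ∉ Q := by
  classical
  by_contra! hall
  let K := FractionRing (R ⧸ Q)
  let π : R →+* K := (algebraMap (R ⧸ Q) K).comp (Ideal.Quotient.mk Q)
  have hπ : ∀ r, π r = 0 ↔ r ∈ Q := fun r => by
    simp [π, Ideal.Quotient.eq_zero_iff_mem]
  have hD' : π D ≠ 0 := fun h => hD ((hπ D).1 h)
  let w : Fin k → n → K := fun m a => π (u m a)
  have hmem : ∀ i : n, (Pi.single i 1 : n → K) ∈ Submodule.span K (Set.range w) := by
    intro i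
    rw [Submodule.mem_span_range_iff_exists_fun]
    refine ⟨fun m => (π D)⁻¹ * π (A i m), funext fun l => ?_⟩
    have h1 := (hπ _).2 (hall i l)
    simp only [Pi.sub_apply, Pi.smul_apply, smul_eq_mul, Finset.sum_apply, map_sub, map_mul,
      map_sum, sub_eq_zero] at h1
    have h2 : π ((Pi.single i (1 : R) : n → R) l) = (Pi.single i (1 : K) : n → K) l := by
      rcases eq_or_ne l i with rfl | hne
      · simp
      · simp [hne]
    simp only [Finset.sum_apply, Pi.smul_apply, smul_eq_mul, w, mul_assoc, ← Finset.mul_sum]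
    rw [← h1, h2, inv_mul_cancel_left₀ hD']
  have htop : Submodule.span K (Set.range w) = ⊤ := by
    rw [eq_top_iff, ← (Pi.basisFun K n).span_eq, Submodule.span_le]
    rintro _ ⟨i, rfl⟩
    rw [Pi.basisFun_apply]
    exact hmem i
  have := finrank_range_le_card (R := K) w
  rw [Set.finrank, htop, finrank_top, Module.finrank_pi, Fintype.card_fin] at this
  omega

/-- An invertible matrix does not kill a vector modulo a prime. -/
theorem exists_mulVec_notMem (hh : IsUnit h.det) {y : n → R} (hy : ∃ l, y l ∉ Q) :
    ∃ i, (h *ᵥ y) i ∉ Q := by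
  by_contra! hall
  obtain ⟨l, hl⟩ := hy
  refine hl ?_
  have : y = h⁻¹ *ᵥ (h *ᵥ y) := by
    rw [Matrix.mulVec_mulVec, Matrix.nonsing_inv_mul _ hh, Matrix.one_mulVec]
  rw [this]
  exact Ideal.sum_mem _ fun i _ => Ideal.mul_mem_left _ _ (hall i)

/-- A symmetric matrix with zero diagonal in characteristic two of odd size is singular. -/
theorem det_eq_zero_of_alternating {k : ℕ} (hk : Odd k) {K : Type*} [CommRing K] (h2 : (2 : K) = 0)
    (M : Matrix (Fin k) (Fin k) K) (hsym : ∀ i j, M i j = M j i) (hdiag : ∀ i, M i i = 0) :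
    M.det = 0 := by
  let G : Matrix (Fin k) (Fin k) (MvPolynomial (Fin k × Fin k) ℤ) := Matrix.of fun i j =>
    if i < j then MvPolynomial.X (i, j) else if j < i then -MvPolynomial.X (j, i) else 0
  have hG : Gᵀ = -G := by
    refine Matrix.ext fun i j => ?_
    rcases lt_trichotomy i j with hlt | rfl | hlt
    · simp [G, hlt, hlt.not_gt]
    · simp [G]
    · simp [G, hlt, hlt.not_gt]
  have hdet : G.det = 0 := by
    have h1 : G.det = -G.det := by
      conv_lhs => rw [← Matrix.det_transpose, hG, Matrix.det_neg, Fintype.card_fin, hk.neg_one_pow]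
      rw [neg_one_mul]
    have h2' : (2 : MvPolynomial (Fin k × Fin k) ℤ) * G.det = 0 := by rw [two_mul]; exact eq_neg_iff_add_eq_zero.mp h1
    exact (mul_eq_zero.mp h2').resolve_left two_ne_zero
  let f : MvPolynomial (Fin k × Fin k) ℤ →+* K := MvPolynomial.eval₂Hom (Int.castRingHom K) fun x => M x.1 x.2
  have hM : M = G.map f := by
    ext i j
    have hneg : ∀ c : K, -c = c := fun c => by
      rw [neg_eq_iff_add_eq_zero, ← two_mul, h2, zero_mul]
    rcases lt_trichotomy i j with hlt | rfl | hlt
    · simp [f, G, hlt]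
    · simp [f, G, hdiag]
    · simp [f, G, hlt, hlt.not_gt, hneg, hsym i j]
  rw [hM, ← RingHom.mapMatrix_apply, ← RingHom.map_det, hdet, map_zero]

end Prime

section Fixed

variable (hlam : ∀ r, lam (lam r) = r) (hS : RInv.IsFixedRing S R lam.toRingEquiv)
variable (p : Ideal S) [p.IsPrime]

include hlam hS in
theorem exists_over : ∃ Q : Ideal R, Q.IsPrime ∧ Q.comap (algebraMap S R) = p := by
  haveI : Algebra.IsIntegral S R := isIntegral_fixed (lam := lam.toRingEquiv) hlam hS
  obtain ⟨Q, -, hQ, hQp⟩ := Ideal.exists_ideal_over_prime_of_isIntegral p (⊥ : Ideal R)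
    (fun x hx => by rw [Ideal.mem_comap, Ideal.mem_bot] at hx; simp [hS.1 (hx.trans (map_zero _).symm)])
  exact ⟨Q, hQ, hQp⟩

include hS in
theorem exists_fixed {x : R} (hx : lam x = x) : ∃ c : S, algebraMap S R c = x := (hS.2 x).mp hx

variable {p} {Q : Ideal R} [Q.IsPrime] (hQ : Q.comap (algebraMap S R) = p)

include hQ in
omit [p.IsPrime] [Q.IsPrime] in
theorem mem_iff (c : S) : algebraMap S R c ∈ Q ↔ c ∈ p := by rw [← hQ, Ideal.mem_comap]

end Fixed

section Diag

variable {n : ℕ} (h : Matrix (Fin n) (Fin n) R)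

/-- Orthogonality to a family. -/
def Perp {k : ℕ} (v : Fin k → Fin n → R) (x : Fin n → R) : Prop := ∀ i, H lam h (v i) x = 0

variable (hlam : ∀ r, lam (lam r) = r) (hS : RInv.IsFixedRing S R lam.toRingEquiv)
  (herm : AzInv.lamTr lam h = h) {p : Ideal S} [p.IsPrime] {Q : Ideal R} [Q.IsPrime]
  (hQ : Q.comap (algebraMap S R) = p)

include hlam herm in
theorem lam_H' (x y : Fin n → R) : lam (H lam h x y) = H lam h y x := by
  rw [lam_H lam h hlam (e := 1) (by rw [one_smul]; exact herm), one_mul]

include hlam herm in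
theorem perp_left {k : ℕ} {v : Fin k → Fin n → R} {x : Fin n → R} (hx : Perp lam h v x) (i : Fin k) :
    H lam h x (v i) = 0 := by
  rw [← lam_H' lam h hlam herm, hx i, map_zero]

/-- The projection to the orthogonal complement of an orthogonal family. -/
def proj {k : ℕ} (v : Fin k → Fin n → R) (d : Fin k → S) (x : Fin n → R) : Fin n → R :=
  algebraMap S R (∏ i, d i) • x -
    ∑ i, (algebraMap S R (∏ j ∈ Finset.univ.erase i, d j) * H lam h (v i) x) • v i

theorem perp_proj {k : ℕ} {v : Fin k → Fin n → R} {d : Fin k → S}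
    (hv : ∀ i j, H lam h (v i) (v j) = if i = j then algebraMap S R (d i) else 0) (x : Fin n → R) :
    Perp lam h v (proj lam h v d x) := fun i => by
  rw [proj, H_sub_right, H_smul_right, H_sum_right, Finset.sum_eq_single i]
  · rw [H_smul_right, hv, if_pos rfl, ← Finset.prod_erase_mul _ _ (Finset.mem_univ i), map_mul]
    ring
  · intro j _ hne
    rw [H_smul_right, hv, if_neg hne.symm, mul_zero]
  · simp

include hlam herm in
theorem H_proj_left {k : ℕ} {v : Fin k → Fin n → R} (d : Fin k → S) (x : Fin n → R) {y : Fin n → R}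
    (hy : Perp lam h v y) :
    H lam h (proj lam h v d x) y = algebraMap S R (∏ i, d i) * H lam h x y := by
  rw [proj, H_sub_left, H_smul_left, AlgEquiv.commutes, H_sum_left,
    Finset.sum_eq_zero (fun i _ => by rw [H_smul_left, hy i, mul_zero]), sub_zero]

include hlam hS herm hQ in
/-- Two orthogonal vectors to the family pairing outside the prime. -/
theorem exists_pair {k : ℕ} (hk : k < n) (hh : IsUnit h.det) {v : Fin k → Fin n → R} {d : Fin k → S}
    (hd : ∀ i, d i ∉ p) (hv : ∀ i j, H lam h (v i) (v j) = if i = j then algebraMap S R (d i) else 0) :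
    ∃ y z, Perp lam h v y ∧ Perp lam h v z ∧ H lam h y z ∉ Q := by
  have hD : algebraMap S R (∏ i, d i) ∉ Q := fun hmem => by
    rw [mem_iff hQ] at hmem
    obtain ⟨i, -, hi⟩ := (Ideal.IsPrime.prod_mem_iff (p := p)).mp hmem
    exact hd i hi
  obtain ⟨i, l, hil⟩ := exists_coord_notMem Q (n := Fin n) (by simpa using hk) v
    (fun i m => algebraMap S R (∏ j ∈ Finset.univ.erase m, d j) * H lam h (v m) (Pi.single i 1)) hD
  obtain ⟨j, hj⟩ := exists_mulVec_notMem h Q hh
    (y := proj lam h v d (Pi.single i 1)) ⟨l, by simpa [proj] using hil⟩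
  refine ⟨proj lam h v d (Pi.single j 1), proj lam h v d (Pi.single i 1),
    perp_proj lam h hv _, perp_proj lam h hv _, ?_⟩
  rw [H_proj_left lam h hlam herm d _ (perp_proj lam h hv _), H_single_left]
  exact fun hmem => (Ideal.IsPrime.mem_or_mem ‹Q.IsPrime› hmem).elim hD hj

/-- There is a vector orthogonal to the family with value outside the prime. -/
def Good (p : Ideal S) {k : ℕ} (v : Fin k → Fin n → R) : Prop :=
  ∃ (x : Fin n → R) (c : S), Perp lam h v x ∧ c ∉ p ∧ H lam h x x = algebraMap S R c

include hlam hS herm hQ in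
theorem value_mem_of_not_good {k : ℕ} {v : Fin k → Fin n → R} (hg : ¬ Good lam h p v)
    {x : Fin n → R} (hx : Perp lam h v x) : H lam h x x ∈ Q := by
  obtain ⟨c, hc⟩ := exists_fixed lam hS (lam_H' lam h hlam herm x x)
  rw [← hc, mem_iff hQ]
  by_contra hcp
  exact hg ⟨x, c, hx, hcp, hc.symm⟩

include hlam hS herm hQ in
theorem trace_mem_of_not_good {k : ℕ} {v : Fin k → Fin n → R} (hg : ¬ Good lam h p v)
    {y z : Fin n → R} (hy : Perp lam h v y) (hz : Perp lam h v z) (a : R) :
    a * H lam h y z + lam (a * H lam h y z) ∈ Q := by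
  have hyz : Perp lam h v (y + a • z) := fun i => by
    rw [H_add_right, H_smul_right, hy i, hz i, mul_zero, add_zero]
  have h1 := value_mem_of_not_good lam h hlam hS herm hQ hg hyz
  have h2 := value_mem_of_not_good lam h hlam hS herm hQ hg hy
  have h3 : H lam h (a • z) (a • z) ∈ Q := value_mem_of_not_good lam h hlam hS herm hQ hg fun i => by
    rw [H_smul_right, hz i, mul_zero]
  have e : a * H lam h y z + lam (a * H lam h y z) =
      H lam h (y + a • z) (y + a • z) - H lam h y y - H lam h (a • z) (a • z) := by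
    simp only [H_add_left, H_add_right, H_smul_left, H_smul_right, map_mul, lam_H' lam h hlam herm]
    ring
  rw [e]
  exact sub_mem (sub_mem h1 h2) h3

include hlam hS herm hQ in
theorem ramified_of_not_good {k : ℕ} {v : Fin k → Fin n → R} (hg : ¬ Good lam h p v)
    {y z : Fin n → R} (hy : Perp lam h v y) (hz : Perp lam h v z) (hc : H lam h y z ∉ Q) :
    (∀ a : R, lam a - a ∈ Q) ∧ (2 : R) ∈ Q := by
  set c := H lam h y z
  have h1 : c + lam c ∈ Q := by
    simpa using trace_mem_of_not_good lam h hlam hS herm hQ hg hy hz 1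
  have key : ∀ a, c * (a - lam a) ∈ Q := fun a => by
    have h2 := trace_mem_of_not_good lam h hlam hS herm hQ hg hy hz a
    have : c * (a - lam a) = a * c + lam (a * c) - lam a * (c + lam c) := by rw [map_mul]; ring
    rw [this]
    exact sub_mem h2 (Ideal.mul_mem_left _ _ h1)
  have hfix : ∀ a, lam a - a ∈ Q := fun a => by
    have := (Ideal.IsPrime.mem_or_mem ‹Q.IsPrime› (key a)).resolve_left hc
    rw [← neg_sub]
    exact neg_mem this
  refine ⟨hfix, ?_⟩
  have : c * 2 ∈ Q := by
    rw [show c * 2 = c + lam c - (lam c - c) by ring]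
    exact sub_mem h1 (hfix c)
  exact (Ideal.IsPrime.mem_or_mem ‹Q.IsPrime› this).resolve_left hc

include hlam hS herm hQ in
theorem not_trace_of_not_good {k : ℕ} (hk : k < n) (hh : IsUnit h.det) {v : Fin k → Fin n → R}
    {d : Fin k → S} (hd : ∀ i, d i ∉ p)
    (hv : ∀ i j, H lam h (v i) (v j) = if i = j then algebraMap S R (d i) else 0)
    (hg : ¬ Good lam h p v) :
    (¬ ∃ (a : R) (c : S), a + lam a = algebraMap S R c ∧ c ∉ p) ∧ (2 : R) ∈ Q := by
  obtain ⟨y, z, hy, hz, hc⟩ := exists_pair lam h hlam hS herm hQ hk hh hd hv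
  obtain ⟨hfix, h2⟩ := ramified_of_not_good lam h hlam hS herm hQ hg hy hz hc
  refine ⟨fun ⟨a, c, hac, hcp⟩ => hcp ?_, h2⟩
  rw [← mem_iff hQ, ← hac, show a + lam a = 2 * a + (lam a - a) by ring]
  exact add_mem (Ideal.mul_mem_right _ _ h2) (hfix a)

include hlam hS herm in
/-- Orthogonal vectors with values outside `p`. -/
theorem exists_orth (hh : IsUnit h.det)
    (hcase : Odd n ∨ ∃ (a : R) (c : S), a + lam a = algebraMap S R c ∧ c ∉ p) :
    ∃ (v : Fin n → Fin n → R) (d : Fin n → S), (∀ i, d i ∉ p) ∧
      ∀ i j, H lam h (v i) (v j) = if i = j then algebraMap S R (d i) else 0 := by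
  obtain ⟨Q, hQp, hQ⟩ := exists_over lam hlam hS p
  suffices ∀ k ≤ n, ∃ (v : Fin k → Fin n → R) (d : Fin k → S), (∀ i, d i ∉ p) ∧
      (∀ i j, H lam h (v i) (v j) = if i = j then algebraMap S R (d i) else 0) ∧
      (k < n → Good lam h p v) by
    obtain ⟨v, d, hd, hv, -⟩ := this n le_rfl
    exact ⟨v, d, hd, hv⟩
  intro k
  induction k with
  | zero =>
    intro _
    refine ⟨Fin.elim0, Fin.elim0, fun i => i.elim0, fun i => i.elim0, fun hn => ?_⟩
    by_contra hg
    obtain ⟨htr, h2⟩ := not_trace_of_not_good lam h hlam hS herm hQ (d := Fin.elim0) hn hh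
      (fun i => i.elim0) (fun i => i.elim0) hg
    have hodd := hcase.resolve_right htr
    have hperp : ∀ x, Perp lam h (Fin.elim0 : Fin 0 → Fin n → R) x := fun x i => i.elim0
    have hfix : ∀ a, lam a - a ∈ Q := by
      obtain ⟨y, z, hy, hz, hc⟩ := exists_pair lam h hlam hS herm hQ (d := Fin.elim0) hn hh
        (fun i => i.elim0) (fun i => i.elim0 : ∀ i j : Fin 0, _)
      exact (ramified_of_not_good lam h hlam hS herm hQ hg hy hz hc).1
    have hdet : (h.map (Ideal.Quotient.mk Q)).det = 0 := by
      refine det_eq_zero_of_alternating hodd ?_ _ (fun i j => ?_) fun i => ?_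
      · rw [← map_ofNat (Ideal.Quotient.mk Q) 2]
        exact Ideal.Quotient.eq_zero_iff_mem.mpr h2
      · have e1 : lam (h j i) = h i j := congrFun (congrFun herm i) j
        simp only [Matrix.map_apply]
        rw [Ideal.Quotient.mk_eq_mk_iff_sub_mem, ← e1]
        exact hfix _
      · simp only [Matrix.map_apply]
        rw [Ideal.Quotient.eq_zero_iff_mem]
        have := value_mem_of_not_good lam h hlam hS herm hQ hg (hperp (Pi.single i 1))
        rwa [H_single_left, Matrix.mulVec_single_one] at this
    rw [← RingHom.mapMatrix_apply, ← RingHom.map_det, Ideal.Quotient.eq_zero_iff_mem] at hdet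
    exact hQp.ne_top (Ideal.eq_top_of_isUnit_mem _ hdet hh)
  | succ k ih =>
    intro hk
    obtain ⟨v, d, hd, hv, hgood⟩ := ih (Nat.le_of_succ_le hk)
    obtain ⟨x, a, hx, ha, hxa⟩ := hgood (Nat.lt_of_succ_le hk)
    have build : ∀ (x : Fin n → R) (a : S), Perp lam h v x → a ∉ p → H lam h x x = algebraMap S R a →
        (∀ i, (Fin.snoc d a : Fin (k + 1) → S) i ∉ p) ∧
          ∀ i j, H lam h ((Fin.snoc v x : Fin (k + 1) → Fin n → R) i) ((Fin.snoc v x : Fin (k + 1) → Fin n → R) j) =
            if i = j then algebraMap S R ((Fin.snoc d a : Fin (k + 1) → S) i) else 0 := by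
      intro x a hx ha hxa
      refine ⟨fun i => ?_, fun i j => ?_⟩
      · induction i using Fin.lastCases with
        | last => simpa using ha
        | cast i => simpa using hd i
      · induction i using Fin.lastCases with
        | last =>
          induction j using Fin.lastCases with
          | last => simp [hxa]
          | cast j => simp [perp_left lam h hlam herm hx j, (Fin.castSucc_lt_last j).ne']
        | cast i =>
          induction j using Fin.lastCases with
          | last => simp [hx i, (Fin.castSucc_lt_last i).ne]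
          | cast j => simp [hv]
    have hperp : ∀ {x z : Fin n → R}, Perp lam h v z → H lam h x z = 0 →
        Perp lam h (Fin.snoc v x : Fin (k + 1) → Fin n → R) z := by
      intro x z h1 h2 i
      induction i using Fin.lastCases with
      | last => simpa using h2
      | cast i => simpa using h1 i
    by_cases hg : k + 1 < n → Good lam h p (Fin.snoc v x : Fin (k + 1) → Fin n → R)
    · exact ⟨_, _, (build x a hx ha hxa).1, (build x a hx ha hxa).2, hg⟩
    obtain ⟨hk1, hg⟩ : k + 1 < n ∧ ¬ Good lam h p (Fin.snoc v x : Fin (k + 1) → Fin n → R) := by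
      rwa [Classical.not_imp] at hg
    obtain ⟨b1, b2⟩ := build x a hx ha hxa
    obtain ⟨y, z, hy, hz, hc⟩ := exists_pair lam h hlam hS herm hQ hk1 hh b1 b2
    obtain ⟨hfix, -⟩ := ramified_of_not_good lam h hlam hS herm hQ hg hy hz hc
    have hxy : H lam h x y = 0 := by simpa using hy (Fin.last k)
    have hxz : H lam h x z = 0 := by simpa using hz (Fin.last k)
    have hyx : H lam h y x = 0 := by rw [← lam_H' lam h hlam herm, hxy, map_zero]
    obtain ⟨b, hb⟩ := exists_fixed lam hS (lam_H' lam h hlam herm y y)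
    obtain ⟨b', hb'⟩ := exists_fixed lam hS (lam_H' lam h hlam herm z z)
    have hbp : b ∈ p := by
      rw [← mem_iff hQ, hb]; exact value_mem_of_not_good lam h hlam hS herm hQ hg hy
    have hb'p : b' ∈ p := by
      rw [← mem_iff hQ, hb']; exact value_mem_of_not_good lam h hlam hS herm hQ hg hz
    set c := H lam h y z with hc_def
    obtain ⟨N, hN⟩ := exists_fixed lam hS (x := c * lam c) (by rw [map_mul, hlam]; ring)
    have hNp : N ∉ p := fun hmem => by
      rw [← mem_iff hQ, hN] at hmem
      rcases Ideal.IsPrime.mem_or_mem ‹Q.IsPrime› hmem with hm | hm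
      · exact hc hm
      · exact hc (by rw [← sub_sub_cancel (lam c) c]; exact sub_mem hm (hfix c))
    have hqp : a + b ∉ p := fun hmem => ha (by simpa using sub_mem hmem hbp)
    have hyv : Perp lam h v y := fun i => by simpa using hy i.castSucc
    have hzv : Perp lam h v z := fun i => by simpa using hz i.castSucc
    let x' := x + y
    let x'' := algebraMap S R (a + b) • z - c • x'
    have hx' : Perp lam h v x' := fun i => by rw [H_add_right, hx i, hyv i, add_zero]
    have hq' : H lam h x' x' = algebraMap S R (a + b) := by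
      simp only [x', H_add_left, H_add_right, hxy, hyx, hxa, hb, map_add]; ring
    have hx'z : H lam h x' z = c := by simp only [x', H_add_left, hxz, zero_add, hc_def]
    have hzx' : H lam h z x' = lam c := by rw [← lam_H' lam h hlam herm, hx'z]
    have hx'' : Perp lam h v x'' := fun i => by
      rw [H_sub_right, H_smul_right, H_smul_right, hzv i, hx' i, mul_zero, mul_zero, sub_zero]
    have hor : H lam h x' x'' = 0 := by
      rw [H_sub_right, H_smul_right, H_smul_right, hx'z, hq']; ring
    obtain ⟨c1, c2⟩ := build x' (a + b) hx' hqp hq'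
    refine ⟨_, _, c1, c2, fun _ => ⟨x'', (a + b) * ((a + b) * b' - N), hperp hx'' hor, ?_, ?_⟩⟩
    · intro hmem
      rcases Ideal.IsPrime.mem_or_mem ‹p.IsPrime› hmem with hm | hm
      · exact hqp hm
      · exact hNp (by simpa using sub_mem (Ideal.mul_mem_left p (a + b) hb'p) hm)
    · simp only [x'', H_sub_left, H_sub_right, H_smul_left, H_smul_right, hx'z, hzx', hq', ← hb',
        AlgEquiv.commutes]
      simp only [map_mul, map_sub, map_add, hN]
      ring

end Diag

section Skew

variable {n : ℕ} (h : Matrix (Fin n) (Fin n) R) {m : ℕ} (x y : Fin m → Fin n → R)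

/-- A hyperbolic family. -/
def IsHyp : Prop :=
  ∀ i j, H lam h (x i) (x j) = 0 ∧ H lam h (y i) (y j) = 0 ∧
    H lam h (x i) (y j) = if i = j then 1 else 0

variable (hlam : ∀ r, lam (lam r) = r) (hS : RInv.IsFixedRing S R lam.toRingEquiv)
  (skew : AzInv.lamTr lam h = -h) {p : Ideal S} [p.IsPrime] {Q : Ideal R} [Q.IsPrime]
  (hQ : Q.comap (algebraMap S R) = p)

include hlam skew in
theorem lam_H_skew (u w : Fin n → R) : lam (H lam h u w) = -H lam h w u := by
  rw [lam_H lam h hlam (e := -1) (by rw [neg_one_smul]; exact skew), neg_one_mul]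

/-- The projection to the orthogonal complement of a hyperbolic family. -/
def hproj (u : Fin n → R) : Fin n → R :=
  u - ∑ i, (H lam h (x i) u • y i - H lam h (y i) u • x i)

variable {x y}

include hlam skew in
theorem perp_hproj (hxy : IsHyp lam h x y) (u : Fin n → R) :
    Perp lam h x (hproj lam h x y u) ∧ Perp lam h y (hproj lam h x y u) := by
  have hyx : ∀ i j, H lam h (y i) (x j) = if i = j then -1 else 0 := fun i j => by
    have := lam_H_skew lam h hlam skew (x j) (y i)
    rw [(hxy j i).2.2] at this
    rcases eq_or_ne i j with rfl | hne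
    · simp only [if_pos, map_one] at this
      rw [if_pos rfl, ← neg_neg (H lam h (y i) (x i)), ← this]
    · rw [if_neg hne.symm, map_zero] at this
      rw [if_neg hne]
      exact neg_eq_zero.mp this.symm
  constructor <;> intro i <;> rw [hproj, H_sub_right, H_sum_right, Finset.sum_eq_single i]
  · rw [H_sub_right, H_smul_right, H_smul_right, (hxy i i).1, (hxy i i).2.2, if_pos rfl]; ring
  · intro j _ hne
    rw [H_sub_right, H_smul_right, H_smul_right, (hxy i j).1, (hxy i j).2.2, if_neg hne.symm]; ring
  · simp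
  · rw [H_sub_right, H_smul_right, H_smul_right, (hxy i i).2.1, hyx, if_pos rfl]; ring
  · intro j _ hne
    rw [H_sub_right, H_smul_right, H_smul_right, (hxy i j).2.1, hyx, if_neg hne.symm]; ring
  · simp

include hlam hS skew hQ in
/-- At a ramified prime: two further vectors pairing outside the prime. -/
theorem exists_plane (hh : IsUnit h.det) (hfix : ∀ a, lam a - a ∈ Q) (h2 : (2 : R) ∉ Q)
    (hxy : IsHyp lam h x y) (hm : 2 * m < n) :
    ∃ (u w : Fin n → R) (s : S), Perp lam h x u ∧ Perp lam h y u ∧ Perp lam h x w ∧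
      Perp lam h y w ∧ s ∉ p ∧ H lam h u w = algebraMap S R s ∧
      H lam h u u ∈ Q ∧ H lam h w w ∈ Q := by
  have hval : ∀ u, H lam h u u ∈ Q := fun u => by
    have h1 := hfix (H lam h u u)
    rw [lam_H_skew lam h hlam skew, show -H lam h u u - H lam h u u = -(2 * H lam h u u) by ring,
      neg_mem_iff] at h1
    exact (Ideal.IsPrime.mem_or_mem ‹Q.IsPrime› h1).resolve_left h2
  let v : Fin (m + m) → Fin n → R := Fin.append y x
  let A : Fin n → Fin (m + m) → R := fun i =>
    Fin.append (fun j => H lam h (x j) (Pi.single i 1)) (fun j => -H lam h (y j) (Pi.single i 1))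
  obtain ⟨i, l, hil⟩ := exists_coord_notMem Q (n := Fin n) (by simp; omega) v A
    (D := 1) (fun h1 => ‹Q.IsPrime›.ne_top (Q.eq_top_iff_one.mpr h1))
  have hw : hproj lam h x y (Pi.single i 1) = (1 : R) • (Pi.single i 1 : Fin n → R) - ∑ j, A i j • v j := by
    rw [hproj, one_smul, Fin.sum_univ_add, Finset.sum_sub_distrib]
    simp only [A, v, Fin.append_left, Fin.append_right, neg_smul, Finset.sum_neg_distrib]
    abel
  obtain ⟨j, hj⟩ := exists_mulVec_notMem h Q hh
    (y := hproj lam h x y (Pi.single i 1)) ⟨l, by rw [hw]; exact hil⟩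
  obtain ⟨hw1, hw2⟩ := perp_hproj lam h hlam skew hxy (Pi.single i 1)
  obtain ⟨hu1, hu2⟩ := perp_hproj lam h hlam skew hxy (Pi.single j 1)
  set w := hproj lam h x y (Pi.single i 1)
  set u := hproj lam h x y (Pi.single j 1) with hu
  have hc : H lam h u w ∉ Q := by
    have e : H lam h u w = H lam h (Pi.single j 1) w := by
      rw [hu, hproj, H_sub_left, H_sum_left]
      simp [H_sub_left, H_smul_left, hw1 _, hw2 _]
    rwa [e, H_single_left]
  set c := H lam h u w
  obtain ⟨s, hs⟩ := exists_fixed lam hS (x := c * lam c) (by rw [map_mul, hlam]; ring)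
  refine ⟨u, lam c • w, s, hu1, hu2, fun i => ?_, fun i => ?_, fun hmem => ?_, ?_, hval _, hval _⟩
  · rw [H_smul_right, hw1 i, mul_zero]
  · rw [H_smul_right, hw2 i, mul_zero]
  · rw [← mem_iff hQ, hs] at hmem
    rcases Ideal.IsPrime.mem_or_mem ‹Q.IsPrime› hmem with hm' | hm'
    · exact hc hm'
    · exact hc (by rw [← sub_sub_cancel (lam c) c]; exact sub_mem hm' (hfix c))
  · rw [H_smul_right, hs, mul_comm]

end Skew

end Groth.Agent.AzInvLib.Herm
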