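import Groth.Agent.AzInvLib.FixedMatrix
import Groth.Agent.AzInvLib.Herm
import Mathlib.RingTheory.Etale.Pi
import Mathlib.RingTheory.Spectrum.Prime.Chevalley

/-!
# Étale neighbourhoods in the base and local isomorphism of involutions
-/

set_option autoImplicit false

universe u v w w'

noncomputable section

open scoped TensorProduct

namespace Groth.Agent.AzInvLib

/-- An étale neighbourhood: an étale algebra with a chosen prime. -/
structure Nbd (S : Type u) [CommRing S] where
  /-- the algebra -/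
  X : Type u
  [ring : CommRing X]
  [alg : Algebra S X]
  [et : Algebra.Etale S X]
  /-- the point -/
  pt : PrimeSpectrum X

attribute [instance] Nbd.ring Nbd.alg Nbd.et

namespace Nbd

variable {S : Type u} [CommRing S]

/-- The image in the base. -/
def base (N : Nbd S) : PrimeSpectrum S := PrimeSpectrum.comap (algebraMap S N.X) N.pt

/-- The trivial neighbourhood. -/
def self (p : PrimeSpectrum S) : Nbd S where
  X := S
  pt := p

theorem base_self (p : PrimeSpectrum S) : (self p).base = p := by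
  show PrimeSpectrum.comap (algebraMap S S) p = p
  rw [Algebra.algebraMap_self, PrimeSpectrum.comap_id]

/-- A map of neighbourhoods. -/
structure Hom (N' N : Nbd S) where
  /-- the algebra map -/
  g : N.X →ₐ[S] N'.X
  map_pt : PrimeSpectrum.comap g.toRingHom N'.pt = N.pt

theorem Hom.base_eq {N' N : Nbd S} (f : Hom N' N) : N'.base = N.base := by
  show PrimeSpectrum.comap (algebraMap S N'.X) N'.pt = PrimeSpectrum.comap (algebraMap S N.X) N.pt
  rw [← f.map_pt, ← PrimeSpectrum.comap_comp_apply (algebraMap S N.X) f.g.toRingHom N'.pt]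
  congr 1
  exact f.g.comp_algebraMap.symm

/-- Composition. -/
def Hom.comp {N'' N' N : Nbd S} (f' : Hom N'' N') (f : Hom N' N) : Hom N'' N where
  g := f'.g.comp f.g
  map_pt := by
    rw [← f.map_pt, ← f'.map_pt, ← PrimeSpectrum.comap_comp_apply]
    rfl

/-- The identity. -/
def Hom.id (N : Nbd S) : Hom N N where
  g := AlgHom.id S N.X
  map_pt := PrimeSpectrum.ext rfl

theorem Hom.notMem {N' N : Nbd S} (f : Hom N' N) {x : N.X} (hx : x ∉ N.pt.asIdeal) :
    f.g x ∉ N'.pt.asIdeal := fun h => hx (by rw [← f.map_pt]; exact h)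

/-- A neighbourhood from an étale algebra over one of a neighbourhood and a point above. -/
def extend (N : Nbd S) (Y : Type u) [CommRing Y] [Algebra N.X Y] [Algebra.Etale N.X Y]
    (q : PrimeSpectrum Y) : Nbd S :=
  letI : Algebra S Y := ((algebraMap N.X Y).comp (algebraMap S N.X)).toAlgebra
  haveI : IsScalarTower S N.X Y := IsScalarTower.of_algebraMap_eq' rfl
  haveI : Algebra.Etale S Y := Algebra.Etale.comp S N.X Y
  { X := Y, pt := q }

/-- The map from an extended neighbourhood. -/
def extendHom (N : Nbd S) (Y : Type u) [CommRing Y] [Algebra N.X Y] [Algebra.Etale N.X Y]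
    (q : PrimeSpectrum Y) (hq : PrimeSpectrum.comap (algebraMap N.X Y) q = N.pt) :
    Hom (N.extend Y q) N where
  g := { toRingHom := (algebraMap N.X Y : N.X →+* Y), commutes' := fun _ => rfl }
  map_pt := hq

/-- Invert an element outside the point. -/
theorem exists_isUnit (N : Nbd S) {x : N.X} (hx : x ∉ N.pt.asIdeal) :
    ∃ (N' : Nbd S) (f : Hom N' N), IsUnit (f.g x) := by
  let Y := Localization.Away x
  haveI : Algebra.Etale N.X Y := Algebra.Etale.of_isLocalizationAway x
  have hp : N.pt ∈ Set.range (PrimeSpectrum.comap (algebraMap N.X Y)) := by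
    rw [PrimeSpectrum.localization_away_comap_range Y x]
    simpa [PrimeSpectrum.mem_basicOpen] using hx
  obtain ⟨q, hq⟩ := hp
  exact ⟨N.extend Y q, N.extendHom Y q hq, IsLocalization.Away.algebraMap_isUnit (S := Y) x⟩

end Nbd

/-- Units have square roots locally for the étale topology. -/
def HasSqrt (S : Type u) [CommRing S] : Prop :=
  ∀ (S₁ : Type u) [CommRing S₁] [Algebra S S₁] [Algebra.Etale S S₁] (x : S₁ˣ),
    ∃ (S₂ : Type u) (_ : CommRing S₂) (_ : Algebra S₁ S₂) (_ : Algebra.Etale S₁ S₂)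
      (_ : Module.FaithfullyFlat S₁ S₂) (y : S₂), y * y = algebraMap S₁ S₂ ↑x

namespace Nbd

variable {S : Type u} [CommRing S]

/-- A square root of an element outside the point. -/
theorem exists_sqrt (hsq : HasSqrt S) (N : Nbd S) {x : N.X} (hx : x ∉ N.pt.asIdeal) :
    ∃ (N' : Nbd S) (f : Hom N' N) (y : N'.X), y * y = f.g x ∧ IsUnit y := by
  obtain ⟨N₁, f₁, hu⟩ := N.exists_isUnit hx
  obtain ⟨Y, _, _, _, _, y, hy⟩ := hsq N₁.X hu.unit
  obtain ⟨q, hq⟩ := PrimeSpectrum.comap_surjective_of_faithfullyFlat (A := N₁.X) (B := Y) N₁.pt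
  let f₂ : Hom (N₁.extend Y q) N₁ := N₁.extendHom Y q hq
  refine ⟨N₁.extend Y q, f₂.comp f₁, y, hy, ?_⟩
  have : IsUnit (y * y) := hy.symm ▸ hu.map (algebraMap N₁.X Y)
  exact isUnit_of_mul_isUnit_left this

/-- Square roots of finitely many elements. -/
theorem exists_sqrts (hsq : HasSqrt S) : ∀ {k : ℕ} (N : Nbd S) (x : Fin k → N.X)
    (_ : ∀ i, x i ∉ N.pt.asIdeal),
    ∃ (N' : Nbd S) (f : Hom N' N) (y : Fin k → N'.X), ∀ i, y i * y i = f.g (x i) ∧ IsUnit (y i)
  | 0, N, _, _ => ⟨N, Hom.id N, Fin.elim0, fun i => i.elim0⟩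
  | k + 1, N, x, hx => by
    obtain ⟨N₁, f₁, y, hy, hyu⟩ := exists_sqrt hsq N (hx (Fin.last k))
    obtain ⟨N₂, f₂, z, hz⟩ := exists_sqrts hsq (k := k) N₁ (fun i => f₁.g (x i.castSucc))
      fun i => f₁.notMem (hx _)
    refine ⟨N₂, f₂.comp f₁, Fin.snoc z (f₂.g y), fun i => ?_⟩
    induction i using Fin.lastCases with
    | last =>
      rw [Fin.snoc_last, ← map_mul, hy]
      exact ⟨rfl, hyu.map f₂.g⟩
    | cast i => rw [Fin.snoc_castSucc]; exact hz i

end Nbd

section Ring

variable {S : Type u} {R : Type v} [CommRing S] [CommRing R] [Algebra S R] (lam : R ≃ₐ[S] R)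
  (X : Type u) [CommRing X] [Algebra S X]

/-- The base change of the involution. -/
abbrev lamX : X ⊗[S] R ≃ₐ[X] X ⊗[S] R := Algebra.TensorProduct.congr AlgEquiv.refl lam

theorem lamX_tmul (x : X) (r : R) : lamX lam X (x ⊗ₜ r) = x ⊗ₜ lam r := rfl

theorem lamX_lamX (hlam : ∀ r, lam (lam r) = r) (z : X ⊗[S] R) : lamX lam X (lamX lam X z) = z := by
  induction z using TensorProduct.induction_on with
  | zero => simp
  | tmul x r => rw [lamX_tmul, lamX_tmul, hlam]
  | add a b ha hb => rw [map_add, map_add, ha, hb]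

/-- The fixed ring after flat base change. -/
theorem isFixed_lamX (hS : RInv.IsFixedRing S R lam.toRingEquiv) [Module.Flat S X] :
    RInv.IsFixedRing X (X ⊗[S] R) (lamX lam X).toRingEquiv := by
  let d : R →ₗ[S] R := lam.toLinearEquiv.toLinearMap - LinearMap.id
  have hex : Function.Exact (Algebra.linearMap S R) d := fun r => by
    simp only [d, LinearMap.sub_apply, LinearMap.id_apply, sub_eq_zero, Set.mem_range]
    exact hS.2 r
  have h1 := Module.Flat.lTensor_exact X hex
  have hinj := Module.Flat.lTensor_preserves_injective_linearMap (M := X) (Algebra.linearMap S R) hS.1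
  have hα : ∀ x : X, (Algebra.linearMap S R).lTensor X (x ⊗ₜ (1 : S)) = algebraMap X (X ⊗[S] R) x :=
    fun x => by
      rw [LinearMap.lTensor_tmul, Algebra.linearMap_apply, map_one]
      rfl
  have hsurj : ∀ z : X ⊗[S] S, ∃ x : X, z = x ⊗ₜ (1 : S) :=
    fun z => ⟨TensorProduct.rid S X z, ((TensorProduct.rid S X).symm_apply_apply z).symm⟩
  refine ⟨fun a b hab => ?_, fun z => ?_⟩
  · rw [← hα, ← hα] at hab
    simpa using congrArg (TensorProduct.rid S X) (hinj hab)
  · have hd : ∀ z : X ⊗[S] R, d.lTensor X z = lamX lam X z - z := fun z => by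
      induction z using TensorProduct.induction_on with
      | zero => simp
      | tmul x r => simp [d, TensorProduct.tmul_sub]
      | add a b ha hb => rw [map_add, map_add, ha, hb]; abel
    show lamX lam X z = z ↔ _
    rw [← sub_eq_zero, ← hd]
    refine (h1 z).trans ⟨?_, ?_⟩
    · rintro ⟨w, rfl⟩
      obtain ⟨x, rfl⟩ := hsurj w
      exact ⟨x, (hα x).symm⟩
    · rintro ⟨x, rfl⟩
      exact ⟨_, hα x⟩

variable {X} {Y : Type u} [CommRing Y] [Algebra S Y]

/-- Pushing the extended ring forward. -/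
abbrev pushR (g : X →ₐ[S] Y) : X ⊗[S] R →ₐ[S] Y ⊗[S] R :=
  Algebra.TensorProduct.map g (AlgHom.id S R)

theorem pushR_lamX (g : X →ₐ[S] Y) (z : X ⊗[S] R) :
    pushR g (lamX lam X z) = lamX lam Y (pushR g z) := by
  induction z using TensorProduct.induction_on with
  | zero => simp
  | tmul x r => rfl
  | add a b ha hb => simp only [map_add, ha, hb]

theorem pushR_algebraMap (g : X →ₐ[S] Y) (x : X) :
    pushR (R := R) g (algebraMap X (X ⊗[S] R) x) = algebraMap Y (Y ⊗[S] R) (g x) := by
  show pushR g (x ⊗ₜ[S] (1 : R)) = g x ⊗ₜ[S] (1 : R)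
  simp [pushR]

theorem pushR_lamTr {n : Type*} (g : X →ₐ[S] Y) (M : Matrix n n (X ⊗[S] R)) :
    (AzInv.lamTr (lamX lam X) M).map (pushR g) = AzInv.lamTr (lamX lam Y) (M.map (pushR g)) := by
  ext i j
  exact pushR_lamX lam g _

end Ring

section Glue

variable {S : Type u} {R : Type v} [CommRing S] [CommRing R] [Algebra S R] (lam : R ≃ₐ[S] R)
  {A : Type w} [Ring A] [Algebra S A] [Algebra R A] [IsScalarTower S R A]
  {A' : Type w'} [Ring A'] [Algebra S A'] [Algebra R A'] [IsScalarTower S R A']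

/-- An isomorphism of algebras with involution over `X`. -/
def IsoOver (t : AzInv.LamInv R A lam) (t' : AzInv.LamInv R A' lam) (X : Type u) [CommRing X]
    [Algebra S X] : Prop :=
  ∃ f : X ⊗[S] A ≃ₐ[X] X ⊗[S] A',
    (∀ (r : R) (x : X ⊗[S] A),
      f (((1 : X) ⊗ₜ[S] algebraMap R A r) * x) = ((1 : X) ⊗ₜ[S] algebraMap R A' r) * f x) ∧
    ∀ x : X ⊗[S] A, f (t.bc S lam X x) = t'.bc S lam X (f x)

/-- Local isomorphisms near all points give a local isomorphism. -/
theorem locIsoEt_of_local (t : AzInv.LamInv R A lam) (t' : AzInv.LamInv R A' lam)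
    (h : ∀ p : PrimeSpectrum S, ∃ N : Nbd S, N.base = p ∧ IsoOver lam t t' N.X) :
    AzInv.LocIsoEt S lam t t' := by
  classical
  choose N hN f hf1 hf2 using h
  let U : PrimeSpectrum S → Set (PrimeSpectrum S) := fun p =>
    Set.range (PrimeSpectrum.comap (algebraMap S (N p).X))
  have hU : ∀ p, IsOpen (U p) := fun p =>
    PrimeSpectrum.isOpenMap_comap_of_hasGoingDown_of_finitePresentation.isOpen_range
  obtain ⟨s, hs⟩ := isCompact_univ.elim_finite_subcover U hU
    fun p _ => Set.mem_iUnion.mpr ⟨p, (N p).pt, hN p⟩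
  let S' := Π i : s, (N i).X
  haveI : Module.Flat S S' :=
    Module.Flat.of_linearEquiv (DirectSum.linearEquivFunOnFintype S s fun i => (N i).X).symm
  have hff : Module.FaithfullyFlat S S' := by
    refine Module.FaithfullyFlat.of_comap_surjective fun p => ?_
    obtain ⟨i, hi, q, hq⟩ : ∃ i ∈ s, p ∈ U i := by
      simpa only [Set.mem_iUnion, exists_prop] using hs (Set.mem_univ p)
    refine ⟨PrimeSpectrum.comap (Pi.evalRingHom (fun i : s => (N i).X) ⟨i, hi⟩) q, ?_⟩
    rw [← hq, ← PrimeSpectrum.comap_comp_apply]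
    rfl
  let F : S' ⊗[S] A ≃ₐ[S] Π i : s, (N i).X ⊗[S] A :=
    (Algebra.TensorProduct.comm S S' A).trans
      ((Algebra.TensorProduct.piRight S S A (fun i : s => (N i).X)).trans
        (AlgEquiv.piCongrRight fun i => Algebra.TensorProduct.comm S A (N i).X))
  let F' : S' ⊗[S] A' ≃ₐ[S] Π i : s, (N i).X ⊗[S] A' :=
    (Algebra.TensorProduct.comm S S' A').trans
      ((Algebra.TensorProduct.piRight S S A' (fun i : s => (N i).X)).trans
        (AlgEquiv.piCongrRight fun i => Algebra.TensorProduct.comm S A' (N i).X))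
  have hF : ∀ (c : S') (a : A) (i : s), F (c ⊗ₜ a) i = c i ⊗ₜ a := fun c a i => rfl
  have hF' : ∀ (c : S') (a : A') (i : s), F' (c ⊗ₜ a) i = c i ⊗ₜ a := fun c a i => rfl
  let g : S' ⊗[S] A ≃ₐ[S] S' ⊗[S] A' :=
    F.trans ((AlgEquiv.piCongrRight fun i : s => (f i).restrictScalars S).trans F'.symm)
  have hg : ∀ x i, F' (g x) i = f i (F x i) := fun x i => by
    show F' (F'.symm _) i = _
    rw [AlgEquiv.apply_symm_apply]
    rfl
  have hbc : ∀ (x : S' ⊗[S] A) (i : s), F (t.bc S lam S' x) i = t.bc S lam (N i).X (F x i) := by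
    intro x i
    induction x using TensorProduct.induction_on with
    | zero => simp
    | tmul c a => rw [AzInv.LamInv.bc_tmul, hF, hF, AzInv.LamInv.bc_tmul]
    | add a b ha hb => simp only [map_add, Pi.add_apply, ha, hb]
  have hbc' : ∀ (x : S' ⊗[S] A') (i : s), F' (t'.bc S lam S' x) i = t'.bc S lam (N i).X (F' x i) := by
    intro x i
    induction x using TensorProduct.induction_on with
    | zero => simp
    | tmul c a => rw [AzInv.LamInv.bc_tmul, hF', hF', AzInv.LamInv.bc_tmul]
    | add a b ha hb => simp only [map_add, Pi.add_apply, ha, hb]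
  let f' : S' ⊗[S] A ≃ₐ[S'] S' ⊗[S] A' := AlgEquiv.ofRingEquiv (f := g.toRingEquiv) fun c => by
    apply F'.injective
    funext i
    show F' (g (c ⊗ₜ[S] (1 : A))) i = F' (c ⊗ₜ[S] (1 : A')) i
    rw [hg, hF, hF']
    exact (f i).commutes (c i)
  refine ⟨S', inferInstance, inferInstance, inferInstance, hff, f', fun r x => ?_, fun x => ?_⟩
  · apply F'.injective
    funext i
    show F' (g _) i = F' (_ * g x) i
    rw [hg, map_mul, map_mul, Pi.mul_apply, Pi.mul_apply, hg, hF, hF', Pi.one_apply]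
    exact hf1 i r _
  · apply F'.injective
    funext i
    show F' (g _) i = F' (t'.bc S lam S' (g x)) i
    rw [hg, hbc, hbc', hg]
    exact hf2 i _

end Glue

end Groth.Agent.AzInvLib
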