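import Groth.Prelude.Def_AzInv
import Groth.Agent.Azu.Twist
import Groth.Agent.CSA.HenselLift
import Groth.Agent.CSA.Division
import Mathlib.RingTheory.MatrixAlgebra
import Mathlib.Algebra.Algebra.Shrink

/-!
Azumaya algebras over products of strictly henselian local rings split, and their automorphisms are inner.
-/

set_option autoImplicit false
set_option linter.style.haveILetI false

universe u v w

open scoped TensorProduct
open IsLocalRing

namespace Groth.Agent.AzInvLib

/-- Splitting over a strictly henselian local ring. -/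
theorem nonempty_algEquiv_matrix_of_sh (T : Type v) [CommRing T] [HenselianLocalRing T]
    [IsSepClosed (ResidueField T)] (B : Type v) [Ring B] [Algebra T B] [IsAzumaya T B] {n : ℕ}
    (hrk : Module.finrank T B = n ^ 2) : Nonempty (B ≃ₐ[T] Matrix (Fin n) (Fin n) T) := by
  classical
  let k := ResidueField T
  obtain ⟨_, _, _⟩ := CSA.LocalAzu.isCSA_fibre T B
  obtain ⟨m, hm, ⟨e₀⟩⟩ := CSA.exists_algEquiv_matrix_of_isSepClosed (k := k) (k ⊗[T] B)
  have hfr := e₀.toLinearEquiv.finrank_eq
  rw [CSA.LocalAzu.finrank_fibre T B, hrk, Module.finrank_matrix, Module.finrank_self, Fintype.card_fin, mul_one,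
    ← sq] at hfr
  obtain rfl : n = m := Nat.pow_left_injective two_ne_zero hfr
  haveI : Nonempty (Fin n) := ⟨⟨0, Nat.pos_of_ne_zero hm⟩⟩
  haveI := IsAzumaya.matrix (R := T) (n := Fin n)
  let E₀ : Matrix (Fin n) (Fin n) k ≃ₐ[T] k ⊗[T] Matrix (Fin n) (Fin n) T := matrixEquivTensor (Fin n) T k
  let E : Matrix (Fin n) (Fin n) k ≃ₐ[k] k ⊗[T] Matrix (Fin n) (Fin n) T :=
    AlgEquiv.ofRingEquiv (f := E₀.toRingEquiv) fun x => by
      rw [AlgEquiv.coe_ringEquiv, ← E₀.eq_symm_apply]
      rw [Algebra.TensorProduct.algebraMap_apply, Algebra.algebraMap_self, RingHom.id_apply,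
        matrixEquivTensor_apply_symm, Matrix.map_one _ (map_zero _) (map_one _)]
      ext i j
      simp [Matrix.algebraMap_matrix_apply, Matrix.one_apply]
  obtain ⟨e, -⟩ := CSA.HenselLift.exists_algEquiv_lift (R := T) (A := B) (B := Matrix (Fin n) (Fin n) T) (e₀.trans E)
  exact ⟨e⟩

variable {R : Type v} [CommRing R] {A : Type w} [Ring A] [Algebra R A] [IsAzumaya R A]

/-- A splitting map into matrices over one strictly henselian quotient. -/
theorem exists_algHom_quotient {n : ℕ} (hrk : ∀ p : PrimeSpectrum R, Module.rankAtStalk (R := R) A p = n ^ 2)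
    (J : Ideal R) [HenselianLocalRing (R ⧸ J)] [IsSepClosed (ResidueField (R ⧸ J))] :
    Nonempty (A →ₐ[R] Matrix (Fin n) (Fin n) (R ⧸ J)) := by
  haveI : Small.{v} A := Module.Finite.small R A
  let e₁ : Shrink.{v} A ≃ₐ[R] A := Shrink.algEquiv (R := R) (α := A)
  haveI : IsAzumaya R (Shrink.{v} A) := IsAzumaya.of_AlgEquiv (R := R) _ _ e₁.symm
  let B := (R ⧸ J) ⊗[R] Shrink.{v} A
  haveI : IsAzumaya (R ⧸ J) B := Groth.Agent.Azu.baseChange (R := R) (A := Shrink.{v} A) (R ⧸ J)
  haveI : Module.Free (R ⧸ J) B := CSA.LocalAzu.free (R ⧸ J) B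
  have hfr : Module.finrank (R ⧸ J) B = n ^ 2 := by
    let q : PrimeSpectrum (R ⧸ J) := ⟨maximalIdeal _, inferInstance⟩
    have h := congrFun (Module.rankAtStalk_eq_finrank_of_free (R := R ⧸ J) (M := B)) q
    rw [Module.rankAtStalk_baseChange, Module.rankAtStalk_eq_of_equiv e₁.toLinearEquiv, hrk] at h
    simpa using h.symm
  obtain ⟨f⟩ := nonempty_algEquiv_matrix_of_sh (R ⧸ J) B hfr
  exact ⟨((f.restrictScalars R).toAlgHom.comp Algebra.TensorProduct.includeRight).comp e₁.symm.toAlgHom⟩

variable {ι : Type} [Fintype ι] {e : ι → R}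

/-- Lift matrices along `R ⧸ (1 - e) ≅ e R`. -/
theorem exists_section {e : R} (he : IsIdempotentElem e) :
    ∃ s : (R ⧸ Ideal.span {1 - e}) →ₗ[R] R,
      (∀ x y, s x * s y = s (x * y)) ∧ s 1 = e ∧ ∀ x, e * s x = s x := by
  refine ⟨Submodule.liftQ (Ideal.span {1 - e}) (LinearMap.mulLeft R e) ?_, ?_, mul_one e, ?_⟩
  · rw [Ideal.span_le, Set.singleton_subset_iff, SetLike.mem_coe, LinearMap.mem_ker, LinearMap.mulLeft_apply,
      mul_sub, mul_one, he.eq, sub_self]
  · intro x y
    obtain ⟨x, rfl⟩ := Ideal.Quotient.mk_surjective x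
    obtain ⟨y, rfl⟩ := Ideal.Quotient.mk_surjective y
    show (e * x) * (e * y) = e * (x * y)
    rw [mul_mul_mul_comm, he.eq]
  · intro x
    obtain ⟨x, rfl⟩ := Ideal.Quotient.mk_surjective x
    show e * (e * x) = e * x
    rw [← mul_assoc, he.eq]

/-- Splitting over a product of strictly henselian local rings. -/
theorem exists_algHom_matrix {n : ℕ} (hrk : ∀ p : PrimeSpectrum R, Module.rankAtStalk (R := R) A p = n ^ 2)
    (he : CompleteOrthogonalIdempotents e)
    (hsh : ∀ i, ∃ _ : HenselianLocalRing (R ⧸ Ideal.span {1 - e i}),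
      IsSepClosed (ResidueField (R ⧸ Ideal.span {1 - e i}))) :
    Nonempty (A →ₐ[R] Matrix (Fin n) (Fin n) R) := by
  classical
  have hg : ∀ i, Nonempty (A →ₐ[R] Matrix (Fin n) (Fin n) (R ⧸ Ideal.span {1 - e i})) := fun i => by
    obtain ⟨_, _⟩ := hsh i
    exact exists_algHom_quotient hrk _
  let g := fun i => (hg i).some
  choose s hs hs1 hse using fun i => exists_section (he.idem i)
  let G : A →ₗ[R] Matrix (Fin n) (Fin n) R := ∑ i, (s i).mapMatrix ∘ₗ (g i).toLinearMap
  have hG : ∀ a p q, G a p q = ∑ i, s i (g i a p q) := fun a p q => by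
    simp [G, Matrix.sum_apply]
  refine ⟨AlgHom.ofLinearMap G ?_ ?_⟩
  · ext p q
    rw [hG]
    simp only [map_one, Matrix.one_apply]
    split
    · simp only [hs1, he.complete]
    · simp
  · intro a b
    ext p q
    rw [Matrix.mul_apply]
    simp only [hG, map_mul, Matrix.mul_apply, map_sum, ← hs]
    rw [Finset.sum_comm]
    refine Finset.sum_congr rfl fun r _ => ?_
    rw [Finset.sum_mul]
    refine Finset.sum_congr rfl fun i _ => ?_
    rw [Finset.mul_sum, Finset.sum_eq_single i]
    · intro j _ hji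
      rw [← hse i, ← hse j, mul_mul_mul_comm, he.ortho (Ne.symm hji), zero_mul]
    · simp

/-- Automorphisms over a product of local rings are inner. -/
theorem exists_inner (φ : A ≃ₐ[R] A) (he : CompleteOrthogonalIdempotents e)
    (hloc : ∀ i, IsLocalRing (R ⧸ Ideal.span {1 - e i})) :
    ∃ u : Aˣ, ∀ a, φ a * ↑u = ↑u * a := by
  classical
  have h : ∀ i, ∃ l x : A, (∀ a, φ a * l = l * a) ∧ e i • (l * x) = e i • (1 : A) ∧
      e i • (φ x * l) = e i • (1 : A) := fun i => by
    haveI := hloc i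
    let p := (maximalIdeal (R ⧸ Ideal.span {1 - e i})).comap (Ideal.Quotient.mk _)
    obtain ⟨l, hl, f, hf, x, h1, h2⟩ := Groth.Agent.Azu.exists_twist_unit φ p
    obtain ⟨g, hg⟩ := isUnit_iff_exists_inv'.1 (IsLocalRing.notMem_maximalIdeal.1 hf)
    obtain ⟨g, rfl⟩ := Ideal.Quotient.mk_surjective g
    obtain ⟨c, hc⟩ : ∃ c, c * (1 - e i) = g * f - 1 := by
      rw [← map_mul, ← map_one (Ideal.Quotient.mk (Ideal.span {1 - e i})), Ideal.Quotient.eq,
        Ideal.mem_span_singleton'] at hg
      exact hg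
    have hgf : e i * (g * f) = e i := by
      linear_combination (-(e i)) * hc + (-c) * (he.idem i).eq
    refine ⟨l, g • x, hl, ?_, ?_⟩
    · rw [mul_smul_comm, h1, smul_smul, smul_smul, mul_assoc, hgf]
    · rw [map_smul, smul_mul_assoc, h2, smul_smul, smul_smul, mul_assoc, hgf]
  choose l x hl h1 h2 using h
  let U := ∑ i, e i • l i
  have hU : ∀ a, φ a * U = U * a := fun a => by
    simp only [U, Finset.mul_sum, Finset.sum_mul, mul_smul_comm, smul_mul_assoc, hl]
  let X := ∑ i, e i • x i
  have h3 : U * X = 1 := by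
    simp only [U, X, Finset.mul_sum, Finset.sum_mul]
    rw [← one_smul R (1 : A), ← he.complete, Finset.sum_smul]
    refine Finset.sum_congr rfl fun i _ => ?_
    rw [Finset.sum_eq_single i]
    · rw [smul_mul_assoc, mul_smul_comm, h1, smul_smul, (he.idem i).eq]
    · intro j _ hji
      rw [smul_mul_assoc, mul_smul_comm, smul_smul]
      first
        | rw [he.ortho hji, zero_smul]
        | rw [he.ortho (Ne.symm hji), zero_smul]
    · simp
  have h4 : φ X * U = 1 := by
    simp only [U, X, map_sum, map_smul, Finset.mul_sum, Finset.sum_mul]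
    rw [← one_smul R (1 : A), ← he.complete, Finset.sum_smul]
    refine Finset.sum_congr rfl fun i _ => ?_
    rw [Finset.sum_eq_single i]
    · rw [smul_mul_assoc, mul_smul_comm, h2, smul_smul, (he.idem i).eq]
    · intro j _ hji
      rw [smul_mul_assoc, mul_smul_comm, smul_smul]
      first
        | rw [he.ortho hji, zero_smul]
        | rw [he.ortho (Ne.symm hji), zero_smul]
    · simp
  exact ⟨⟨U, X, h3, by rw [← left_inv_eq_right_inv h4 h3]; exact h4⟩, hU⟩

end Groth.Agent.AzInvLib
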