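import Groth.Agent.Hens.Stage
import Groth.Prelude.Def_W4c2azumayainvolQEt
import Mathlib.RingTheory.Flat.Basic
import Mathlib.LinearAlgebra.TensorProduct.Vanishing
import Mathlib.LinearAlgebra.TensorProduct.Finiteness
import Mathlib.RingTheory.Spectrum.Prime.Topology
import Mathlib.RingTheory.Spectrum.Prime.Chevalley
import Mathlib.RingTheory.Etale.Pi
import Mathlib.FieldTheory.IsSepClosed
import Mathlib.RingTheory.Polynomial.ScaleRoots

/-!
Strict étale localisations at an arbitrary prime: residue field, stages of tensor products, covers.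
-/

set_option autoImplicit false
set_option linter.style.haveILetI false

universe u v

open scoped TensorProduct
open IsLocalRing Polynomial

namespace Groth.Agent.AzInvLib

variable {S : Type u} [CommRing S]

section Point

variable (p : Ideal S) [p.IsPrime]

/-- The chosen separably closed field at `p`. -/
abbrev KSep : Type u := SeparableClosure p.ResidueField

/-- The strict étale localisation of `S` at `p`. -/
abbrev SLoc : Type u := Hens.EtLoc S (KSep p)

theorem point_surjective : Function.Surjective (Hens.point S (KSep p)) := by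
  intro a
  let κ := p.ResidueField
  have hsep : IsSeparable κ a := Algebra.IsSeparable.isSeparable _ a
  have hsurj : ∀ c : κ, ∃ r s : S, s ∉ p ∧ c * algebraMap S κ s = algebraMap S κ r := fun c => by
    obtain ⟨y, rfl⟩ := IsLocalRing.residue_surjective (R := Localization.AtPrime p) c
    obtain ⟨r, s, rfl⟩ := IsLocalization.exists_mk'_eq p.primeCompl y
    refine ⟨r, (s : S), s.2, ?_⟩
    show residue _ _ * residue _ (algebraMap S (Localization.AtPrime p) (s : S)) = _
    rw [← map_mul, IsLocalization.mk'_spec]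
    rfl
  choose r s hs hrs using hsurj
  let F := minpoly κ a
  let t : S := ∏ i ∈ Finset.range F.natDegree, s (F.coeff i)
  have ht : algebraMap S κ t ≠ 0 := by
    rw [map_prod, Finset.prod_ne_zero_iff]
    exact fun i _ h => hs _ (Ideal.algebraMap_residueField_eq_zero.1 h)
  have hFm : F.Monic := minpoly.monic hsep.isIntegral
  let G : κ[X] := F.scaleRoots (algebraMap S κ t)
  have hlift : G ∈ Polynomial.lifts (algebraMap S κ) := by
    rw [Polynomial.lifts_iff_coeff_lifts]
    intro i
    rcases lt_trichotomy i F.natDegree with hi | rfl | hi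
    · obtain ⟨c, hc⟩ := Finset.dvd_prod_of_mem (fun i => s (F.coeff i)) (Finset.mem_range.2 hi)
      refine ⟨r (F.coeff i) * c * t ^ (F.natDegree - i - 1), ?_⟩
      obtain ⟨m, hm⟩ : ∃ m, F.natDegree - i = m + 1 := ⟨F.natDegree - i - 1, by omega⟩
      rw [coeff_scaleRoots, hm, show m + 1 - 1 = m from rfl, map_mul, map_mul, ← hrs, map_pow, pow_succ,
        show algebraMap S κ t = algebraMap S κ (s (F.coeff i)) * algebraMap S κ c by rw [← map_mul]; exact congrArg _ hc]
      ring
    · exact ⟨1, by rw [map_one, coeff_scaleRoots_natDegree, hFm.leadingCoeff]⟩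
    · exact ⟨0, by rw [map_zero, coeff_scaleRoots, coeff_eq_zero_of_natDegree_lt hi, zero_mul]⟩
  obtain ⟨H, hH, -, hHm⟩ := Polynomial.lifts_and_degree_eq_and_monic hlift ((monic_scaleRoots_iff _).2 hFm)
  let b := algebraMap κ (KSep p) (algebraMap S κ t) * a
  have hev : ∀ q : S[X], aeval b q = aeval b (q.map (algebraMap S κ)) := fun q =>
    (aeval_map_algebraMap κ b q).symm
  have hder : aeval b (derivative G) ≠ 0 := by
    intro h0
    have hG : G.comp (C (algebraMap S κ t) * X) = C (algebraMap S κ t ^ F.natDegree) * F := by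
      ext i
      rw [comp_C_mul_X_coeff, coeff_scaleRoots, coeff_C_mul]
      rcases le_or_gt i F.natDegree with hi | hi
      · obtain ⟨m, hm⟩ := Nat.exists_eq_add_of_le hi
        rw [hm, Nat.add_sub_cancel_left, pow_add]
        ring
      · rw [coeff_eq_zero_of_natDegree_lt hi]; ring
    have h1 := congrArg (fun q => aeval a (derivative q)) hG
    simp only [derivative_comp, derivative_mul, derivative_C, derivative_X, zero_mul, zero_add, mul_one, map_mul,
      aeval_C, aeval_comp, aeval_X] at h1
    rw [show aeval (algebraMap κ (KSep p) (algebraMap S κ t) * a) (derivative G) = 0 from h0, mul_zero] at h1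
    exact (mul_ne_zero ((_root_.map_ne_zero _).2 (pow_ne_zero _ ht))
      (hsep.aeval_derivative_ne_zero (minpoly.aeval _ _))) h1.symm
  let P : StandardEtalePair S := ⟨H, hHm, derivative H, 1, 0, 1, by simp⟩
  have hP : P.HasMap b := by
    refine ⟨?_, IsUnit.mk0 _ ?_⟩
    · rw [hev, hH]
      exact scaleRoots_aeval_eq_zero (minpoly.aeval κ a)
    · show aeval b (derivative H) ≠ 0
      rw [hev, ← derivative_map, hH]
      exact hder
  have hu : IsUnit (algebraMap S (SLoc p) t) :=
    isUnit_of_map_unit (Hens.point S (KSep p)).toRingHom _ (by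
      show IsUnit (Hens.point S (KSep p) (algebraMap S _ t))
      rw [AlgHom.commutes, IsScalarTower.algebraMap_apply S κ (KSep p)]
      exact IsUnit.mk0 _ ((_root_.map_ne_zero _).2 ht))
  obtain ⟨w, hw⟩ := isUnit_iff_exists_inv'.1 hu
  refine ⟨w * Hens.gen ⟨P, b, hP⟩, ?_⟩
  have hw' : Hens.point S (KSep p) w * algebraMap κ (KSep p) (algebraMap S κ t) = 1 := by
    rw [← IsScalarTower.algebraMap_apply, ← AlgHom.commutes (Hens.point S (KSep p)), ← map_mul, hw, map_one]
  rw [map_mul, Hens.point_gen, show (⟨P, b, hP⟩ : Hens.Idx S (KSep p)).2.1 = b from rfl, ← mul_assoc, hw', one_mul]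

/-- The residue field of the strict étale localisation is separably closed. -/
theorem isSepClosed_residue : IsSepClosed (ResidueField (SLoc p)) := by
  let e := Hens.residueEquiv (point_surjective p)
  refine IsSepClosed.of_exists_root _ fun f hf hirr hsep => ?_
  obtain ⟨x, hx⟩ := IsSepClosed.exists_root (f.map e.toRingHom)
    (by rw [degree_map]; exact (degree_pos_of_irreducible hirr).ne') hsep.map
  refine ⟨e.symm x, e.injective ?_⟩
  rw [map_zero, ← hx]
  exact (eval_map_apply (f := e.toRingHom) _).symm.trans (by simp)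

/-- The closed point of the strict étale localisation lies over `p`. -/
theorem comap_ker_point {T : Type u} [CommRing T] [Algebra S T] (θ : T →ₐ[S] SLoc p) :
    (RingHom.ker ((Hens.point S (KSep p)).comp θ).toRingHom).comap (algebraMap S T) = p := by
  ext r
  rw [Ideal.mem_comap, RingHom.mem_ker, AlgHom.toRingHom_eq_coe, RingHom.coe_coe, AlgHom.commutes,
    IsScalarTower.algebraMap_apply S p.ResidueField (KSep p), map_eq_zero,
    Ideal.algebraMap_residueField_eq_zero]

variable {p} {M : Type v} [AddCommGroup M] [Module S M]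

/-- An element killed in the limit is killed at a stage. -/
theorem exists_stage_zero {T : Type u} [CommRing T] [Algebra S T] [Algebra.Etale S T] (θ : T →ₐ[S] SLoc p)
    (z : M ⊗[S] T) (hz : θ.toLinearMap.lTensor M z = 0) :
    ∃ (T' : Type u) (_ : CommRing T') (_ : Algebra S T') (_ : Algebra.Etale S T')
      (f : T →ₐ[S] T') (θ' : T' →ₐ[S] SLoc p), θ'.comp f = θ ∧ f.toLinearMap.lTensor M z = 0 := by
  classical
  obtain ⟨s, rfl⟩ := TensorProduct.exists_finset z
  rw [map_sum, ← Finset.sum_coe_sort] at hz
  simp only [LinearMap.lTensor_tmul, AlgHom.toLinearMap_apply] at hz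
  obtain ⟨k, a, y, hy, ha⟩ := TensorProduct.vanishesTrivially_of_sum_tmul_eq_zero_of_rTensor_injective S
    (Module.Flat.rTensor_preserves_injective_linearMap _ (Submodule.injective_subtype _)) hz
  obtain ⟨B, _, _, hB, η, hη⟩ := Hens.exists_stage_finset (Finset.univ.image y)
  choose yb hyb using fun j => hη _ (Finset.mem_image.2 ⟨j, Finset.mem_univ _, rfl⟩)
  haveI : Algebra.Etale S (T ⊗[S] B) := Algebra.Etale.comp S T _
  let ζ : T ⊗[S] B →ₐ[S] SLoc p := Algebra.TensorProduct.lift θ η (fun _ _ => Commute.all _ _)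
  have h : ∀ i : s, ζ ((i : M × T).2 ⊗ₜ 1) = ζ (∑ j, a i j • (1 : T) ⊗ₜ[S] yb j) := fun i => by
    simp only [ζ, map_sum, map_smul, Algebra.TensorProduct.lift_tmul, map_one, mul_one, one_mul]
    rw [show θ (i : M × T).2 = _ from hy i]
    exact Finset.sum_congr rfl fun j _ => congrArg _ (hyb j).symm
  choose c hc hc' using fun i => Hens.exists_mul_eq_of_map_eq ζ (h i)
  let C := ∏ i, c i
  have hu : IsUnit (ζ C) := isUnit_of_map_unit (Hens.point S (KSep p)).toRingHom _ (IsUnit.mk0 _ (by
    show Hens.point S (KSep p) (ζ C) ≠ 0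
    simp only [C, map_prod]
    exact Finset.prod_ne_zero_iff.2 fun i _ => hc i))
  let f : T →ₐ[S] Localization.Away C :=
    (IsScalarTower.toAlgHom S (T ⊗[S] B) _).comp Algebra.TensorProduct.includeLeft
  haveI : Algebra.Etale S (Localization.Away C) :=
    haveI := Algebra.Etale.of_isLocalizationAway (R := T ⊗[S] B) (A := Localization.Away C) C
    Algebra.Etale.comp S (T ⊗[S] B) _
  refine ⟨Localization.Away C, inferInstance, inferInstance, inferInstance, f, Hens.awayExt ζ C hu, ?_, ?_⟩
  · ext t
    show Hens.awayExt ζ C hu (algebraMap (T ⊗[S] B) _ (t ⊗ₜ 1)) = θ t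
    rw [Hens.awayExt_algebraMap]
    simp [ζ]
  · let y' : Fin k → Localization.Away C := fun j => algebraMap (T ⊗[S] B) _ ((1 : T) ⊗ₜ yb j)
    have hf : ∀ i : s, f (i : M × T).2 = ∑ j, a i j • y' j := fun i => by
      refine (IsLocalization.Away.algebraMap_isUnit (S := Localization.Away C) C).mul_left_cancel ?_
      obtain ⟨d, hd⟩ := Finset.dvd_prod_of_mem c (Finset.mem_univ i)
      have h1 := congrArg (algebraMap (T ⊗[S] B) (Localization.Away C)) (hc' i)
      rw [map_mul, map_mul, map_sum] at h1
      rw [show algebraMap (T ⊗[S] B) (Localization.Away C) C = algebraMap _ _ (c i) * algebraMap _ _ d by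
          rw [← map_mul]; exact congrArg _ hd, mul_right_comm, show f (i : M × T).2 = algebraMap _ _ ((i : M × T).2 ⊗ₜ[S] (1 : B)) from rfl,
        h1, mul_right_comm]
      congr 1
      refine Finset.sum_congr rfl fun j _ => ?_
      exact map_smul (IsScalarTower.toAlgHom S (T ⊗[S] B) (Localization.Away C)) (a i j) _
    rw [map_sum, ← Finset.sum_coe_sort]
    simp only [LinearMap.lTensor_tmul, AlgHom.toLinearMap_apply, hf, TensorProduct.tmul_sum, TensorProduct.tmul_smul,
      TensorProduct.smul_tmul']
    rw [Finset.sum_comm]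
    exact Finset.sum_eq_zero fun j _ => by rw [← TensorProduct.sum_tmul, show ∑ i : s, a i j • (i : M × T).1 = 0 from ha j, TensorProduct.zero_tmul]

/-- Finitely many equations holding in the limit hold at a stage. -/
theorem exists_stage_eq {ι : Type*} (I : Finset ι) {T : Type u} [CommRing T] [Algebra S T] [Algebra.Etale S T]
    (θ : T →ₐ[S] SLoc p) (z w : ι → M ⊗[S] T) (h : ∀ i ∈ I, θ.toLinearMap.lTensor M (z i) = θ.toLinearMap.lTensor M (w i)) :
    ∃ (T' : Type u) (_ : CommRing T') (_ : Algebra S T') (_ : Algebra.Etale S T')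
      (f : T →ₐ[S] T') (θ' : T' →ₐ[S] SLoc p), θ'.comp f = θ ∧
        ∀ i ∈ I, f.toLinearMap.lTensor M (z i) = f.toLinearMap.lTensor M (w i) := by
  classical
  induction I using Finset.induction with
  | empty => exact ⟨T, inferInstance, inferInstance, inferInstance, AlgHom.id S T, θ, AlgHom.comp_id θ, by simp⟩
  | @insert a I ha ih =>
    obtain ⟨T', _, _, _, f, θ', hf, hI⟩ := ih fun i hi => h i (Finset.mem_insert_of_mem hi)
    have h0 : θ'.toLinearMap.lTensor M (f.toLinearMap.lTensor M (z a - w a)) = 0 := by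
      rw [← LinearMap.comp_apply, ← LinearMap.lTensor_comp,
        show θ'.toLinearMap ∘ₗ f.toLinearMap = θ.toLinearMap from congrArg AlgHom.toLinearMap hf, map_sub,
        h a (Finset.mem_insert_self a I), sub_self]
    obtain ⟨T'', _, _, _, g, θ'', hg, hz⟩ := exists_stage_zero θ' _ h0
    refine ⟨T'', inferInstance, inferInstance, inferInstance, g.comp f, θ'', by rw [← AlgHom.comp_assoc, hg, hf], fun i hi => ?_⟩
    rw [show (g.comp f).toLinearMap = g.toLinearMap ∘ₗ f.toLinearMap from rfl, LinearMap.lTensor_comp,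
      LinearMap.comp_apply, LinearMap.comp_apply]
    rcases Finset.mem_insert.1 hi with rfl | hi
    · rwa [map_sub, map_sub, sub_eq_zero] at hz
    · rw [hI i hi]

/-- Finitely many elements of the limit come from a stage. -/
theorem exists_stage_lift {ι : Type*} [Fintype ι] (x : ι → M ⊗[S] SLoc p) :
    ∃ (T : Type u) (_ : CommRing T) (_ : Algebra S T) (_ : Algebra.Etale S T)
      (θ : T →ₐ[S] SLoc p) (y : ι → M ⊗[S] T), ∀ i, θ.toLinearMap.lTensor M (y i) = x i := by
  classical
  choose s hs using fun i => TensorProduct.exists_finset (x i)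
  obtain ⟨T, _, _, hT, θ, hθ⟩ := Hens.exists_stage_finset (Finset.univ.biUnion fun i => (s i).image Prod.snd)
  choose b hb using hθ
  refine ⟨T, inferInstance, inferInstance, hT, θ,
    fun i => ∑ q : s i, (q : M × SLoc p).1 ⊗ₜ b (q : M × SLoc p).2
      (Finset.mem_biUnion.2 ⟨i, Finset.mem_univ i, Finset.mem_image.2 ⟨q, q.2, rfl⟩⟩), fun i => ?_⟩
  rw [map_sum, hs i, ← Finset.sum_coe_sort (s i) fun q => q.1 ⊗ₜ[S] q.2]
  refine Finset.sum_congr rfl fun q _ => ?_
  rw [LinearMap.lTensor_tmul]
  exact congrArg _ (hb _ _)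

end Point

/-- Local-to-global: a property of étale algebras stable under finite products, holding near every
prime, holds on an étale faithfully flat algebra. -/
theorem exists_cover (P : ∀ (T : Type u) [CommRing T] [Algebra S T], Prop)
    (hloc : ∀ p : PrimeSpectrum S, ∃ (T : Type u) (_ : CommRing T) (_ : Algebra S T) (_ : Algebra.Etale S T),
      P T ∧ p ∈ Set.range (PrimeSpectrum.comap (algebraMap S T)))
    (hpi : ∀ {ι : Type u} [Fintype ι] (T : ι → Type u) [∀ i, CommRing (T i)] [∀ i, Algebra S (T i)],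
      (∀ i, P (T i)) → P (∀ i, T i)) :
    ∃ (T : Type u) (_ : CommRing T) (_ : Algebra S T) (_ : Algebra.Etale S T)
      (_ : Module.FaithfullyFlat S T), P T := by
  classical
  choose T iC iA hE hP hmem using hloc
  have hopen : ∀ p, IsOpen (Set.range (PrimeSpectrum.comap (algebraMap S (T p)))) := fun p =>
    IsOpenMap.isOpen_range PrimeSpectrum.isOpenMap_comap_of_hasGoingDown_of_finitePresentation
  obtain ⟨t, ht⟩ := isCompact_univ.elim_finite_subcover (fun p => Set.range (PrimeSpectrum.comap (algebraMap S (T p))))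
    hopen fun p _ => Set.mem_iUnion.2 ⟨p, hmem p⟩
  refine ⟨∀ p : t, T p.1, inferInstance, inferInstance, inferInstance, ?_, hpi (fun p : t => T p.1) fun p => hP p.1⟩
  refine Module.FaithfullyFlat.of_comap_surjective fun q => ?_
  obtain ⟨p, hp, q', hq'⟩ := Set.mem_iUnion₂.1 (ht (Set.mem_univ q))
  refine ⟨PrimeSpectrum.comap (Pi.evalRingHom (fun p : t => T p.1) ⟨p, hp⟩) q', ?_⟩
  rw [← hq', ← PrimeSpectrum.comap_comp_apply]
  rfl

/-- Flat base change of the fixed ring. -/
theorem isFixedRing_tensor {R : Type v} [CommRing R] [Algebra S R] (lam : R ≃ₐ[S] R)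
    (hfix : RInv.IsFixedRing S R lam.toRingEquiv) (T : Type u) [CommRing T] [Algebra S T] [Module.Flat S T] :
    letI := Algebra.TensorProduct.rightAlgebra (R := S) (A := R) (B := T)
    RInv.IsFixedRing T (R ⊗[S] T) (Algebra.TensorProduct.congr lam (AlgEquiv.refl : T ≃ₐ[S] T)).toRingEquiv := by
  let a : S →ₗ[S] R := Algebra.linearMap S R
  let d : R →ₗ[S] R := lam.toLinearMap - LinearMap.id
  have hex : Function.Exact a d := fun r => by
    show lam r - r = 0 ↔ r ∈ Set.range (algebraMap S R)
    rw [sub_eq_zero]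
    exact hfix.2 r
  have hex' := Module.Flat.rTensor_exact T hex
  have hinj : Function.Injective (a.rTensor T) := Module.Flat.rTensor_preserves_injective_linearMap a hfix.1
  have hinc : ∀ c : T, (1 : R) ⊗ₜ[S] c = a.rTensor T (1 ⊗ₜ c) := fun c => by simp [a]
  refine ⟨fun c c' h => ?_, fun x => ?_⟩
  · change (1 : R) ⊗ₜ[S] c = (1 : R) ⊗ₜ[S] c' at h
    rw [hinc, hinc] at h
    simpa using congrArg (TensorProduct.lid S T) (hinj h)
  · have hd : d.rTensor T x = Algebra.TensorProduct.congr lam (AlgEquiv.refl : T ≃ₐ[S] T) x - x := by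
      induction x using TensorProduct.induction_on with
      | zero => simp
      | tmul r c => simp [d, TensorProduct.sub_tmul]
      | add x y hx hy => rw [map_add, map_add, hx, hy]; abel
    show Algebra.TensorProduct.congr lam _ x = x ↔ _
    rw [← sub_eq_zero, ← hd, hex' x]
    constructor
    · rintro ⟨w, rfl⟩
      refine ⟨TensorProduct.lid S T w, ?_⟩
      show (1 : R) ⊗ₜ[S] _ = _
      rw [hinc]
      congr 1
      exact (TensorProduct.lid S T).injective (by simp)
    · rintro ⟨c, rfl⟩
      exact ⟨1 ⊗ₜ c, (hinc c).symm⟩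

end Groth.Agent.AzInvLib
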