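import Groth.Prelude.Def_AzInv
import Groth.Agent.AzInvLib.SH
import Groth.Agent.AzInvLib.Local
import Groth.Agent.AzInvLib.Stage
import Mathlib.RingTheory.TensorProduct.Pi

/-!
Azumaya algebras over a ring with involution split, and automorphisms become inner, étale locally on
the fixed ring.
-/

set_option autoImplicit false
set_option linter.style.haveILetI false

universe u v w

open scoped TensorProduct
open IsLocalRing

namespace Groth.Agent.AzInvLib

variable {S : Type u} {R : Type v} [CommRing S] [CommRing R] [Algebra S R]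

/-- `R ⊗ S^sh` is a product of strictly henselian local rings. -/
theorem exists_idempotents_sloc (lam : R ≃ₐ[S] R) (hlam : ∀ r, lam (lam r) = r)
    (hfix : RInv.IsFixedRing S R lam.toRingEquiv) (p : Ideal S) [p.IsPrime] :
    ∃ (ι : Type) (_ : Fintype ι) (e : ι → R ⊗[S] SLoc p), CompleteOrthogonalIdempotents e ∧
      ∀ i, ∃ _ : HenselianLocalRing ((R ⊗[S] SLoc p) ⧸ Ideal.span {1 - e i}),
        IsSepClosed (ResidueField ((R ⊗[S] SLoc p) ⧸ Ideal.span {1 - e i})) := by
  letI := Algebra.TensorProduct.rightAlgebra (R := S) (A := R) (B := SLoc p)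
  haveI := isSepClosed_residue p
  refine exists_sh_idempotents (S := SLoc p) (fun x => ?_) (isFixedRing_tensor lam hfix (SLoc p))
  show Algebra.TensorProduct.congr lam AlgEquiv.refl (Algebra.TensorProduct.congr lam AlgEquiv.refl x) = x
  induction x using TensorProduct.induction_on with
  | zero => simp
  | tmul r c => simp [hlam]
  | add a b ha hb => rw [map_add, map_add, ha, hb]

variable {A : Type w} [Ring A] [Algebra R A]

/-- A generating family with coordinates of a finite projective algebra. -/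
theorem exists_coord [Module.Finite R A] [Module.Projective R A] :
    ∃ (m : ℕ) (b : Fin m → A) (c : Fin m → A →ₗ[R] R), ∀ a, ∑ j, c j a • b j = a := by
  obtain ⟨m, f, g, -, -, hfg⟩ := Module.Finite.exists_comp_eq_id_of_projective R A
  refine ⟨m, fun j => f (Pi.single j 1), fun j => (LinearMap.proj j).comp g, fun a => ?_⟩
  conv_rhs => rw [← LinearMap.id_apply (R := R) a, ← hfg, LinearMap.comp_apply, pi_eq_sum_univ' (g a), map_sum]
  simp [map_smul]

theorem rankAtStalk_baseChange_eq {R' : Type*} [CommRing R'] [Algebra R R'] [Module.Finite R A] [Module.Projective R A]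
    {d : ℕ} (h : ∀ p : PrimeSpectrum R, Module.rankAtStalk (R := R) A p = d) (q : PrimeSpectrum R') :
    Module.rankAtStalk (R := R') (R' ⊗[R] A) q = d := by
  rw [Module.rankAtStalk_baseChange, h]

/-- A map of Azumaya algebras of the same constant degree to matrices is bijective. -/
theorem algHom_matrix_bijective {n : ℕ} (hn : 0 < n) [IsAzumaya R A]
    (hrk : ∀ p : PrimeSpectrum R, Module.rankAtStalk (R := R) A p = n ^ 2)
    (G : A →ₐ[R] Matrix (Fin n) (Fin n) R) : Function.Bijective G := by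
  haveI : Nonempty (Fin n) := ⟨⟨0, hn⟩⟩
  refine Groth.Agent.Azu.bijective_of_fibres G.toLinearMap fun p hp => ?_
  letI := Ideal.Quotient.field p
  haveI := Groth.Agent.Azu.baseChange (R := R) (A := A) (R ⧸ p)
  obtain ⟨_, hs, _⟩ := Groth.Agent.Azu.isCSA (k := R ⧸ p) (D := (R ⧸ p) ⊗[R] A)
  let Gk : (R ⧸ p) ⊗[R] A →ₐ[R ⧸ p] (R ⧸ p) ⊗[R] Matrix (Fin n) (Fin n) R :=
    Algebra.TensorProduct.map (AlgHom.id (R ⧸ p) (R ⧸ p)) G
  have heq : ∀ z, G.toLinearMap.lTensor (R ⧸ p) z = Gk z := fun z => by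
    induction z using TensorProduct.induction_on with
    | zero => simp
    | tmul a b => simp [Gk]
    | add a b ha hb => rw [map_add, map_add, ha, hb]
  let q : PrimeSpectrum (R ⧸ p) := ⟨⊥, Ideal.isPrime_bot⟩
  have h1 : Module.finrank (R ⧸ p) ((R ⧸ p) ⊗[R] A) = n ^ 2 := by
    have h := congrFun (Module.rankAtStalk_eq_finrank_of_free (R := R ⧸ p) (M := (R ⧸ p) ⊗[R] A)) q
    rw [Module.rankAtStalk_baseChange, hrk] at h
    simpa using h.symm
  have h2 : Module.finrank (R ⧸ p) ((R ⧸ p) ⊗[R] Matrix (Fin n) (Fin n) R) = n ^ 2 := by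
    haveI : Nontrivial R := (Ideal.Quotient.mk p).domain_nontrivial
    rw [Module.finrank_baseChange, Module.finrank_matrix, Module.finrank_self, Fintype.card_fin, mul_one, sq]
  haveI : Nontrivial ((R ⧸ p) ⊗[R] Matrix (Fin n) (Fin n) R) :=
    Module.nontrivial_of_finrank_pos (R := R ⧸ p) (by rw [h2]; positivity)
  have hinj : Function.Injective Gk := RingHom.injective Gk.toRingHom
  have hbij : Function.Bijective Gk := ⟨hinj,
    (LinearMap.injective_iff_surjective_of_finrank_eq_finrank (f := Gk.toLinearMap) (h1.trans h2.symm)).1 hinj⟩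
  rwa [show (G.toLinearMap.lTensor (R ⧸ p) : _ → _) = Gk from funext heq]

variable (S) [Algebra S A] [IsScalarTower S R A]

/-- Splitting datum over an `S`-algebra. -/
def Splits (A : Type w) [Ring A] [Algebra R A] (n : ℕ) (T : Type u) [CommRing T] [Algebra S T] : Prop :=
  Nonempty (A →ₐ[R] Matrix (Fin n) (Fin n) (R ⊗[S] T))

/-- Inner-ness datum over an `S`-algebra. -/
def InnerAt (ψ : A ≃ₐ[R] A) (T : Type u) [CommRing T] [Algebra S T] : Prop :=
  ∃ u : (A ⊗[S] T)ˣ, ∀ a : A, (ψ a ⊗ₜ[S] (1 : T)) * ↑u = ↑u * (a ⊗ₜ[S] (1 : T))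

variable {S}

section
omit [Algebra S A] [IsScalarTower S R A]

theorem splits_pi {n : ℕ} {ι : Type u} [Fintype ι] (T : ι → Type u) [∀ i, CommRing (T i)] [∀ i, Algebra S (T i)]
    (h : ∀ i, Splits (R := R) S A n (T i)) : Splits (R := R) S A n (∀ i, T i) := by
  classical
  let g := fun i => (h i).some
  let e := Algebra.TensorProduct.piRight S R R T
  let G : A →ₗ[R] Matrix (Fin n) (Fin n) (R ⊗[S] ∀ i, T i) :=
    { toFun := fun a => Matrix.of fun p q => e.symm fun i => g i a p q
      map_add' := fun a b => by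
        ext p q
        apply e.injective
        funext i
        simp
      map_smul' := fun r a => by
        ext p q
        apply e.injective
        funext i
        simp }
  have hG : ∀ a p q i, e (G a p q) i = g i a p q := fun a p q i => congrFun (e.apply_symm_apply _) i
  refine ⟨AlgHom.ofLinearMap G ?_ ?_⟩
  · ext p q
    apply e.injective
    funext i
    rw [hG, map_one]
    by_cases hpq : p = q <;> simp [Matrix.one_apply, hpq]
  · intro a b
    ext p q
    apply e.injective
    funext i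
    rw [hG, map_mul, Matrix.mul_apply, Matrix.mul_apply, map_sum, Finset.sum_apply]
    simp [hG]

theorem splits_near {n : ℕ} [IsAzumaya R A]
    (hrk : ∀ p : PrimeSpectrum R, Module.rankAtStalk (R := R) A p = n ^ 2) (lam : R ≃ₐ[S] R)
    (hlam : ∀ r, lam (lam r) = r) (hfix : RInv.IsFixedRing S R lam.toRingEquiv) (P : PrimeSpectrum S) :
    ∃ (T : Type u) (_ : CommRing T) (_ : Algebra S T) (_ : Algebra.Etale S T),
      Splits (R := R) S A n T ∧ P ∈ Set.range (PrimeSpectrum.comap (algebraMap S T)) := by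
  classical
  let p := P.asIdeal
  let E := SLoc p
  obtain ⟨ι, _, e, he, hsh⟩ := exists_idempotents_sloc lam hlam hfix p
  haveI := Groth.Agent.Azu.baseChange (R := R) (A := A) (R ⊗[S] E)
  obtain ⟨g'⟩ := exists_algHom_matrix (A := (R ⊗[S] E) ⊗[R] A) (rankAtStalk_baseChange_eq hrk) he hsh
  let g : A →ₐ[R] Matrix (Fin n) (Fin n) (R ⊗[S] E) :=
    (g'.restrictScalars R).comp Algebra.TensorProduct.includeRight
  obtain ⟨m, b, c, hbc⟩ := exists_coord (R := R) (A := A)
  obtain ⟨T, _, _, _, θ, y, hy⟩ := exists_stage_lift (M := R) (fun i : Fin m × Fin n × Fin n => g (b i.1) i.2.1 i.2.2)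
  let G : A →ₗ[R] Matrix (Fin n) (Fin n) (R ⊗[S] T) :=
    ∑ j, (c j).smulRight (Matrix.of fun p q => y (j, p, q))
  let z : Option (Fin m × Fin m) × Fin n × Fin n → R ⊗[S] T := fun i =>
    match i.1 with
    | none => G 1 i.2.1 i.2.2
    | some jk => G (b jk.1 * b jk.2) i.2.1 i.2.2
  let w : Option (Fin m × Fin m) × Fin n × Fin n → R ⊗[S] T := fun i =>
    match i.1 with
    | none => (1 : Matrix (Fin n) (Fin n) (R ⊗[S] T)) i.2.1 i.2.2
    | some jk => (G (b jk.1) * G (b jk.2)) i.2.1 i.2.2
  have hΘ : ∀ {U V : Type u} [CommRing U] [Algebra S U] [CommRing V] [Algebra S V] (θ : U →ₐ[S] V) (x : R ⊗[S] U),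
      θ.toLinearMap.lTensor R x = Algebra.TensorProduct.map (AlgHom.id R R) θ x := fun {U V} _ _ _ _ θ x => by
    induction x using TensorProduct.induction_on with
    | zero => simp
    | tmul a b => simp
    | add a b ha hb => rw [map_add, map_add, ha, hb]
  let Θ := Algebra.TensorProduct.map (AlgHom.id R R) θ
  have hGE : ∀ a, Θ.mapMatrix (G a) = g a := fun a => by
    conv_rhs => rw [← hbc a]
    simp only [G, LinearMap.sum_apply, LinearMap.smulRight_apply, map_sum, map_smul]
    refine Finset.sum_congr rfl fun j _ => ?_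
    congr 1
    ext p q
    simp only [AlgHom.mapMatrix_apply, Matrix.map_apply, Matrix.of_apply]
    exact (hΘ θ _).symm.trans (hy (j, p, q))
  obtain ⟨T', _, _, _, f, θ', -, heq⟩ := exists_stage_eq (M := R) Finset.univ θ z w (fun i _ => by
    rw [hΘ, hΘ]
    rcases i with ⟨_ | ⟨j, k⟩, p, q⟩
    · show Θ.mapMatrix (G 1) p q = Θ.mapMatrix 1 p q
      rw [hGE, map_one, map_one]
    · show Θ.mapMatrix (G (b j * b k)) p q = Θ.mapMatrix (G (b j) * G (b k)) p q
      rw [hGE, map_mul, map_mul, hGE, hGE])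
  let F := (Algebra.TensorProduct.map (AlgHom.id R R) f).mapMatrix (m := Fin n)
  let G' : A →ₗ[R] Matrix (Fin n) (Fin n) (R ⊗[S] T') := F.toLinearMap.comp G
  refine ⟨T', inferInstance, inferInstance, inferInstance, ⟨AlgHom.ofLinearMap G' ?_ ?_⟩, ?_⟩
  · ext p q
    have h := heq (none, p, q) (Finset.mem_univ _)
    rw [hΘ, hΘ] at h
    exact h.trans (congrFun (congrFun (map_one F) p) q)
  · intro a a'
    have hb : ∀ j k, G' (b j * b k) = G' (b j) * G' (b k) := fun j k => by
      ext p q
      have h := heq (some (j, k), p, q) (Finset.mem_univ _)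
      rw [hΘ, hΘ] at h
      exact h.trans (congrFun (congrFun (map_mul F (G (b j)) (G (b k))) p) q)
    conv_lhs => rw [← hbc a, ← hbc a']
    conv_rhs => rw [← hbc a, ← hbc a']
    simp only [Finset.mul_sum, Finset.sum_mul, map_sum, smul_mul_assoc, mul_smul_comm, map_smul, hb]
  · exact ⟨⟨RingHom.ker ((Hens.point S (KSep p)).comp θ').toRingHom, RingHom.ker_isPrime _⟩,
      PrimeSpectrum.ext (comap_ker_point p θ')⟩

end

theorem innerAt_pi (ψ : A ≃ₐ[R] A) {ι : Type u} [Fintype ι] (T : ι → Type u) [∀ i, CommRing (T i)]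
    [∀ i, Algebra S (T i)] (h : ∀ i, InnerAt S ψ (T i)) : InnerAt S ψ (∀ i, T i) := by
  classical
  choose u hu using h
  let K : A ⊗[S] (∀ i, T i) →ₐ[S] ∀ i, A ⊗[S] T i :=
    Pi.algHom S _ fun i => Algebra.TensorProduct.map (AlgHom.id S A) (Pi.evalAlgHom S T i)
  have hK : Function.Bijective K := by
    rw [show (K : _ → _) = TensorProduct.piRight S S A T from funext fun z => by
      induction z using TensorProduct.induction_on with
      | zero => simp
      | tmul a t => funext i; simp [K]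
      | add a b ha hb => rw [map_add, map_add, ha, hb]]
    exact LinearEquiv.bijective _
  let U : (∀ i, A ⊗[S] T i)ˣ := ⟨fun i => ↑(u i), fun i => ↑(u i)⁻¹, funext fun i => (u i).mul_inv, funext fun i => (u i).inv_mul⟩
  let e := AlgEquiv.ofBijective K hK
  refine ⟨Units.map e.symm.toMonoidHom U, fun a => e.injective ?_⟩
  show e (_ * e.symm ↑U) = e (e.symm ↑U * _)
  rw [map_mul, map_mul, e.apply_symm_apply]
  funext i
  have he : ∀ x : A, e (x ⊗ₜ[S] (1 : ∀ i, T i)) i = x ⊗ₜ[S] (1 : T i) := fun x => by simp [e, K]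
  rw [Pi.mul_apply, Pi.mul_apply, he, he]
  exact hu i a

theorem innerAt_near [IsAzumaya R A] (ψ : A ≃ₐ[R] A) (lam : R ≃ₐ[S] R)
    (hlam : ∀ r, lam (lam r) = r) (hfix : RInv.IsFixedRing S R lam.toRingEquiv) (P : PrimeSpectrum S) :
    ∃ (T : Type u) (_ : CommRing T) (_ : Algebra S T) (_ : Algebra.Etale S T),
      InnerAt S ψ T ∧ P ∈ Set.range (PrimeSpectrum.comap (algebraMap S T)) := by
  classical
  let p := P.asIdeal
  let E := SLoc p
  obtain ⟨ι, _, e, he, hsh⟩ := exists_idempotents_sloc lam hlam hfix p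
  haveI := Groth.Agent.Azu.baseChange (R := R) (A := A) (R ⊗[S] E)
  let ψ' : (R ⊗[S] E) ⊗[R] A ≃ₐ[R ⊗[S] E] (R ⊗[S] E) ⊗[R] A := Algebra.TensorProduct.congr AlgEquiv.refl ψ
  obtain ⟨u', hu'⟩ := exists_inner ψ' he fun i => by
    obtain ⟨_, _⟩ := hsh i
    infer_instance
  let κ : (R ⊗[S] E) ⊗[R] A →ₐ[R] A ⊗[S] E :=
    Algebra.TensorProduct.lift (Algebra.TensorProduct.map (Algebra.ofId R A) (AlgHom.id S E))
      Algebra.TensorProduct.includeLeft (fun x a => by
        induction x using TensorProduct.induction_on with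
        | zero => simp
        | tmul r c =>
          show _ * _ = _ * _
          simp [Algebra.TensorProduct.tmul_mul_tmul, Algebra.commutes r a]
        | add x y hx hy => rw [map_add]; exact hx.add_left hy)
  let U : (A ⊗[S] E)ˣ := Units.map κ.toMonoidHom u'
  have hU : ∀ a, (ψ a ⊗ₜ[S] (1 : E)) * ↑U = ↑U * (a ⊗ₜ[S] (1 : E)) := fun a => by
    have h := congrArg κ (hu' (1 ⊗ₜ a))
    rw [map_mul, map_mul] at h
    simpa [ψ', κ, U] using h
  obtain ⟨m, b, c, hbc⟩ := exists_coord (R := R) (A := A)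
  obtain ⟨T, _, _, _, θ, y, hy⟩ := exists_stage_lift (M := A) (fun i : Bool => bif i then (U : A ⊗[S] E) else ↑U⁻¹)
  have hΘ : ∀ {U V : Type u} [CommRing U] [Algebra S U] [CommRing V] [Algebra S V] (θ : U →ₐ[S] V) (x : A ⊗[S] U),
      θ.toLinearMap.lTensor A x = Algebra.TensorProduct.map (AlgHom.id R A) θ x := fun {U V} _ _ _ _ θ x => by
    induction x using TensorProduct.induction_on with
    | zero => simp
    | tmul a b => simp
    | add a b ha hb => rw [map_add, map_add, ha, hb]
  let z : Bool ⊕ Fin m → A ⊗[S] T := fun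
    | .inl i => bif i then y true * y false else y false * y true
    | .inr j => (ψ (b j) ⊗ₜ[S] (1 : T)) * y true
  let w : Bool ⊕ Fin m → A ⊗[S] T := fun
    | .inl _ => 1
    | .inr j => y true * (b j ⊗ₜ[S] (1 : T))
  have hy1 : Algebra.TensorProduct.map (AlgHom.id R A) θ (y true) = (U : A ⊗[S] E) := (hΘ θ _).symm.trans (hy true)
  have hy2 : Algebra.TensorProduct.map (AlgHom.id R A) θ (y false) = ↑U⁻¹ := (hΘ θ _).symm.trans (hy false)
  obtain ⟨T', _, _, _, f, θ', -, heq⟩ := exists_stage_eq (M := A) Finset.univ θ z w (fun i _ => by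
    rw [hΘ, hΘ]
    rcases i with i | j
    · cases i <;> simp [z, w, hy1, hy2]
    · simp [z, w, hy1, hy2, hU])
  let F := Algebra.TensorProduct.map (AlgHom.id R A) f
  have hF : ∀ i, F (z i) = F (w i) := fun i => by
    have := heq i (Finset.mem_univ _)
    rwa [hΘ, hΘ] at this
  have h1 : F (y true) * F (y false) = 1 := by
    rw [← map_mul, ← map_one F]; exact hF (.inl true)
  have h2 : F (y false) * F (y true) = 1 := by
    rw [← map_mul, ← map_one F]; exact hF (.inl false)
  have h3 : ∀ j, (ψ (b j) ⊗ₜ[S] (1 : T')) * F (y true) = F (y true) * (b j ⊗ₜ[S] (1 : T')) := fun j => by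
    have := hF (.inr j)
    simpa [z, w, F] using this
  refine ⟨T', inferInstance, inferInstance, inferInstance, ⟨⟨F (y true), F (y false), h1, h2⟩, fun a => ?_⟩, ?_⟩
  · rw [← hbc a, map_sum, TensorProduct.sum_tmul, TensorProduct.sum_tmul, Finset.sum_mul, Finset.mul_sum]
    refine Finset.sum_congr rfl fun j _ => ?_
    rw [map_smul, ← TensorProduct.smul_tmul', ← TensorProduct.smul_tmul', smul_mul_assoc, mul_smul_comm]
    exact congrArg _ (h3 j)
  · exact ⟨⟨RingHom.ker ((Hens.point S (KSep p)).comp θ').toRingHom, RingHom.ker_isPrime _⟩,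
      PrimeSpectrum.ext (comap_ker_point p θ')⟩

end Groth.Agent.AzInvLib
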