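import Groth.Agent.AzInvLib.FixedSplit
import Mathlib.RingTheory.MatrixAlgebra

/-!
# Splitting Azumaya algebras by étale coverings of the fixed ring
-/

set_option autoImplicit false

universe u v w

noncomputable section

open scoped TensorProduct

namespace Groth.Agent.AzInvLib

/-- A split algebra stays split after further base change. -/
theorem exists_matrix_of_split {R : Type v} [CommRing R] {A : Type w} [Ring A] [Algebra R A]
    {C : Type*} [CommRing C] [Algebra R C] (n : ℕ) (φ : C ⊗[R] A ≃ₐ[C] Matrix (Fin n) (Fin n) C)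
    (P : Type*) [CommRing P] [Algebra R P] (h : C →ₐ[R] P) :
    Nonempty (P ⊗[R] A ≃ₐ[P] Matrix (Fin n) (Fin n) P) := by
  letI : Algebra C P := h.toRingHom.toAlgebra
  haveI : IsScalarTower R C P := IsScalarTower.of_algebraMap_eq fun r => (h.commutes r).symm
  obtain ⟨cb⟩ := Groth.Agent.Azu.nonempty_cancelBaseChange (R := R) (A := A) C P
  let e1 : P ⊗[C] Matrix (Fin n) (Fin n) C ≃ₐ[P] Matrix (Fin n) (Fin n) P :=
    AlgEquiv.ofRingEquiv (f := (matrixEquivTensor (Fin n) C P).symm.toRingEquiv) fun x => by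
      show (matrixEquivTensor (Fin n) C P).symm _ = _
      rw [Algebra.TensorProduct.algebraMap_apply]
      ext a c
      rcases eq_or_ne a c with rfl | hne
      · simp [Matrix.algebraMap_matrix_apply]
      · simp [Matrix.algebraMap_matrix_apply, hne]
  exact ⟨cb.symm.trans ((Algebra.TensorProduct.congr (AlgEquiv.refl : P ≃ₐ[P] P) φ).trans e1)⟩

attribute [local instance] Algebra.TensorProduct.rightAlgebra

variable {S : Type u} {R : Type v} [CommRing S] [CommRing R] [Algebra S R]
  {A : Type w} [Ring A] [Algebra S A] [Algebra R A] [IsScalarTower S R A]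

/-- An iso over `S' ⊗ R` gives one over `S'` which is linear over `R`. -/
theorem exists_split_over_base (S' : Type u) [CommRing S'] [Algebra S S'] {n : ℕ}
    (Ψ : (S' ⊗[S] R) ⊗[R] A ≃ₐ[S' ⊗[S] R] Matrix (Fin n) (Fin n) (S' ⊗[S] R)) :
    ∃ f : S' ⊗[S] A ≃ₐ[S'] Matrix (Fin n) (Fin n) (S' ⊗[S] R),
      ∀ (r : R) (x : S' ⊗[S] A),
        f (((1 : S') ⊗ₜ[S] algebraMap R A r) * x) =
          Matrix.scalar (Fin n) ((1 : S') ⊗ₜ[S] r) * f x := by
  refine ⟨(cancel S' A).symm.trans (Ψ.restrictScalars S'), fun r x => ?_⟩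
  rw [map_mul]
  congr 1
  rw [AlgEquiv.trans_apply]
  have h : (cancel S' A).symm ((1 : S') ⊗ₜ[S] algebraMap R A r) =
      algebraMap (S' ⊗[S] R) ((S' ⊗[S] R) ⊗[R] A) ((1 : S') ⊗ₜ[S] r) := by
    rw [AlgEquiv.symm_apply_eq, Algebra.TensorProduct.algebraMap_apply, Algebra.algebraMap_self,
      RingHom.id_apply, cancel_tmul]
    simp [scal]
  rw [h, AlgEquiv.restrictScalars_apply, AlgEquiv.commutes]
  rfl

end Groth.Agent.AzInvLib
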