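import Groth.Agent.AzInvLib.Types
import Mathlib.RingTheory.Spectrum.Prime.Topology

/-!
# The global sign function
-/

set_option autoImplicit false

universe u v w w'

noncomputable section

open scoped TensorProduct
open Matrix

namespace Groth.Agent.AzInvLib

variable {S : Type u} {R : Type v} [CommRing S] [CommRing R] [Algebra S R] {lam : R ≃ₐ[S] R}
  {A : Type w} [Ring A] [Algebra S A] [Algebra R A] [IsScalarTower S R A]

/-- Outside the quadratic étale locus every point is ramified. -/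
theorem ram_of_not_quad (hlam : ∀ r, lam (lam r) = r) (hfix : RInv.IsFixedRing S R lam.toRingEquiv)
    (p : PrimeSpectrum S) (h : ¬ RInv.IsQuadEtale (Localization.AtPrime p.asIdeal)
      (Localization.AtPrime p.asIdeal ⊗[S] R)) : Ram lam p := by
  intro Q hQ hQp r
  by_contra hr
  apply h
  let L := Localization.AtPrime p.asIdeal
  haveI : Module.Flat S L := IsLocalization.flat L p.asIdeal.primeCompl
  refine Groth.Agent.S15573.result L (L ⊗[S] R) (lamX lam L).toRingEquiv (lamX_lamX lam L hlam)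
    (isFixed_lamX lam L hfix) ⟨(1 : L) ⊗ₜ r, ?_⟩
  obtain ⟨M, hM⟩ := Herm.exists_fixed lam hfix (x := (r - lam r) * (r - lam r))
    (by rw [map_mul, map_sub, hlam]; ring)
  have hMp : M ∉ p.asIdeal := fun hmem => by
    rw [← hQp, Ideal.mem_comap, hM] at hmem
    exact hr (by rw [← neg_sub]; exact neg_mem ((hQ.mem_or_mem hmem).elim id id))
  have hu : IsUnit (algebraMap S (L ⊗[S] R) M) := by
    rw [IsScalarTower.algebraMap_apply S L (L ⊗[S] R)]
    exact (IsLocalization.map_units L (⟨M, hMp⟩ : p.asIdeal.primeCompl)).map _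
  have he : algebraMap S (L ⊗[S] R) M = (1 : L) ⊗ₜ[S] algebraMap S R M := by
    rw [Algebra.algebraMap_eq_smul_one, Algebra.algebraMap_eq_smul_one (A := R), TensorProduct.tmul_smul,
      Algebra.TensorProduct.one_def]
  rw [he, hM, show (1 : L) ⊗ₜ[S] ((r - lam r) * (r - lam r)) =
    ((1 : L) ⊗ₜ[S] (r - lam r)) * ((1 : L) ⊗ₜ[S] (r - lam r)) by
      rw [Algebra.TensorProduct.tmul_mul_tmul, one_mul]] at hu
  show IsUnit ((1 : L) ⊗ₜ[S] r - lamX lam L ((1 : L) ⊗ₜ[S] r))
  rw [lamX_tmul, ← TensorProduct.tmul_sub]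
  exact isUnit_of_mul_isUnit_left hu

/-- With everything ramified the sign is given by an idempotent. -/
theorem exists_sign_idempotent (hlam : ∀ r, lam (lam r) = r)
    (hfix : RInv.IsFixedRing S R lam.toRingEquiv) (h2 : IsUnit (2 : S))
    (hram : ∀ (q : PrimeSpectrum R) (r : R), lam r - r ∈ q.asIdeal) {t : AzInv.LamInv R A lam} {n : ℕ}
    (hn : 0 < n) (hg : HasGram lam t n) :
    ∃ ε : R, IsIdempotentElem ε ∧ lam ε = ε ∧
      ∀ q : PrimeSpectrum R, ε ∈ q.asIdeal ↔ Orth lam t n q := by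
  let Z : Set (PrimeSpectrum R) := {q | ¬ Orth lam t n q}
  have hloc : ∀ q : PrimeSpectrum R, ∃ U : Set (PrimeSpectrum R), IsOpen U ∧ q ∈ U ∧
      ∀ q' ∈ U, (Orth lam t n q' ↔ Orth lam t n q) := fun q => by
    obtain ⟨f, hf, hf'⟩ := exists_basicOpen_orth_iff hlam hfix h2 hn hg q (hram q)
    exact ⟨PrimeSpectrum.basicOpen f, PrimeSpectrum.isOpen_basicOpen, hf,
      fun q' hq' => hf' q' (hram q') hq'⟩
  have hZ : IsClopen Z := by
    refine ⟨isOpen_compl_iff.mp ?_, ?_⟩ <;> refine isOpen_iff_forall_mem_open.mpr fun q hq => ?_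
    · obtain ⟨U, hU, hqU, h⟩ := hloc q
      exact ⟨U, fun q' hq' hZ' => hq fun ho => hZ' ((h q' hq').mpr ho), hU, hqU⟩
    · obtain ⟨U, hU, hqU, h⟩ := hloc q
      exact ⟨U, fun q' hq' ho => hq ((h q' hq').mp ho), hU, hqU⟩
  obtain ⟨ε, hε, hεZ⟩ := PrimeSpectrum.exists_idempotent_basicOpen_eq_of_isClopen hZ
  have hiff : ∀ q : PrimeSpectrum R, ε ∈ q.asIdeal ↔ Orth lam t n q := fun q => by
    have h1 := (Set.ext_iff.mp hεZ q)
    simp only [Z, Set.mem_setOf_eq, SetLike.mem_coe, PrimeSpectrum.mem_basicOpen] at h1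
    tauto
  refine ⟨ε, hε, ?_, hiff⟩
  refine PrimeSpectrum.basicOpen_injOn_isIdempotentElem (hε.map lam) hε ?_
  refine TopologicalSpace.Opens.ext (Set.ext fun q => ?_)
  simp only [SetLike.mem_coe, PrimeSpectrum.mem_basicOpen]
  refine not_congr ⟨fun h => ?_, fun h => ?_⟩
  · rw [← sub_sub_cancel (lam ε) ε]
    exact sub_mem h (hram q ε)
  · rw [← sub_add_cancel (lam ε) ε]
    exact add_mem (hram q ε) h

theorem incl_smul_eq {X : Type u} [CommRing X] [Algebra S X] {ι : Type*} (c : S) (M : Matrix ι ι R) :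
    incl (S := S) X (algebraMap S R c • M) = algebraMap S X c • incl (S := S) X M := by
  ext i j
  simp only [incl, Matrix.map_apply, Matrix.smul_apply, Algebra.TensorProduct.includeRight_apply,
    smul_eq_mul, TensorProduct.smul_tmul']
  rw [← Algebra.smul_def, TensorProduct.tmul_smul, TensorProduct.smul_tmul']
  congr 1
  rw [Algebra.smul_def]

/-- `2m × 2m` standard skew matrix on `Fin n`. -/
theorem exists_Jn {n m : ℕ} (h : n = 2 * m) :
    ∃ (ε : Fin m × Fin 2 ≃ Fin n), AzInv.lamTr lam ((Jm R m).submatrix ε.symm ε.symm) =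
        -((Jm R m).submatrix ε.symm ε.symm) ∧
      (Jm R m).submatrix ε.symm ε.symm * (Jm R m).submatrix ε.symm ε.symm = -1 := by
  refine ⟨finProdFinEquiv.trans (finCongr (by omega)), ?_, ?_⟩
  · rw [lamTr_submatrix]
    have h0 : AzInv.lamTr lam (Jm R m) = -Jm R m := by
      ext ⟨i, a⟩ ⟨j, b⟩
      rcases eq_or_ne i j with rfl | hne
      · fin_cases a <;> fin_cases b <;> simp [Jm]
      · simp [Jm, hne, hne.symm]
    rw [h0]; rfl
  · rw [Matrix.submatrix_mul_equiv, Jm_mul_self, Matrix.submatrix_neg, Pi.neg_apply, Pi.neg_apply,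
      Matrix.submatrix_one_equiv]

end Groth.Agent.AzInvLib
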