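import Groth.Agent.AzInvLib.Cover
import Groth.Agent.S17356
import Groth.Agent.S17357
import Mathlib.Algebra.Azumaya.Matrix
import Mathlib.Data.Matrix.Composition
import Mathlib.Data.Matrix.Basis

/-!
# Local Gram matrices of involutions
-/

set_option autoImplicit false

universe u v w w'

set_option maxHeartbeats 100000

noncomputable section

open scoped TensorProduct
open Matrix

namespace Groth.Agent.AzInvLib

section LamTr

variable {P : Type*} [CommRing P] {F : Type*} [FunLike F P P] [RingHomClass F P P] (f : F)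
  {ι : Type*}

theorem lamTr_mul [Fintype ι] (M N : Matrix ι ι P) :
    AzInv.lamTr f (M * N) = AzInv.lamTr f N * AzInv.lamTr f M := by
  ext i j
  simp only [AzInv.lamTr_apply, Matrix.mul_apply, map_sum]
  exact Finset.sum_congr rfl fun k _ => (map_mul f _ _).trans (mul_comm _ _)

theorem lamTr_smul (c : P) (M : Matrix ι ι P) :
    AzInv.lamTr f (c • M) = f c • AzInv.lamTr f M := by
  ext i j; simp

theorem lamTr_one [DecidableEq ι] : AzInv.lamTr f (1 : Matrix ι ι P) = 1 := by
  ext i j
  rcases eq_or_ne i j with rfl | h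
  · simp
  · simp [h, h.symm]

theorem lamTr_lamTr (hf : ∀ x, f (f x) = x) (M : Matrix ι ι P) :
    AzInv.lamTr f (AzInv.lamTr f M) = M := by
  ext i j; simp [hf]

theorem lamTr_add (M N : Matrix ι ι P) :
    AzInv.lamTr f (M + N) = AzInv.lamTr f M + AzInv.lamTr f N := by
  ext i j; simp

theorem det_lamTr [Fintype ι] [DecidableEq ι] (M : Matrix ι ι P) :
    (AzInv.lamTr f M).det = f M.det := by
  rw [AzInv.lamTr, Matrix.det_transpose]
  exact ((f : P →+* P).map_det M).symm

theorem lamTr_submatrix {κ : Type*} (M : Matrix ι ι P) (e : κ → ι) :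
    AzInv.lamTr f (M.submatrix e e) = (AzInv.lamTr f M).submatrix e e := by
  ext i j; rfl

end LamTr

variable {S : Type u} {R : Type v} [CommRing S] [CommRing R] [Algebra S R]
  {A : Type w} [Ring A] [Algebra S A] [Algebra R A] [IsScalarTower S R A]
  {ι : Type*} [Fintype ι] [DecidableEq ι]

section Lift

variable {X : Type u} [CommRing X] [Algebra S X]

/-- The extension of a representation. -/
def liftF (φ : A →ₐ[S] Matrix ι ι (X ⊗[S] R)) : X ⊗[S] A →ₐ[X] Matrix ι ι (X ⊗[S] R) :=
  Algebra.TensorProduct.lift (Algebra.ofId X _) φ fun x _ => Algebra.commutes x _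

theorem liftF_tmul (φ : A →ₐ[S] Matrix ι ι (X ⊗[S] R)) (x : X) (a : A) :
    liftF φ (x ⊗ₜ a) = x • φ a := by
  rw [liftF, Algebra.TensorProduct.lift_tmul, Algebra.ofId_apply, ← Algebra.smul_def]

theorem liftF_scal (φ : A →ₐ[S] Matrix ι ι (X ⊗[S] R))
    (hφ : ∀ (r : R) a, φ (r • a) = ((1 : X) ⊗ₜ[S] r) • φ a) (c : X ⊗[S] R) (z : X ⊗[S] A) :
    liftF φ (scal X A c * z) = c • liftF φ z := by
  induction c using TensorProduct.induction_on with
  | zero => simp
  | add a b ha hb => rw [map_add, add_mul, map_add, ha, hb, add_smul]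
  | tmul x r =>
    rw [show scal X A (x ⊗ₜ[S] r) = x ⊗ₜ[S] algebraMap R A r from rfl, map_mul, liftF_tmul,
      Algebra.algebraMap_eq_smul_one, hφ, map_one, ← smul_assoc, smul_mul_assoc, one_mul,
      TensorProduct.smul_tmul', smul_eq_mul, mul_one]

/-- A representation with matrix units generating is a splitting. -/
theorem bijective_of_basis (φ : A →ₐ[S] Matrix ι ι (X ⊗[S] R))
    (hφ : ∀ (r : R) a, φ (r • a) = ((1 : X) ⊗ₜ[S] r) • φ a) (z : ι → ι → X ⊗[S] A)
    (hz : ∀ a b, liftF φ (z a b) = Matrix.single a b 1)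
    (hspan : ∀ a, ∑ i, ∑ j, scal X A (φ a i j) * z i j = (1 : X) ⊗ₜ[S] a) :
    Function.Bijective (liftF φ) := by
  refine ⟨Function.LeftInverse.injective (g := fun M => ∑ i, ∑ j, scal X A (M i j) * z i j) ?_,
    fun M => ⟨∑ i, ∑ j, scal X A (M i j) * z i j, ?_⟩⟩
  · intro x
    induction x using TensorProduct.induction_on with
    | zero => simp
    | add a b ha hb =>
      simp only [map_add, Matrix.add_apply, add_mul, Finset.sum_add_distrib, ha, hb]
    | tmul x a =>
      simp only [liftF_tmul, Matrix.smul_apply]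
      calc ∑ i, ∑ j, scal X A (x • φ a i j) * z i j
          = x • ∑ i, ∑ j, scal X A (φ a i j) * z i j := by
            simp only [map_smul, smul_mul_assoc, Finset.smul_sum]
        _ = _ := by rw [hspan, TensorProduct.smul_tmul', smul_eq_mul, mul_one]
  · simp only [map_sum, liftF_scal φ hφ, hz, Matrix.smul_single, smul_eq_mul, mul_one]
    exact (Matrix.matrix_eq_sum_single M).symm

end Lift

variable (S R A ι) in
/-- A splitting of `A` over `X`. -/
structure Spl (X : Type u) [CommRing X] [Algebra S X] where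
  /-- the representation -/
  φ : A →ₐ[S] Matrix ι ι (X ⊗[S] R)
  smul' : ∀ (r : R) a, φ (r • a) = ((1 : X) ⊗ₜ[S] r) • φ a
  bij : Function.Bijective (liftF φ)

variable {X : Type u} [CommRing X] [Algebra S X]

namespace Spl

/-- The isomorphism of a splitting. -/
def equiv (s : Spl S R A ι X) : X ⊗[S] A ≃ₐ[X] Matrix ι ι (X ⊗[S] R) :=
  AlgEquiv.ofBijective (liftF s.φ) s.bij

theorem equiv_tmul (s : Spl S R A ι X) (x : X) (a : A) : s.equiv (x ⊗ₜ a) = x • s.φ a :=
  liftF_tmul _ _ _

theorem equiv_one_tmul (s : Spl S R A ι X) (a : A) : s.equiv ((1 : X) ⊗ₜ a) = s.φ a := by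
  rw [equiv_tmul, one_smul]

theorem equiv_scal (s : Spl S R A ι X) (c : X ⊗[S] R) (z : X ⊗[S] A) :
    s.equiv (scal X A c * z) = c • s.equiv z := liftF_scal _ s.smul' c z

/-- The preimages of the matrix units. -/
def z (s : Spl S R A ι X) (a b : ι) : X ⊗[S] A := s.equiv.symm (Matrix.single a b 1)

theorem liftF_z (s : Spl S R A ι X) (a b : ι) : liftF s.φ (s.z a b) = Matrix.single a b 1 :=
  s.equiv.apply_symm_apply _

theorem span_z (s : Spl S R A ι X) (a : A) :
    ∑ i, ∑ j, scal X A (s.φ a i j) * s.z i j = (1 : X) ⊗ₜ[S] a := by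
  apply s.equiv.injective
  simp only [map_sum, equiv_scal]
  rw [equiv_one_tmul]
  simp only [Spl.z, AlgEquiv.apply_symm_apply, Matrix.smul_single, smul_eq_mul, mul_one]
  exact (Matrix.matrix_eq_sum_single _).symm

/-- Change of the matrix model. -/
def post {κ : Type*} [Fintype κ] [DecidableEq κ] (s : Spl S R A ι X)
    (g : Matrix ι ι (X ⊗[S] R) ≃ₐ[X ⊗[S] R] Matrix κ κ (X ⊗[S] R)) : Spl S R A κ X where
  φ := ((g.restrictScalars S).toAlgHom).comp s.φ
  smul' r a := by
    show g (s.φ (r • a)) = _
    rw [s.smul', map_smul]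
    rfl
  bij := by
    have h : ⇑(liftF (((g.restrictScalars S).toAlgHom).comp s.φ)) = g ∘ liftF s.φ := funext fun x => by
      induction x using TensorProduct.induction_on with
      | zero => simp
      | add a b ha hb => simp only [map_add, ha, hb, Function.comp_apply]
      | tmul x a =>
        rw [Function.comp_apply, liftF_tmul, liftF_tmul, ← algebraMap_smul (X ⊗[S] R) x,
          ← algebraMap_smul (X ⊗[S] R) x (s.φ a), map_smul]
        rfl
    rw [h]
    exact g.bijective.comp s.bij

variable {A' : Type w'} [Ring A'] [Algebra S A'] [Algebra R A'] [IsScalarTower S R A']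

/-- Transport of a splitting along an isomorphism over `X`. -/
def comap (s : Spl S R A ι X) (f : X ⊗[S] A' ≃ₐ[X] X ⊗[S] A)
    (hf : ∀ (r : R) (x : X ⊗[S] A'),
      f (((1 : X) ⊗ₜ[S] algebraMap R A' r) * x) = ((1 : X) ⊗ₜ[S] algebraMap R A r) * f x) :
    Spl S R A' ι X where
  φ := ((s.equiv.toAlgHom.comp f.toAlgHom).restrictScalars S).comp Algebra.TensorProduct.includeRight
  smul' r a := by
    show s.equiv (f ((1 : X) ⊗ₜ (r • a))) = ((1 : X) ⊗ₜ[S] r) • s.equiv (f ((1 : X) ⊗ₜ a))
    rw [show ((1 : X) ⊗ₜ[S] (r • a)) = ((1 : X) ⊗ₜ[S] algebraMap R A' r) * ((1 : X) ⊗ₜ a) by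
      rw [Algebra.TensorProduct.tmul_mul_tmul, one_mul, Algebra.smul_def], hf, ← equiv_scal]
    rfl
  bij := by
    have h : ⇑(liftF (((s.equiv.toAlgHom.comp f.toAlgHom).restrictScalars S).comp
        Algebra.TensorProduct.includeRight)) = ⇑(f.trans s.equiv) := funext fun x => by
      induction x using TensorProduct.induction_on with
      | zero => simp
      | add a b ha hb => simp only [map_add, ha, hb]
      | tmul x a =>
        rw [liftF_tmul]
        show x • (f.trans s.equiv) ((1 : X) ⊗ₜ a) = _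
        rw [← map_smul, TensorProduct.smul_tmul', smul_eq_mul, mul_one]
    rw [h]
    exact (f.trans s.equiv).bijective

/-- Transport along a global isomorphism. -/
def pre (s : Spl S R A ι X) (g : A' ≃ₐ[R] A) : Spl S R A' ι X :=
  s.comap (Algebra.TensorProduct.congr AlgEquiv.refl (g.restrictScalars S)) fun r x => by
    rw [map_mul, Algebra.TensorProduct.congr_apply, Algebra.TensorProduct.map_tmul]
    congr 2
    exact g.commutes r

theorem pre_φ (s : Spl S R A ι X) (g : A' ≃ₐ[R] A) (a : A') : (s.pre g).φ a = s.φ (g a) :=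
  s.equiv_one_tmul _

/-- The map of base changes. -/
abbrev pushA {Y : Type u} [CommRing Y] [Algebra S Y] (g : X →ₐ[S] Y) : X ⊗[S] A →ₐ[S] Y ⊗[S] A :=
  Algebra.TensorProduct.map g (AlgHom.id S A)

theorem liftF_push (φ : A →ₐ[S] Matrix ι ι (X ⊗[S] R)) {Y : Type u} [CommRing Y] [Algebra S Y]
    (g : X →ₐ[S] Y) (x : X ⊗[S] A) :
    liftF ((pushR g).mapMatrix.comp φ) (pushA g x) = (liftF φ x).map (pushR g) := by
  induction x using TensorProduct.induction_on with
  | zero => simp
  | add a b ha hb =>
    rw [map_add, map_add, ha, hb, map_add (liftF φ), Matrix.map_add _ (map_add _)]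
  | tmul x a =>
    rw [Algebra.TensorProduct.map_tmul, AlgHom.id_apply, liftF_tmul, liftF_tmul, AlgHom.comp_apply,
      AlgHom.mapMatrix_apply]
    ext i j
    rw [Matrix.map_apply, Matrix.smul_apply, Matrix.smul_apply, Matrix.map_apply]
    rw [Algebra.smul_def, Algebra.smul_def, map_mul, pushR_algebraMap]

theorem scal_push {Y : Type u} [CommRing Y] [Algebra S Y] (g : X →ₐ[S] Y) (c : X ⊗[S] R) :
    scal Y A (pushR g c) = pushA g (scal X A c) := by
  induction c using TensorProduct.induction_on with
  | zero => simp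
  | add a b ha hb => simp only [map_add, ha, hb]
  | tmul x r => rfl

theorem push_smul (φ : A →ₐ[S] Matrix ι ι (X ⊗[S] R))
    (hφ : ∀ (r : R) a, φ (r • a) = ((1 : X) ⊗ₜ[S] r) • φ a) {Y : Type u} [CommRing Y] [Algebra S Y]
    (g : X →ₐ[S] Y) (r : R) (a : A) :
    (pushR g).mapMatrix.comp φ (r • a) = ((1 : Y) ⊗ₜ[S] r) • (pushR g).mapMatrix.comp φ a := by
  rw [AlgHom.comp_apply, AlgHom.comp_apply, hφ, AlgHom.mapMatrix_apply, AlgHom.mapMatrix_apply]
  ext i j
  rw [Matrix.map_apply, Matrix.smul_apply, Matrix.smul_apply, Matrix.map_apply, smul_eq_mul,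
    smul_eq_mul, map_mul]
  simp

theorem push_bij (s : Spl S R A ι X) {Y : Type u} [CommRing Y] [Algebra S Y] (g : X →ₐ[S] Y) :
    Function.Bijective (liftF ((pushR g).mapMatrix.comp s.φ)) := by
  refine bijective_of_basis _ (push_smul _ s.smul' g) (fun i j => pushA g (s.z i j)) (fun i j => ?_)
    fun a => ?_
  · rw [liftF_push, s.liftF_z, Matrix.map_single, map_one]
  · simp only [AlgHom.comp_apply, AlgHom.mapMatrix_apply, Matrix.map_apply, scal_push, ← map_mul,
      ← map_sum, s.span_z]
    rw [Algebra.TensorProduct.map_tmul, map_one, AlgHom.id_apply]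

/-- Push a splitting forward. -/
def push (s : Spl S R A ι X) {Y : Type u} [CommRing Y] [Algebra S Y] (g : X →ₐ[S] Y) :
    Spl S R A ι Y where
  φ := (pushR g).mapMatrix.comp s.φ
  smul' := push_smul _ s.smul' g
  bij := push_bij s g

theorem push_φ (s : Spl S R A ι X) {Y : Type u} [CommRing Y] [Algebra S Y] (g : X →ₐ[S] Y) (a : A) :
    (s.push g).φ a = (s.φ a).map (pushR g) := rfl

variable (S R X ι) in
/-- The trivial splitting of a matrix algebra. -/
def self : Spl S R (Matrix ι ι R) ι X where
  φ := (Algebra.TensorProduct.includeRight : R →ₐ[S] X ⊗[S] R).mapMatrix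
  smul' r a := by
    ext i j
    simp [AlgHom.mapMatrix_apply, Algebra.TensorProduct.tmul_mul_tmul]
  bij := by
    refine bijective_of_basis _ (fun r a => ?_) (fun i j => (1 : X) ⊗ₜ Matrix.single i j 1)
      (fun i j => ?_) fun M => ?_
    · ext i j
      simp [AlgHom.mapMatrix_apply, Algebra.TensorProduct.tmul_mul_tmul]
    · rw [liftF_tmul, one_smul, AlgHom.mapMatrix_apply, Matrix.map_single, map_one]
    · conv_rhs => rw [Matrix.matrix_eq_sum_single M]
      simp only [TensorProduct.tmul_sum]
      refine Finset.sum_congr rfl fun i _ => Finset.sum_congr rfl fun j _ => ?_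
      show ((1 : X) ⊗ₜ[S] algebraMap R (Matrix ι ι R) (M i j)) * _ = _
      rw [Algebra.TensorProduct.tmul_mul_tmul, one_mul, ← Algebra.smul_def, Matrix.smul_single,
        smul_eq_mul, mul_one]

/-- Splitting of matrices over the algebra. -/
def block (s : Spl S R A ι X) (κ : Type*) [Fintype κ] [DecidableEq κ] :
    Spl S R (Matrix κ κ A) (κ × ι) X where
  φ := (Matrix.compAlgEquiv κ ι (X ⊗[S] R) S).toAlgHom.comp s.φ.mapMatrix
  smul' r M := by
    ext i j
    simp [Matrix.compAlgEquiv, AlgHom.mapMatrix_apply, s.smul']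
  bij := by
    let L : κ → κ → X ⊗[S] A →ₗ[X] X ⊗[S] Matrix κ κ A := fun i j =>
      LinearMap.baseChange X (Matrix.singleLinearMap S i j : A →ₗ[S] Matrix κ κ A)
    have hL : ∀ i j z, liftF ((Matrix.compAlgEquiv κ ι (X ⊗[S] R) S).toAlgHom.comp s.φ.mapMatrix)
        (L i j z) = Matrix.comp κ κ ι ι _ (Matrix.single i j (liftF s.φ z)) := by
      intro i j z
      induction z using TensorProduct.induction_on with
      | zero => ext a b; simp [Matrix.comp_apply]
      | add a b ha hb =>
        simp only [map_add, ha, hb, Matrix.single_add]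
        ext a b; simp [Matrix.comp_apply]
      | tmul x a =>
        simp only [L, LinearMap.baseChange_tmul, liftF_tmul]
        ext c d
        rcases eq_or_ne i c.1 with rfl | hc
        · rcases eq_or_ne j d.1 with rfl | hd
          · simp [Matrix.compAlgEquiv, AlgHom.mapMatrix_apply, Matrix.comp_apply]
          · simp [Matrix.compAlgEquiv, AlgHom.mapMatrix_apply, Matrix.comp_apply, hd]
        · simp [Matrix.compAlgEquiv, AlgHom.mapMatrix_apply, Matrix.comp_apply, hc]
    have hs : ∀ (i j : κ) (c : X ⊗[S] R) (z : X ⊗[S] A), scal X (Matrix κ κ A) c * L i j z = L i j (scal X A c * z) := by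
      intro i j c z
      induction c using TensorProduct.induction_on with
      | zero => simp
      | add a b ha hb => simp only [map_add, add_mul, ha, hb]
      | tmul x r =>
        induction z using TensorProduct.induction_on with
        | zero => simp
        | add a b ha hb => simp only [map_add, mul_add, ha, hb]
        | tmul y a =>
          show (x ⊗ₜ[S] algebraMap R (Matrix κ κ A) r) * (y ⊗ₜ[S] Matrix.single i j a) =
            L i j ((x ⊗ₜ[S] algebraMap R A r) * (y ⊗ₜ[S] a))
          simp only [Algebra.TensorProduct.tmul_mul_tmul, L, LinearMap.baseChange_tmul,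
            ← Algebra.smul_def, Matrix.smul_single]
          rfl
    refine bijective_of_basis _ (fun r M => ?_) (fun c d => L c.1 d.1 (s.z c.2 d.2))
      (fun c d => ?_) fun M => ?_
    · ext i j
      simp [Matrix.compAlgEquiv, AlgHom.mapMatrix_apply, s.smul']
    · rw [hL, s.liftF_z]
      exact Matrix.comp_single_single ..
    · simp only [hs, Fintype.sum_prod_type]
      conv_rhs => rw [Matrix.matrix_eq_sum_single M]
      simp only [TensorProduct.tmul_sum]
      refine Finset.sum_congr rfl fun i _ => ?_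
      rw [Finset.sum_comm]
      refine Finset.sum_congr rfl fun j _ => ?_
      show ∑ a, ∑ b, L i j (scal X A (s.φ (M i j) a b) * s.z a b) = _
      simp only [← map_sum, s.span_z]
      rfl

end Spl

variable (lam : R ≃ₐ[S] R)

/-- `w` is a Gram matrix of `t` in the splitting `s`. -/
structure Gram (t : AzInv.LamInv R A lam) (s : Spl S R A ι X) (w : Matrix ι ι (X ⊗[S] R))
    (e : X ⊗[S] R) : Prop where
  unit : IsUnit w.det
  herm : AzInv.lamTr (lamX lam X) w = e • w
  norm : lamX lam X e * e = 1
  conj : ∀ a, s.φ (t a) * w = w * AzInv.lamTr (lamX lam X) (s.φ a)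

namespace Gram

variable {lam} {t : AzInv.LamInv R A lam} {s : Spl S R A ι X} {w : Matrix ι ι (X ⊗[S] R)}
  {e : X ⊗[S] R}

theorem equiv_bc (h : Gram lam t s w e) (x : X ⊗[S] A) :
    s.equiv (t.bc S lam X x) * w = w * AzInv.lamTr (lamX lam X) (s.equiv x) := by
  induction x using TensorProduct.induction_on with
  | zero => ext i j; simp [Matrix.mul_apply]
  | add a b ha hb => simp only [map_add, add_mul, lamTr_add, mul_add, ha, hb]
  | tmul x a =>
    rw [AzInv.LamInv.bc_tmul, Spl.equiv_tmul, Spl.equiv_tmul, smul_mul_assoc, h.conj,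
      ← algebraMap_smul (X ⊗[S] R) x (s.φ a), lamTr_smul, AlgEquiv.commutes, mul_smul_comm,
      algebraMap_smul]

theorem push (h : Gram lam t s w e) {Y : Type u} [CommRing Y] [Algebra S Y] (g : X →ₐ[S] Y) :
    Gram lam t (s.push g) (w.map (pushR g)) (pushR g e) where
  unit := by
    rw [← AlgHom.coe_toRingHom, ← RingHom.mapMatrix_apply, ← RingHom.map_det]
    exact h.unit.map _
  herm := by
    rw [← pushR_lamTr, h.herm]
    ext i j
    simp
  norm := by rw [← pushR_lamX, ← map_mul, h.norm, map_one]
  conj a := by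
    rw [Spl.push_φ, Spl.push_φ, ← Matrix.map_mul, h.conj, Matrix.map_mul, pushR_lamTr]

theorem smul (h : Gram lam t s w e) (hlam : ∀ r, lam (lam r) = r) {c e' : X ⊗[S] R} (hc : IsUnit c)
    (hce : lamX lam X c * e = c * e') : Gram lam t s (c • w) e' where
  unit := by
    rw [Matrix.det_smul]
    exact (hc.pow _).mul h.unit
  herm := by rw [lamTr_smul, h.herm, smul_smul, hce, smul_smul, mul_comm]
  norm := by
    have h1 : IsUnit (lamX lam X c * c) := (hc.map _).mul hc
    refine h1.mul_left_cancel ?_
    calc lamX lam X c * c * (lamX lam X e' * e')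
        = lamX lam X (c * e') * (c * e') := by rw [map_mul]; ring
      _ = lamX lam X (lamX lam X c) * lamX lam X c * (lamX lam X e * e) := by
        rw [← hce, map_mul]; ring
      _ = lamX lam X c * c * 1 := by
        rw [h.norm, mul_one, mul_one, lamX_lamX lam X hlam, mul_comm]
  conj a := by rw [mul_smul_comm, h.conj, smul_mul_assoc]

end Gram

end Groth.Agent.AzInvLib
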