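import Groth.Agent.AzInvLib.Gram

/-!
# Existence of Gram matrices near a point of the fixed ring
-/

set_option autoImplicit false

universe u v w w'

noncomputable section

open scoped TensorProduct
open Matrix

namespace Groth.Agent.AzInvLib

namespace Nbd

variable {S : Type u} [CommRing S]

/-- Two neighbourhoods of a point have a common refinement. -/
theorem exists_common (N₁ N₂ : Nbd S) (h : N₁.base = N₂.base) :
    ∃ N : Nbd S, Nonempty (Hom N N₁) ∧ Nonempty (Hom N N₂) := by
  let K := N₁.base.asIdeal.ResidueField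
  let k₁ := N₁.pt.asIdeal.ResidueField
  let k₂ := N₂.pt.asIdeal.ResidueField
  let j₁ : K →+* k₁ := Ideal.ResidueField.map N₁.base.asIdeal N₁.pt.asIdeal (algebraMap S N₁.X) rfl
  let j₂ : K →+* k₂ := Ideal.ResidueField.map N₁.base.asIdeal N₂.pt.asIdeal (algebraMap S N₂.X)
    (by rw [h]; rfl)
  letI : Algebra K k₁ := j₁.toAlgebra
  letI : Algebra K k₂ := j₂.toAlgebra
  obtain ⟨L, _, i₁, i₂, hi⟩ : ∃ (L : Type u) (_ : Field L) (i₁ : k₁ →+* L) (i₂ : k₂ →+* L),
      ∀ c : K, i₁ (j₁ c) = i₂ (j₂ c) := by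
    haveI : Nontrivial (k₁ ⊗[K] k₂) :=
      Algebra.TensorProduct.nontrivial_of_algebraMap_injective_of_flat_left K k₁ k₂
        (algebraMap K k₂).injective
    obtain ⟨M, hM⟩ := Ideal.exists_maximal (k₁ ⊗[K] k₂)
    refine ⟨(k₁ ⊗[K] k₂) ⧸ M, Ideal.Quotient.field M,
      (Ideal.Quotient.mk M).comp Algebra.TensorProduct.includeLeftRingHom,
      (Ideal.Quotient.mk M).comp Algebra.TensorProduct.includeRight.toRingHom, fun c => ?_⟩
    show Ideal.Quotient.mk M ((algebraMap K k₁ c) ⊗ₜ[K] (1 : k₂)) =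
      Ideal.Quotient.mk M ((1 : k₁) ⊗ₜ[K] algebraMap K k₂ c)
    rw [Algebra.algebraMap_eq_smul_one, Algebra.algebraMap_eq_smul_one, TensorProduct.smul_tmul]
  letI : Algebra S L := ((i₁.comp j₁).comp (algebraMap S K)).toAlgebra
  let f₁ : N₁.X →ₐ[S] L :=
    { toRingHom := i₁.comp (algebraMap N₁.X k₁)
      commutes' := fun s => by
        show i₁ (algebraMap N₁.X k₁ (algebraMap S N₁.X s)) = i₁ (j₁ (algebraMap S K s))
        congr 1
        exact (Ideal.ResidueField.map_algebraMap _ _ _ _ s).symm }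
  let f₂ : N₂.X →ₐ[S] L :=
    { toRingHom := i₂.comp (algebraMap N₂.X k₂)
      commutes' := fun s => by
        show i₂ (algebraMap N₂.X k₂ (algebraMap S N₂.X s)) = i₁ (j₁ (algebraMap S K s))
        rw [hi]
        congr 1
        exact (Ideal.ResidueField.map_algebraMap _ _ _ _ s).symm }
  haveI : Algebra.Etale S N₁.X := N₁.et
  let Y := N₁.X ⊗[S] N₂.X
  let Φ : Y →ₐ[S] L := Algebra.TensorProduct.lift f₁ f₂ fun _ _ => Commute.all _ _
  let q : PrimeSpectrum Y := ⟨RingHom.ker Φ.toRingHom, RingHom.ker_isPrime _⟩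
  have hker : ∀ {k : Type u} [Field k] (i : k →+* L) (x : k), i x = 0 ↔ x = 0 :=
    fun i x => map_eq_zero_iff i i.injective
  have hq : PrimeSpectrum.comap (algebraMap N₁.X Y) q = N₁.pt := by
    refine PrimeSpectrum.ext (Ideal.ext fun x => ?_)
    show Φ (x ⊗ₜ[S] (1 : N₂.X)) = 0 ↔ _
    simp only [Φ]
    rw [Algebra.TensorProduct.lift_tmul, map_one, mul_one]
    exact (hker i₁ _).trans Ideal.algebraMap_residueField_eq_zero
  have hq₂ : PrimeSpectrum.comap (Algebra.TensorProduct.includeRight : N₂.X →ₐ[S] Y).toRingHom q =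
      N₂.pt := by
    refine PrimeSpectrum.ext (Ideal.ext fun x => ?_)
    show Φ ((1 : N₁.X) ⊗ₜ[S] x) = 0 ↔ _
    simp only [Φ]
    rw [Algebra.TensorProduct.lift_tmul, map_one, one_mul]
    exact (hker i₂ _).trans Ideal.algebraMap_residueField_eq_zero
  refine ⟨N₁.extend Y q, ⟨N₁.extendHom Y q hq⟩,
    ⟨⟨{ toRingHom := ((Algebra.TensorProduct.includeRight : N₂.X →ₐ[S] Y).toRingHom :
          N₂.X →+* Y)
        commutes' := fun s => (Algebra.TensorProduct.includeRight : N₂.X →ₐ[S] Y).commutes s }, hq₂⟩⟩⟩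

end Nbd

variable {S : Type u} {R : Type v} [CommRing S] [CommRing R] [Algebra S R] {lam : R ≃ₐ[S] R}
  {A : Type w} [Ring A] [Algebra S A] [Algebra R A] [IsScalarTower S R A]
  {A' : Type w'} [Ring A'] [Algebra S A'] [Algebra R A'] [IsScalarTower S R A']
  {ι : Type*} [Fintype ι] [DecidableEq ι]

/-- A matrix algebra is Azumaya of the expected degree. -/
theorem isAzumayaDeg_matrix (P : Type*) [CommRing P] (n : ℕ) (hn : 0 < n) :
    AzInv.IsAzumayaDeg P (Matrix (Fin n) (Fin n) P) n := by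
  haveI : Nonempty (Fin n) := ⟨⟨0, hn⟩⟩
  refine ⟨IsAzumaya.matrix P (Fin n), fun p => ?_⟩
  haveI : Nontrivial P := ⟨⟨0, 1, fun h => p.isPrime.ne_top
    ((Ideal.eq_top_iff_one _).mpr (h ▸ p.asIdeal.zero_mem))⟩⟩
  rw [Module.rankAtStalk_eq_finrank_of_free]
  simp [Module.finrank_matrix, pow_two]

section Scal

variable {X : Type u} [CommRing X] [Algebra S X]

theorem bc_mul (t : AzInv.LamInv R A lam) (x y : X ⊗[S] A) :
    t.bc S lam X (x * y) = t.bc S lam X y * t.bc S lam X x := by
  induction x using TensorProduct.induction_on with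
  | zero => simp
  | add a b ha hb => simp only [add_mul, map_add, mul_add, ha, hb]
  | tmul c a =>
    induction y using TensorProduct.induction_on with
    | zero => simp
    | add a b ha hb => simp only [add_mul, map_add, mul_add, ha, hb]
    | tmul d b =>
      simp only [Algebra.TensorProduct.tmul_mul_tmul, AzInv.LamInv.bc_tmul, t.map_mul, mul_comm c]

theorem bc_bc' (t : AzInv.LamInv R A lam) (x : X ⊗[S] A) :
    t.bc S lam X (t.bc S lam X x) = x := by
  induction x using TensorProduct.induction_on with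
  | zero => simp
  | add a b ha hb => simp only [map_add, ha, hb]
  | tmul c a => simp only [AzInv.LamInv.bc_tmul, t.invol]

theorem bc_scal (t : AzInv.LamInv R A lam) (c : X ⊗[S] R) (x : X ⊗[S] A) :
    t.bc S lam X (scal X A c * x) = scal X A (lamX lam X c) * t.bc S lam X x := by
  induction c using TensorProduct.induction_on with
  | zero => simp
  | add a b ha hb => simp only [map_add, add_mul, ha, hb]
  | tmul d r =>
    rw [bc_mul, show scal X A (d ⊗ₜ[S] r) = d ⊗ₜ[S] algebraMap R A r from rfl, AzInv.LamInv.bc_tmul,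
      t.map_algebraMap, lamX_tmul]
    exact ((commute_scal X A (d ⊗ₜ[S] lam r) _).eq).symm

end Scal

/-- A Gram matrix exists near every point. -/
theorem exists_gram (hlam : ∀ r, lam (lam r) = r) (hfix : RInv.IsFixedRing S R lam.toRingEquiv)
    {n : ℕ} (hn : 0 < n) (hA : AzInv.IsAzumayaDeg R A n) (t : AzInv.LamInv R A lam)
    (p : PrimeSpectrum S) :
    ∃ (N : Nbd S) (s : Spl S R A (Fin n) N.X) (w : Matrix (Fin n) (Fin n) (N.X ⊗[S] R))
      (e : N.X ⊗[S] R), N.base = p ∧ Gram lam t s w e := by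
  obtain ⟨X, _, _, _, _, f, hf⟩ := Groth.Agent.S17356.result S R lam hlam hfix A n hn hA
  obtain ⟨x, hx⟩ := PrimeSpectrum.comap_surjective_of_faithfullyFlat (A := S) (B := X) p
  let N₀ : Nbd S := { X := X, pt := x }
  let φ : A →ₐ[S] Matrix (Fin n) (Fin n) (X ⊗[S] R) :=
    (f.toAlgHom.restrictScalars S).comp Algebra.TensorProduct.includeRight
  have hφ : ∀ (r : R) a, φ (r • a) = ((1 : X) ⊗ₜ[S] r) • φ a := fun r a => by
    show f ((1 : X) ⊗ₜ (r • a)) = ((1 : X) ⊗ₜ[S] r) • f ((1 : X) ⊗ₜ a)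
    rw [show ((1 : X) ⊗ₜ[S] (r • a)) = ((1 : X) ⊗ₜ[S] algebraMap R A r) * ((1 : X) ⊗ₜ a) by
      rw [Algebra.TensorProduct.tmul_mul_tmul, one_mul, Algebra.smul_def], hf,
      Matrix.scalar_apply, ← Matrix.smul_eq_diagonal_mul]
  have hF : ⇑(liftF φ) = ⇑f := funext fun z => by
    induction z using TensorProduct.induction_on with
    | zero => simp
    | add a b ha hb => simp only [map_add, ha, hb]
    | tmul c a =>
      rw [liftF_tmul]
      show c • f ((1 : X) ⊗ₜ a) = _
      rw [← map_smul, TensorProduct.smul_tmul', smul_eq_mul, mul_one]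
  let s₀ : Spl S R A (Fin n) X := ⟨φ, hφ, hF ▸ f.bijective⟩
  let P := X ⊗[S] R
  let t'' : Matrix (Fin n) (Fin n) P → Matrix (Fin n) (Fin n) P := fun M =>
    s₀.equiv (t.bc S lam X (s₀.equiv.symm M))
  have ht_mul : ∀ M M', t'' (M * M') = t'' M' * t'' M := fun M M' => by
    simp only [t'', map_mul, bc_mul]
  have ht_smul : ∀ (c : P) M, t'' (c • M) = lamX lam X c • t'' M := fun c M => by
    have e1 : s₀.equiv.symm (c • M) = scal X A c * s₀.equiv.symm M := by
      rw [AlgEquiv.symm_apply_eq, Spl.equiv_scal, AlgEquiv.apply_symm_apply]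
    simp only [t'', e1, bc_scal, Spl.equiv_scal]
  have ht_ht : ∀ M, t'' (t'' M) = M := fun M => by
    simp only [t'', AlgEquiv.symm_apply_apply, bc_bc', AlgEquiv.apply_symm_apply]
  have ht_add : ∀ M M', t'' (M + M') = t'' M + t'' M' := fun M M' => by simp only [t'', map_add]
  have hl := lamX_lamX lam X hlam
  let L : Matrix (Fin n) (Fin n) P → Matrix (Fin n) (Fin n) P := AzInv.lamTr (lamX lam X)
  let ψ : Matrix (Fin n) (Fin n) P ≃ₐ[P] Matrix (Fin n) (Fin n) P :=
    AlgEquiv.ofRingEquiv (f :=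
      { toFun := fun M => t'' (L M)
        invFun := fun M => L (t'' M)
        left_inv := fun M => by simp only [L, ht_ht, lamTr_lamTr _ hl]
        right_inv := fun M => by simp only [L, lamTr_lamTr _ hl, ht_ht]
        map_mul' := fun M M' => by simp only [L, lamTr_mul, ht_mul]
        map_add' := fun M M' => by simp only [L, lamTr_add, ht_add] }) fun c => by
      show t'' (AzInv.lamTr (lamX lam X) (algebraMap P _ c)) = algebraMap P _ c
      rw [Algebra.algebraMap_eq_smul_one, lamTr_smul, lamTr_one, ht_smul, hl]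
      congr 1
      show s₀.equiv (t.bc S lam X (s₀.equiv.symm 1)) = 1
      rw [map_one, Algebra.TensorProduct.one_def, AzInv.LamInv.bc_tmul, t.map_one,
        ← Algebra.TensorProduct.one_def, map_one]
  obtain ⟨X', _, _, _, _, u, hu⟩ := Groth.Agent.S17357.result X P (lamX lam X) hl
    (isFixed_lamX lam X hfix) (Matrix (Fin n) (Fin n) P) n hn (isAzumayaDeg_matrix P n hn) ψ
  obtain ⟨x', hx'⟩ := PrimeSpectrum.comap_surjective_of_faithfullyFlat (A := X) (B := X') x
  let N := N₀.extend X' x'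
  let g : X →ₐ[S] N.X := (N₀.extendHom X' x' hx').g
  let G : P →+* N.X ⊗[S] R := (pushR g).toRingHom
  letI : Algebra X (N.X ⊗[S] R) := (G.comp (algebraMap X P)).toAlgebra
  let μ : X' ⊗[X] Matrix (Fin n) (Fin n) P →+* Matrix (Fin n) (Fin n) (N.X ⊗[S] R) :=
    let i₁ : X' →ₐ[X] Matrix (Fin n) (Fin n) (N.X ⊗[S] R) :=
      { toRingHom := ((Matrix.scalar (Fin n)).comp
          (algebraMap N.X (N.X ⊗[S] R)) : N.X →+* Matrix (Fin n) (Fin n) (N.X ⊗[S] R))
        commutes' := fun y => by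
          show Matrix.scalar (Fin n) (algebraMap N.X (N.X ⊗[S] R) (g y)) = _
          rw [← pushR_algebraMap]
          rfl }
    let i₂ : Matrix (Fin n) (Fin n) P →ₐ[X] Matrix (Fin n) (Fin n) (N.X ⊗[S] R) :=
      { toRingHom := G.mapMatrix
        commutes' := fun y => by
          show (algebraMap X (Matrix (Fin n) (Fin n) P) y).map G = _
          ext i j
          rcases eq_or_ne i j with rfl | h
          · simp only [Matrix.map_apply, Matrix.algebraMap_matrix_apply, if_true]
            rfl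
          · simp [Matrix.algebraMap_matrix_apply, h] }
    (Algebra.TensorProduct.lift i₁ i₂ fun c M => Matrix.scalar_commute _ (fun _ => Commute.all _ _) _).toRingHom
  have hμ : ∀ M : Matrix (Fin n) (Fin n) P, μ ((1 : X') ⊗ₜ[X] M) = M.map (pushR g) := fun M => by
    refine (Algebra.TensorProduct.lift_tmul _ _ _ _ _).trans ?_
    rw [map_one, one_mul]
    rfl
  let W : (Matrix (Fin n) (Fin n) (N.X ⊗[S] R))ˣ := Units.map μ.toMonoidHom u
  have hψ : ∀ M : Matrix (Fin n) (Fin n) P,
      (t'' (L M)).map (pushR g) * (W : Matrix (Fin n) (Fin n) (N.X ⊗[S] R)) =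
        (W : Matrix (Fin n) (Fin n) (N.X ⊗[S] R)) * M.map (pushR g) := fun M => by
    have h1 := congrArg μ (hu ((1 : X') ⊗ₜ M))
    rw [Algebra.TensorProduct.congr_apply, Algebra.TensorProduct.map_tmul, map_mul, map_mul, hμ] at h1
    replace h1 : (t'' (L M)).map (pushR g) =
        (W : Matrix (Fin n) (Fin n) (N.X ⊗[S] R)) * M.map (pushR g) *
          ((W⁻¹ : (Matrix (Fin n) (Fin n) (N.X ⊗[S] R))ˣ) : Matrix (Fin n) (Fin n) (N.X ⊗[S] R)) :=
      (hμ _).symm.trans h1
    rw [h1, Units.inv_mul_cancel_right]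
  set s := s₀.push g with hs
  set w : Matrix (Fin n) (Fin n) (N.X ⊗[S] R) := ↑W with hw
  have hconj : ∀ a, s.φ (t a) * w = w * AzInv.lamTr (lamX lam N.X) (s.φ a) := fun a => by
    have h1 : s₀.φ (t a) = t'' (L (L (s₀.φ a))) := by
      simp only [L, lamTr_lamTr _ hl, t'']
      rw [← s₀.equiv_one_tmul a, AlgEquiv.symm_apply_apply, AzInv.LamInv.bc_tmul,
        Spl.equiv_one_tmul]
    rw [hs, Spl.push_φ, Spl.push_φ, h1, hψ, pushR_lamTr]
  have hl' := lamX_lamX lam N.X hlam
  set iw : Matrix (Fin n) (Fin n) (N.X ⊗[S] R) := ↑W⁻¹ with hiw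
  set Z := AzInv.lamTr (lamX lam N.X) w * iw with hZ
  have hZc : ∀ a, Commute Z (s.φ a) := fun a => by
    have h1 := congrArg (AzInv.lamTr (lamX lam N.X)) (hconj a)
    rw [lamTr_mul, lamTr_mul, lamTr_lamTr _ hl'] at h1
    have h2 : AzInv.lamTr (lamX lam N.X) (s.φ (t a)) = iw * s.φ a * w := by
      have := hconj (t a)
      rw [t.invol] at this
      rw [mul_assoc, this, ← mul_assoc, hiw, hw, Units.inv_mul, one_mul]
    rw [h2] at h1
    show Z * s.φ a = s.φ a * Z
    calc Z * s.φ a = AzInv.lamTr (lamX lam N.X) w * (iw * s.φ a * w) * iw := by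
          simp only [hZ, hiw, hw, mul_assoc, Units.mul_inv, mul_one]
      _ = s.φ a * Z := by rw [h1, hZ, mul_assoc]
  have hZall : ∀ z, Commute Z (liftF s.φ z) := fun z => by
    induction z using TensorProduct.induction_on with
    | zero => simp
    | add a b ha hb => rw [map_add]; exact ha.add_right hb
    | tmul c a => rw [liftF_tmul]; exact (hZc a).smul_right c
  obtain ⟨e, he⟩ := Matrix.mem_range_scalar_iff_commute_single'.mpr fun i j => by
    obtain ⟨z, hz⟩ := s.bij.2 (Matrix.single i j 1)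
    rw [← hz]
    exact (hZall z).symm
  have hherm : AzInv.lamTr (lamX lam N.X) w = e • w := by
    rw [Matrix.smul_eq_diagonal_mul, ← Matrix.scalar_apply, he, hZ, hiw, hw,
      Units.inv_mul_cancel_right]
  refine ⟨N, s, w, e, (N₀.extendHom X' x' hx').base_eq.trans hx,
    ⟨(Matrix.isUnit_iff_isUnit_det _).mp W.isUnit, hherm, ?_, hconj⟩⟩
  have h1 := congrArg (AzInv.lamTr (lamX lam N.X)) hherm
  rw [lamTr_lamTr _ hl', lamTr_smul, hherm, smul_smul] at h1
  have h2 : (1 : Matrix (Fin n) (Fin n) (N.X ⊗[S] R)) = (lamX lam N.X e * e) • (1 : Matrix _ _ _) := by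
    have := congrArg (fun M => M * iw) h1
    simpa only [hw, hiw, smul_mul_assoc, Units.mul_inv] using this
  simpa using (congrFun (congrFun h2 ⟨0, hn⟩) ⟨0, hn⟩).symm

section Iso

variable {X : Type u} [CommRing X] [Algebra S X] {t : AzInv.LamInv R A lam}
  {t' : AzInv.LamInv R A' lam} {s : Spl S R A ι X} {s' : Spl S R A' ι X}
  {w : Matrix ι ι (X ⊗[S] R)} {e e' : X ⊗[S] R}

/-- Equal Gram matrices give isomorphic algebras with involution. -/
theorem isoOver_of_gram (h : Gram lam t s w e) (h' : Gram lam t' s' w e') : IsoOver lam t t' X := by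
  refine ⟨s.equiv.trans s'.equiv.symm, fun r x => ?_, fun x => ?_⟩
  · apply s'.equiv.injective
    simp only [map_mul, AlgEquiv.trans_apply, AlgEquiv.apply_symm_apply]
    rw [Spl.equiv_one_tmul, Spl.equiv_one_tmul, Algebra.algebraMap_eq_smul_one,
      Algebra.algebraMap_eq_smul_one, s.smul', s'.smul', map_one, map_one]
  · apply s'.equiv.injective
    simp only [AlgEquiv.trans_apply, AlgEquiv.apply_symm_apply]
    have h1 := h'.equiv_bc (s'.equiv.symm (s.equiv x))
    rw [AlgEquiv.apply_symm_apply, ← h.equiv_bc] at h1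
    have hw := (Matrix.isUnit_iff_isUnit_det w).mpr h.unit
    exact (hw.mul_right_cancel h1).symm

end Iso

end Groth.Agent.AzInvLib
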