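import Groth.Agent.AzInvLib.Normal
import Mathlib.Data.Sym.Card
import Mathlib.LinearAlgebra.Dimension.Finrank
import Mathlib.LinearAlgebra.Matrix.Transvection

/-!
# The orthogonal / symplectic sign at a ramified prime
-/

set_option autoImplicit false

universe u v w w'

noncomputable section

open scoped TensorProduct
open Matrix

namespace Groth.Agent.AzInvLib

section Sym

variable (L : Type*) [Field L] (ι : Type*) [Fintype ι] [DecidableEq ι]

/-- Matrices with `Nᵀ = ε N`. -/
def symSub (ε : L) : Submodule L (Matrix ι ι L) where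
  carrier := {N | Nᵀ = ε • N}
  add_mem' {a b} ha hb := by
    rw [Set.mem_setOf_eq] at *
    rw [Matrix.transpose_add, ha, hb, smul_add]
  zero_mem' := by simp
  smul_mem' c a ha := by
    rw [Set.mem_setOf_eq] at *
    rw [Matrix.transpose_smul, ha, smul_comm]

omit [Fintype ι] [DecidableEq ι] in
theorem mem_symSub {ε : L} {N : Matrix ι ι L} : N ∈ symSub L ι ε ↔ Nᵀ = ε • N := Iff.rfl

/-- Symmetric matrices are functions on unordered pairs. -/
def symEquiv : symSub L ι (1 : L) ≃ₗ[L] (Sym2 ι → L) where
  toFun N := Sym2.lift ⟨fun i j => (N : Matrix ι ι L) i j, fun i j => by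
    have h : (N : Matrix ι ι L)ᵀ = (1 : L) • (N : Matrix ι ι L) := N.2
    rw [one_smul] at h
    exact congrFun (congrFun h j) i⟩
  invFun f := ⟨Matrix.of fun i j => f s(i, j), by
    rw [mem_symSub, one_smul]
    ext i j
    simp [Sym2.eq_swap]⟩
  map_add' N N' := by
    funext z
    induction z using Sym2.ind with
    | _ i j => simp
  map_smul' c N := by
    funext z
    induction z using Sym2.ind with
    | _ i j => simp
  left_inv N := by ext i j; simp
  right_inv f := by
    funext z
    induction z using Sym2.ind with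
    | _ i j => simp

omit [DecidableEq ι] in
theorem finrank_symSub_one : Module.finrank L (symSub L ι (1 : L)) = (Fintype.card ι + 1).choose 2 := by
  classical
  rw [LinearEquiv.finrank_eq (symEquiv L ι), Module.finrank_fintype_fun_eq_card, Sym2.card]

omit [DecidableEq ι] in
theorem finrank_symSub_neg_one (h2 : (2 : L) ≠ 0) :
    Module.finrank L (symSub L ι (-1 : L)) = (Fintype.card ι).choose 2 := by
  classical
  have hc : IsCompl (symSub L ι (1 : L)) (symSub L ι (-1 : L)) := by
    constructor
    · rw [Submodule.disjoint_def]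
      intro N h1 h3
      rw [mem_symSub, one_smul] at h1
      rw [mem_symSub, h1, neg_one_smul] at h3
      ext i j
      have h4 : N i j = -N i j := congrFun (congrFun h3 i) j
      have : (2 : L) * N i j = 0 := by linear_combination h4
      exact (mul_eq_zero.mp this).resolve_left h2
    · rw [codisjoint_iff, eq_top_iff]
      intro N _
      refine Submodule.mem_sup.mpr ⟨(2 : L)⁻¹ • (N + Nᵀ), ?_, (2 : L)⁻¹ • (N - Nᵀ), ?_, ?_⟩
      · rw [mem_symSub, one_smul, Matrix.transpose_smul, Matrix.transpose_add, Matrix.transpose_transpose,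
          add_comm]
      · rw [mem_symSub, Matrix.transpose_smul, Matrix.transpose_sub, Matrix.transpose_transpose,
          neg_one_smul, ← smul_neg, neg_sub]
      · rw [← smul_add, add_add_sub_cancel, ← two_smul L, smul_smul, inv_mul_cancel₀ h2, one_smul]
  have h1 := Submodule.finrank_add_eq_of_isCompl hc
  rw [finrank_symSub_one, Module.finrank_matrix, Module.finrank_self, mul_one] at h1
  have h3 : (Fintype.card ι + 1).choose 2 + (Fintype.card ι).choose 2 = Fintype.card ι * Fintype.card ι := by
    generalize Fintype.card ι = k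
    induction k with
    | zero => rfl
    | succ k ih =>
      rw [Nat.choose_succ_succ' (k + 1) 1, Nat.choose_succ_succ' k 1, Nat.choose_one_right,
        Nat.choose_one_right] at *
      nlinarith
  omega

end Sym

variable {S : Type u} {R : Type v} [CommRing S] [CommRing R] [Algebra S R] {lam : R ≃ₐ[S] R}
  {A : Type w} [Ring A] [Algebra S A] [Algebra R A] [IsScalarTower S R A]

/-- The span of the symmetric elements over a field. -/
def symSpan (L : Type*) [Field L] [Algebra R L] (t : AzInv.LamInv R A lam) : Submodule L (L ⊗[R] A) :=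
  Submodule.span L (Set.range fun a : {a : A // t a = a} => (1 : L) ⊗ₜ[R] (a : A))

omit [IsScalarTower S R A] in
/-- The dimension of the span of the symmetric elements does not change under field extensions. -/
theorem finrank_symSpan_eq (K L : Type*) [Field K] [Field L] [Algebra R K] [Algebra R L] [Algebra K L]
    [IsScalarTower R K L] (t : AzInv.LamInv R A lam) :
    Module.finrank L (symSpan L t) = Module.finrank K (symSpan K t) := by
  let c := TensorProduct.AlgebraTensorModule.cancelBaseChange R K L L A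
  have hmap : ((symSpan K t).baseChange L).map c.toLinearMap = symSpan L t := by
    rw [symSpan, Submodule.baseChange_span, Submodule.map_span, ← Set.image_comp, ← Set.range_comp,
      symSpan]
    congr 1
    refine congrArg Set.range (funext fun a => ?_)
    simp [c]
  rw [← hmap, LinearEquiv.finrank_map_eq, Submodule.baseChange,
    LinearMap.finrank_range_of_inj, Module.finrank_baseChange]
  exact Module.Flat.lTensor_preserves_injective_linearMap _ (Submodule.injective_subtype _)

section Compute

variable {ι : Type*} [Fintype ι] [DecidableEq ι] {X : Type u} [CommRing X] [Algebra S X]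
  {t : AzInv.LamInv R A lam} {s : Spl S R A ι X} {w : Matrix ι ι (X ⊗[S] R)} {e : X ⊗[S] R}
  {L : Type*} [Field L] [Algebra R L]

/-- The value of a Gram matrix on the span of the symmetric elements. -/
theorem finrank_symSpan_of_gram (h : Gram lam t s w e) (τ : X ⊗[S] R →+* L)
    (hτ : ∀ r, τ ((1 : X) ⊗ₜ[S] r) = algebraMap R L r) (hfix : ∀ z, τ (lamX lam X z) = τ z)
    (h2 : (2 : L) ≠ 0) :
    Module.finrank L (symSpan L t) = Module.finrank L (symSub L ι (τ e)) := by
  letI : Algebra S L := ((algebraMap R L).comp (algebraMap S R)).toAlgebra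
  haveI : IsScalarTower S R L := IsScalarTower.of_algebraMap_eq' rfl
  let f : A →ₗ[R] Matrix ι ι L :=
    { toFun := fun a => (s.φ a).map τ
      map_add' := fun a b => by rw [map_add, Matrix.map_add _ (map_add τ)]
      map_smul' := fun r a => by
        rw [s.smul', RingHom.id_apply]
        ext i j
        rw [Matrix.map_apply, Matrix.smul_apply, Matrix.smul_apply, Matrix.map_apply, smul_eq_mul,
          map_mul, hτ, ← Algebra.smul_def] }
  let Φ : L ⊗[R] A →ₗ[L] Matrix ι ι L := f.liftBaseChange L
  have hΦ : ∀ a, Φ ((1 : L) ⊗ₜ a) = f a := fun a => by simp [Φ]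
  let η : X ⊗[S] A →ₐ[S] L ⊗[R] A :=
    Algebra.TensorProduct.lift
      ((Algebra.TensorProduct.includeLeft : L →ₐ[S] L ⊗[R] A).comp
        { toRingHom := τ.comp (algebraMap X (X ⊗[S] R))
          commutes' := fun c => by
            show τ (algebraMap S X c ⊗ₜ[S] (1 : R)) = algebraMap R L (algebraMap S R c)
            rw [← hτ, Algebra.algebraMap_eq_smul_one, Algebra.algebraMap_eq_smul_one,
              TensorProduct.smul_tmul] })
      ((Algebra.TensorProduct.includeRight : A →ₐ[R] L ⊗[R] A).restrictScalars S)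
      fun x a => by
        simp [Commute, SemiconjBy, Algebra.TensorProduct.tmul_mul_tmul]
  have hη : ∀ (x : X) (a : A), η (x ⊗ₜ a) = τ (algebraMap X (X ⊗[S] R) x) ⊗ₜ a := fun x a => by
    simp [η, Algebra.TensorProduct.tmul_mul_tmul]
  have hη_scal : ∀ c z, η (scal X A c * z) = τ c • η z := by
    intro c z
    rw [map_mul]
    induction c using TensorProduct.induction_on with
    | zero => simp
    | add a b ha hb => rw [map_add, map_add, add_mul, ha, hb, map_add, add_smul]
    | tmul x r =>
      rw [show scal X A (x ⊗ₜ[S] r) = x ⊗ₜ[S] algebraMap R A r from rfl, hη, Algebra.smul_def]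
      congr 1
      rw [Algebra.TensorProduct.algebraMap_apply, Algebra.algebraMap_self, RingHom.id_apply,
        Algebra.algebraMap_eq_smul_one (R := R), ← TensorProduct.smul_tmul, Algebra.smul_def,
        ← hτ, ← map_mul]
      congr 2
      simp [Algebra.TensorProduct.tmul_mul_tmul]
  have hΦη : ∀ z, Φ (η z) = (liftF s.φ z).map τ := fun z => by
    induction z using TensorProduct.induction_on with
    | zero => simp
    | add a b ha hb => rw [map_add, map_add, map_add, ha, hb, Matrix.map_add _ (map_add τ)]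
    | tmul x a =>
      rw [hη, liftF_tmul]
      ext i j
      rw [show τ (algebraMap X (X ⊗[S] R) x) ⊗ₜ[R] a = τ (algebraMap X (X ⊗[S] R) x) • ((1 : L) ⊗ₜ[R] a) by
        rw [TensorProduct.smul_tmul', smul_eq_mul, mul_one], map_smul, hΦ, Matrix.smul_apply,
        Matrix.map_apply, Matrix.smul_apply, smul_eq_mul, Algebra.smul_def x, map_mul]
      rfl
  let G : Matrix ι ι L → L ⊗[R] A := fun M => ∑ i, ∑ j, M i j • η (s.z i j)
  have hGadd : ∀ M M', G (M + M') = G M + G M' := fun M M' => by
    simp [G, add_smul, Finset.sum_add_distrib]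
  have hGsmul : ∀ (c : L) M, G (c • M) = c • G M := fun c M => by
    simp [G, mul_smul, Finset.smul_sum]
  have hbij : Function.Bijective Φ := by
    refine ⟨Function.LeftInverse.injective (g := G) fun x => ?_, fun M => ⟨G M, ?_⟩⟩
    · induction x using TensorProduct.induction_on with
      | zero => simp [G]
      | add a b ha hb => rw [map_add, hGadd, ha, hb]
      | tmul l a =>
        rw [show l ⊗ₜ[R] a = l • ((1 : L) ⊗ₜ[R] a) by rw [TensorProduct.smul_tmul', smul_eq_mul, mul_one],
          map_smul, hGsmul, hΦ]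
        congr 1
        show ∑ i, ∑ j, τ (s.φ a i j) • η (s.z i j) = _
        simp only [← hη_scal, ← map_sum, s.span_z, hη, map_one]
    · simp only [G, map_sum, map_smul, hΦη, s.liftF_z, Matrix.map_single, map_one, Matrix.smul_single,
        smul_eq_mul, mul_one]
      exact (Matrix.matrix_eq_sum_single M).symm
  let e₀ := LinearEquiv.ofBijective Φ hbij
  set W := w.map τ with hW
  have hWu : IsUnit W := by
    rw [Matrix.isUnit_iff_isUnit_det, hW, ← RingHom.mapMatrix_apply, ← RingHom.map_det]
    exact h.unit.map _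
  have hWt : Wᵀ = τ e • W := by
    ext i j
    have h1 := congrArg τ (congrFun (congrFun h.herm i) j)
    rw [AzInv.lamTr_apply, hfix] at h1
    simpa [W] using h1
  have hee : τ e * τ e = 1 := by
    have h1 := congrArg τ h.norm
    rwa [map_mul, hfix, map_one] at h1
  have hconj : ∀ a, f (t a) * W = W * (f a)ᵀ := fun a => by
    have h1 := congrArg (fun M => M.map τ) (h.conj a)
    simp only [Matrix.map_mul] at h1
    refine h1.trans ?_
    congr 1
    ext i j
    simp only [f, Matrix.map_apply, AzInv.lamTr_apply, Matrix.transpose_apply, LinearMap.coe_mk,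
      AddHom.coe_mk]
    exact hfix _
  let μ : Matrix ι ι L →ₗ[L] Matrix ι ι L := LinearMap.mulRight L W
  have hμ : Function.Injective μ := fun M M' hMM => hWu.mul_right_cancel hMM
  have himg : (symSpan L t).map (μ ∘ₗ e₀.toLinearMap) = symSub L ι (τ e) := by
    refine le_antisymm ?_ fun N hN => ?_
    · rw [symSpan, Submodule.map_span, Submodule.span_le]
      rintro _ ⟨_, ⟨⟨a, ha⟩, rfl⟩, rfl⟩
      show (Φ ((1 : L) ⊗ₜ a) * W)ᵀ = τ e • (Φ ((1 : L) ⊗ₜ a) * W)
      rw [hΦ, Matrix.transpose_mul, hWt, smul_mul_assoc, ← hconj, ha]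
    · let P : Matrix ι ι L →ₗ[L] Matrix ι ι L :=
        { toFun := fun M => M + τ e • Mᵀ
          map_add' := fun a b => by rw [Matrix.transpose_add, smul_add]; abel
          map_smul' := fun c a => by
            rw [Matrix.transpose_smul, RingHom.id_apply, smul_add, smul_comm] }
      have hall : ∀ z, P (μ (Φ z)) ∈ (symSpan L t).map (μ ∘ₗ e₀.toLinearMap) := fun z => by
        induction z using TensorProduct.induction_on with
        | zero => simp
        | add a b ha hb => simp only [map_add]; exact add_mem ha hb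
        | tmul l a =>
          rw [show l ⊗ₜ[R] a = l • ((1 : L) ⊗ₜ[R] a) by rw [TensorProduct.smul_tmul', smul_eq_mul, mul_one],
            map_smul, map_smul, map_smul]
          refine Submodule.smul_mem _ l ⟨(1 : L) ⊗ₜ (a + t a),
            Submodule.subset_span ⟨⟨a + t a, by rw [t.map_add, t.invol, add_comm]⟩, rfl⟩, ?_⟩
          show Φ ((1 : L) ⊗ₜ (a + t a)) * W = Φ ((1 : L) ⊗ₜ a) * W + τ e • (Φ ((1 : L) ⊗ₜ a) * W)ᵀ
          rw [hΦ, hΦ, map_add, add_mul, hconj, Matrix.transpose_mul, hWt, smul_mul_assoc, smul_smul,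
            hee, one_smul]
      obtain ⟨M, hM⟩ := LinearMap.surjective_of_injective hμ ((2 : L)⁻¹ • N)
      obtain ⟨z, hz⟩ := hbij.2 M
      have h3 := hall z
      rw [hz, hM] at h3
      convert h3 using 1
      show N = (2 : L)⁻¹ • N + τ e • ((2 : L)⁻¹ • N)ᵀ
      rw [Matrix.transpose_smul, (mem_symSub L ι).mp hN, smul_smul, smul_smul,
        show τ e * (2 : L)⁻¹ * τ e = (2 : L)⁻¹ by rw [mul_right_comm, hee, one_mul], ← add_smul]
      rw [show (2 : L)⁻¹ + (2 : L)⁻¹ = 1 by field_simp; norm_num, one_smul]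
  rw [← himg]
  exact (Submodule.equivMapOfInjective (μ ∘ₗ e₀.toLinearMap) (hμ.comp e₀.injective) _).finrank_eq

end Compute

section Sign

variable (lam) in
/-- Orthogonality at a prime. -/
def Orth (t : AzInv.LamInv R A lam) (n : ℕ) (q : PrimeSpectrum R) : Prop :=
  Module.finrank q.asIdeal.ResidueField (symSpan q.asIdeal.ResidueField t) = (n + 1).choose 2

variable {ι : Type*} [Fintype ι] [DecidableEq ι] {t : AzInv.LamInv R A lam}

theorem choose_ne {k : ℕ} (hk : 0 < k) : (k + 1).choose 2 ≠ k.choose 2 := by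
  have h := Nat.choose_succ_succ' k 1
  rw [Nat.choose_one_right] at h
  norm_num at h ⊢
  omega

/-- The sign read off a Gram matrix near a ramified point. -/
theorem finrank_symSpan_residueField (hlam : ∀ r, lam (lam r) = r)
    (hfix : RInv.IsFixedRing S R lam.toRingEquiv) (h2 : IsUnit (2 : S)) {N : Nbd S}
    {s : Spl S R A ι N.X} {w : Matrix ι ι (N.X ⊗[S] R)} {e : N.X ⊗[S] R} (h : Gram lam t s w e)
    (q : PrimeSpectrum R) (hq : ∀ r, lam r - r ∈ q.asIdeal)
    (hbase : PrimeSpectrum.comap (algebraMap S R) q = N.base) {Q : Ideal (N.X ⊗[S] R)} [Q.IsPrime]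
    (hQ : Q.comap (algebraMap N.X (N.X ⊗[S] R)) = N.pt.asIdeal) :
    (1 + e ∉ Q → Module.finrank q.asIdeal.ResidueField (symSpan q.asIdeal.ResidueField t) =
      (Fintype.card ι + 1).choose 2) ∧
    (1 + e ∈ Q → Module.finrank q.asIdeal.ResidueField (symSpan q.asIdeal.ResidueField t) =
      (Fintype.card ι).choose 2) := by
  have hqp : q.asIdeal.comap (algebraMap S R) = N.base.asIdeal := congrArg PrimeSpectrum.asIdeal hbase
  have hram : Ram lam N.base := ram_of_exists hlam hfix hq hqp
  have hQq : Q.comap (Algebra.TensorProduct.includeRight : R →ₐ[S] N.X ⊗[S] R) = q.asIdeal :=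
    eq_of_ramified hlam hfix hq ((comap_includeRight N hQ).trans hqp.symm)
  let L := Q.ResidueField
  let τ : N.X ⊗[S] R →+* L := algebraMap _ L
  have hτ0 : ∀ z, τ z = 0 ↔ z ∈ Q := fun z => Ideal.algebraMap_residueField_eq_zero
  letI : Algebra R L := (τ.comp (Algebra.TensorProduct.includeRight : R →ₐ[S] N.X ⊗[S] R).toRingHom).toAlgebra
  let j : q.asIdeal.ResidueField →+* L := Ideal.ResidueField.map q.asIdeal Q
    (Algebra.TensorProduct.includeRight : R →ₐ[S] N.X ⊗[S] R).toRingHom hQq.symm
  letI : Algebra q.asIdeal.ResidueField L := j.toAlgebra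
  haveI : IsScalarTower R q.asIdeal.ResidueField L := IsScalarTower.of_algebraMap_eq fun r =>
    (Ideal.ResidueField.map_algebraMap _ _ _ _ r).symm
  have hfixτ : ∀ z, τ (lamX lam N.X z) = τ z := fun z => by
    rw [← sub_eq_zero, ← map_sub, hτ0]
    exact ram_lift N hQ hram z
  have h2Q := two_notMem (R := R) (N := N) h2 Q ‹Q.IsPrime›.ne_top
  have h2L : (2 : L) ≠ 0 := fun hz => h2Q ((hτ0 2).mp (by rw [map_ofNat]; exact hz))
  rw [← finrank_symSpan_eq q.asIdeal.ResidueField L t,
    finrank_symSpan_of_gram h τ (fun r => rfl) hfixτ h2L]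
  have hee : τ e * τ e = 1 := by
    have h1 := congrArg τ h.norm
    rwa [map_mul, hfixτ, map_one] at h1
  constructor <;> intro hmem
  · have he1 : τ e = 1 := (mul_self_eq_one_iff.mp hee).resolve_right fun he => hmem ((hτ0 _).mp (by
      rw [map_add, map_one, he, add_neg_cancel]))
    rw [he1, finrank_symSub_one]
  · have he1 : τ e = -1 := by
      have := (hτ0 _).mpr hmem
      rw [map_add, map_one, add_comm] at this
      exact eq_neg_of_add_eq_zero_left this
    rw [he1, finrank_symSub_neg_one L ι h2L]

/-- Orthogonality read off a Gram matrix. -/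
theorem orth_iff (hlam : ∀ r, lam (lam r) = r)
    (hfix : RInv.IsFixedRing S R lam.toRingEquiv) (h2 : IsUnit (2 : S)) {n : ℕ}
    (hn : Fintype.card ι = n) (hn0 : 0 < n) {N : Nbd S} {s : Spl S R A ι N.X}
    {w : Matrix ι ι (N.X ⊗[S] R)} {e : N.X ⊗[S] R} (h : Gram lam t s w e)
    (q : PrimeSpectrum R) (hq : ∀ r, lam r - r ∈ q.asIdeal)
    (hbase : PrimeSpectrum.comap (algebraMap S R) q = N.base) {Q : Ideal (N.X ⊗[S] R)} [Q.IsPrime]
    (hQ : Q.comap (algebraMap N.X (N.X ⊗[S] R)) = N.pt.asIdeal) :
    Orth lam t n q ↔ 1 + e ∉ Q := by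
  obtain ⟨h1, h3⟩ := finrank_symSpan_residueField hlam hfix h2 h q hq hbase hQ
  subst hn
  refine ⟨fun ho hmem => choose_ne hn0 (ho.symm.trans (h3 hmem)), h1⟩

/-- The normal form in terms of the sign. -/
theorem nf_cases (hlam : ∀ r, lam (lam r) = r) (hfix : RInv.IsFixedRing S R lam.toRingEquiv)
    (h2 : IsUnit (2 : S)) (hsq : HasSqrt S) {n : ℕ} (hn : 0 < n) {N : Nbd S}
    {s : Spl S R A (Fin n) N.X} {w : Matrix (Fin n) (Fin n) (N.X ⊗[S] R)} {e : N.X ⊗[S] R}
    (h : Gram lam t s w e) :
    (¬ Ram lam N.base → Nf lam t N.base (1 : Matrix (Fin n) (Fin n) R)) ∧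
      ∀ q : PrimeSpectrum R, (∀ r, lam r - r ∈ q.asIdeal) →
        PrimeSpectrum.comap (algebraMap S R) q = N.base →
        (Orth lam t n q → Nf lam t N.base (1 : Matrix (Fin n) (Fin n) R)) ∧
        (¬ Orth lam t n q → ∃ m, n = 2 * m ∧ Nf lam t N.base (Jm R m)) := by
  haveI := N.pt.isPrime
  obtain ⟨Q, hQp, hQ⟩ := Herm.exists_over (lamX lam N.X) (lamX_lamX lam N.X hlam)
    (isFixed_lamX lam N.X hfix) N.pt.asIdeal
  haveI := hQp
  refine ⟨fun hr => nf_one_of_two hlam hfix h2 hsq h hQ (Or.inl hr), fun q hq hbase => ⟨fun ho => ?_, fun ho => ?_⟩⟩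
  · exact nf_one_of_two hlam hfix h2 hsq h hQ
      (Or.inr ((orth_iff hlam hfix h2 (Fintype.card_fin n) hn h q hq hbase hQ).mp ho))
  · exact nf_J_of_two hlam hfix h2 hsq h hQ
      (ram_of_exists hlam hfix hq (congrArg PrimeSpectrum.asIdeal hbase))
      (not_not.mp fun hc => ho ((orth_iff hlam hfix h2 (Fintype.card_fin n) hn h q hq hbase hQ).mpr hc))

end Sign

end Groth.Agent.AzInvLib
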