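import Groth.Agent.AzInvLib.GramExists

/-!
# Normal forms of involutions near a point of the fixed ring
-/

set_option autoImplicit false

universe u v w w'

noncomputable section

open scoped TensorProduct
open Matrix

namespace Groth.Agent.AzInvLib

variable {S : Type u} {R : Type v} [CommRing S] [CommRing R] [Algebra S R] {lam : R ≃ₐ[S] R}

variable (lam) in
/-- `lam` is the identity modulo every prime over `p`. -/
def Ram (p : PrimeSpectrum S) : Prop :=
  ∀ Q : Ideal R, Q.IsPrime → Q.comap (algebraMap S R) = p.asIdeal → ∀ r, lam r - r ∈ Q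

section Primes

variable (hlam : ∀ r, lam (lam r) = r) (hfix : RInv.IsFixedRing S R lam.toRingEquiv)

include hlam hfix in
/-- A ramified prime is the only one over its image. -/
theorem eq_of_ramified {q Q : Ideal R} [q.IsPrime] [Q.IsPrime] (hq : ∀ r, lam r - r ∈ q)
    (h : Q.comap (algebraMap S R) = q.comap (algebraMap S R)) : Q = q := by
  have hN : ∀ a, ∃ c : S, algebraMap S R c = a * lam a := fun a =>
    Herm.exists_fixed lam hfix (by rw [map_mul, hlam, mul_comm])
  have hmem : ∀ (c : S), algebraMap S R c ∈ Q ↔ algebraMap S R c ∈ q := fun c => by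
    rw [← Ideal.mem_comap, h, Ideal.mem_comap]
  have hle : Q ≤ q := fun a ha => by
    obtain ⟨c, hc⟩ := hN a
    have : a * lam a ∈ q := by
      rw [← hc, ← hmem, hc]
      exact Ideal.mul_mem_right _ _ ha
    refine (Ideal.IsPrime.mem_or_mem ‹q.IsPrime› this).elim id fun h1 => ?_
    rw [← sub_sub_cancel (lam a) a]
    exact sub_mem h1 (hq a)
  refine le_antisymm hle fun a ha => ?_
  obtain ⟨c, hc⟩ := hN a
  have : a * lam a ∈ Q := by
    rw [← hc, hmem, hc]
    exact Ideal.mul_mem_right _ _ ha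
  refine (Ideal.IsPrime.mem_or_mem ‹Q.IsPrime› this).elim id fun h1 => ?_
  obtain ⟨s, hs⟩ := Herm.exists_fixed lam hfix (x := a + lam a) (by rw [map_add, hlam, add_comm])
  have h2 : a + lam a ∈ Q := by
    rw [← hs, hmem, hs]
    exact add_mem ha (hle h1)
  rw [← add_sub_cancel_right a (lam a)]
  exact sub_mem h2 h1

include hlam hfix in
theorem ram_of_exists {q : Ideal R} [q.IsPrime] (hq : ∀ r, lam r - r ∈ q) {p : PrimeSpectrum S}
    (hp : q.comap (algebraMap S R) = p.asIdeal) : Ram lam p := fun Q hQ hQp => by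
  haveI := hQ
  rw [eq_of_ramified hlam hfix hq (hQp.trans hp.symm)]
  exact hq

variable (N : Nbd S) {Q : Ideal (N.X ⊗[S] R)} [Q.IsPrime]
  (hQ : Q.comap (algebraMap N.X (N.X ⊗[S] R)) = N.pt.asIdeal)

include hQ in
omit [Q.IsPrime] in
theorem comap_includeRight :
    (Q.comap (Algebra.TensorProduct.includeRight : R →ₐ[S] N.X ⊗[S] R)).comap (algebraMap S R) =
      N.base.asIdeal := by
  show _ = N.pt.asIdeal.comap (algebraMap S N.X)
  rw [← hQ]
  ext s
  simp only [Ideal.mem_comap, Algebra.TensorProduct.includeRight_apply]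
  rw [show algebraMap N.X (N.X ⊗[S] R) (algebraMap S N.X s) = algebraMap S N.X s ⊗ₜ[S] (1 : R) from rfl]
  simp [Algebra.algebraMap_eq_smul_one, TensorProduct.smul_tmul]

include hQ in
theorem ram_lift (h : Ram lam N.base) (z : N.X ⊗[S] R) : lamX lam N.X z - z ∈ Q := by
  have h1 := h (Q.comap (Algebra.TensorProduct.includeRight : R →ₐ[S] N.X ⊗[S] R))
    inferInstance (comap_includeRight N hQ)
  induction z using TensorProduct.induction_on with
  | zero => simp
  | add a b ha hb => rw [map_add, add_sub_add_comm]; exact add_mem ha hb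
  | tmul x r =>
    have h2 : (1 : N.X) ⊗ₜ[S] (lam r - r) ∈ Q := h1 r
    rw [lamX_tmul, ← TensorProduct.tmul_sub, ← mul_one x, ← one_mul (lam r - r),
      ← Algebra.TensorProduct.tmul_mul_tmul]
    exact Ideal.mul_mem_left _ _ h2

include hlam hfix hQ in
theorem not_ram_lift (h : ¬ Ram lam N.base) : ∃ z, lamX lam N.X z - z ∉ Q := by
  by_contra! hall
  refine h (ram_of_exists hlam hfix
    (q := Q.comap (Algebra.TensorProduct.includeRight : R →ₐ[S] N.X ⊗[S] R)) (fun r => ?_)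
    (comap_includeRight N hQ))
  rw [Ideal.mem_comap, map_sub]
  exact hall ((1 : N.X) ⊗ₜ r)

end Primes

variable {A : Type w} [Ring A] [Algebra S A] [Algebra R A] [IsScalarTower S R A]
  {ι : Type*} [Fintype ι] [DecidableEq ι]

namespace Gram

variable {X : Type u} [CommRing X] [Algebra S X] {t : AzInv.LamInv R A lam} {s : Spl S R A ι X}
  {w : Matrix ι ι (X ⊗[S] R)} {e : X ⊗[S] R}

/-- A congruent matrix is a Gram matrix. -/
theorem congr (h : Gram lam t s w e) (hlam : ∀ r, lam (lam r) = r) {U W : Matrix ι ι (X ⊗[S] R)}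
    (hU : IsUnit U.det) (hW : AzInv.lamTr (lamX lam X) U * w * U = W) :
    ∃ s' : Spl S R A ι X, Gram lam t s' W e := by
  have hl := lamX_lamX lam X hlam
  set V := AzInv.lamTr (lamX lam X) U with hVdef
  have hV : IsUnit V := (Matrix.isUnit_iff_isUnit_det _).mpr (by
    rw [hVdef, det_lamTr]; exact hU.map _)
  obtain ⟨V', hV'⟩ := hV
  set Vi : Matrix ι ι (X ⊗[S] R) := ↑V'⁻¹ with hVi
  have hVVi : V * Vi = 1 := by rw [← hV', hVi, Units.mul_inv]
  have hViV : Vi * V = 1 := by rw [← hV', hVi, Units.inv_mul]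
  let g : Matrix ι ι (X ⊗[S] R) ≃ₐ[X ⊗[S] R] Matrix ι ι (X ⊗[S] R) :=
    AlgEquiv.ofRingEquiv (f :=
      { toFun := fun M => V * M * Vi
        invFun := fun M => Vi * M * V
        left_inv := fun M => by
          simp only [← mul_assoc, hViV, one_mul]; rw [mul_assoc, hViV, mul_one]
        right_inv := fun M => by
          simp only [← mul_assoc, hVVi, one_mul]; rw [mul_assoc, hVVi, mul_one]
        map_mul' := fun M M' => by
          simp only [mul_assoc]; rw [← mul_assoc Vi V, hViV, one_mul]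
        map_add' := fun M M' => by simp [mul_add, add_mul] }) fun c => by
      show V * algebraMap _ _ c * Vi = _
      rw [← Algebra.commutes, mul_assoc, hVVi, mul_one]
  have hlV : AzInv.lamTr (lamX lam X) V = U := lamTr_lamTr _ hl U
  refine ⟨s.post g, ⟨?_, ?_, h.norm, fun a => ?_⟩⟩
  · rw [← hW, Matrix.det_mul, Matrix.det_mul]
    exact (((Matrix.isUnit_iff_isUnit_det _).mp (hV' ▸ V'.isUnit)).mul h.unit).mul hU
  · rw [← hW, lamTr_mul, lamTr_mul, hlV, h.herm]
    simp only [smul_mul_assoc, mul_smul_comm, mul_assoc]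
    rfl
  · show V * s.φ (t a) * Vi * W = W * AzInv.lamTr (lamX lam X) (V * s.φ a * Vi)
    rw [lamTr_mul, lamTr_mul, ← hW, hlV]
    have h1 : U * AzInv.lamTr (lamX lam X) Vi = 1 := by
      rw [← hlV, ← lamTr_mul, hViV, lamTr_one]
    simp only [mul_assoc]
    rw [← mul_assoc Vi V, hViV, one_mul, ← mul_assoc (s.φ (t a)), h.conj, ← mul_assoc U _ (_ * _),
      h1, one_mul, mul_assoc]

/-- Reindexing. -/
theorem reindex (h : Gram lam t s w e) {κ : Type*} [Fintype κ] [DecidableEq κ] (ε : ι ≃ κ) :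
    Gram lam t (s.post (Matrix.reindexAlgEquiv (X ⊗[S] R) (X ⊗[S] R) ε))
      (w.submatrix ε.symm ε.symm) e where
  unit := by rw [Matrix.det_submatrix_equiv_self]; exact h.unit
  herm := by rw [lamTr_submatrix, h.herm]; rfl
  norm := h.norm
  conj a := by
    show (s.φ (t a)).submatrix ε.symm ε.symm * w.submatrix ε.symm ε.symm =
      w.submatrix ε.symm ε.symm * AzInv.lamTr (lamX lam X) ((s.φ a).submatrix ε.symm ε.symm)
    rw [lamTr_submatrix, Matrix.submatrix_mul_equiv, Matrix.submatrix_mul_equiv, h.conj]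

end Gram

/-- A matrix over `R` as a matrix over `X ⊗ R`. -/
abbrev incl {ι : Type*} (X : Type u) [CommRing X] [Algebra S X] (W₀ : Matrix ι ι R) :
    Matrix ι ι (X ⊗[S] R) :=
  W₀.map (Algebra.TensorProduct.includeRight : R →ₐ[S] X ⊗[S] R)

omit [Fintype ι] [DecidableEq ι] in
theorem map_pushR_incl {X Y : Type u} [CommRing X] [Algebra S X] [CommRing Y] [Algebra S Y]
    (g : X →ₐ[S] Y) (W₀ : Matrix ι ι R) : (incl X W₀).map (pushR g) = incl Y W₀ := by
  ext i j
  simp

/-- The normal form `W₀` is attained near `p`. -/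
def Nf (lam : R ≃ₐ[S] R) (t : AzInv.LamInv R A lam) (p : PrimeSpectrum S) (W₀ : Matrix ι ι R) : Prop :=
  ∃ (N : Nbd S) (s : Spl S R A ι N.X) (e : N.X ⊗[S] R),
    N.base = p ∧ Gram lam t s (incl N.X W₀) e

/-- Equal normal forms at every point give a local isomorphism. -/
theorem locIsoEt_of_nf {A' : Type w'} [Ring A'] [Algebra S A'] [Algebra R A'] [IsScalarTower S R A']
    (t : AzInv.LamInv R A lam) (t' : AzInv.LamInv R A' lam)
    (h : ∀ p : PrimeSpectrum S, ∃ (m : ℕ) (W₀ : Matrix (Fin m) (Fin m) R),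
      Nf lam t p W₀ ∧ Nf lam t' p W₀) : AzInv.LocIsoEt S lam t t' := by
  refine locIsoEt_of_local lam t t' fun p => ?_
  obtain ⟨m, W₀, ⟨N₁, s₁, e₁, hp₁, h₁⟩, ⟨N₂, s₂, e₂, hp₂, h₂⟩⟩ := h p
  obtain ⟨N, ⟨f₁⟩, ⟨f₂⟩⟩ := Nbd.exists_common N₁ N₂ (hp₁.trans hp₂.symm)
  refine ⟨N, f₁.base_eq.trans hp₁, ?_⟩
  have h₁' := h₁.push f₁.g
  have h₂' := h₂.push f₂.g
  rw [map_pushR_incl] at h₁' h₂'
  exact isoOver_of_gram h₁' h₂'

omit [IsScalarTower S R A] in
theorem H_map {n : ℕ} {X Y : Type u} [CommRing X] [Algebra S X] [CommRing Y] [Algebra S Y]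
    (g : X →ₐ[S] Y) (h : Matrix (Fin n) (Fin n) (X ⊗[S] R)) (x y : Fin n → X ⊗[S] R) :
    Herm.H (lamX lam Y) (h.map (pushR g)) (pushR g ∘ x) (pushR g ∘ y) =
      pushR g (Herm.H (lamX lam X) h x y) := by
  simp only [Herm.H_def, map_sum, map_mul, pushR_lamX, Matrix.map_apply, Function.comp_apply]

section Forms

variable {n : ℕ} {t : AzInv.LamInv R A lam} {N : Nbd S} {s : Spl S R A (Fin n) N.X}
  {w : Matrix (Fin n) (Fin n) (N.X ⊗[S] R)} {e : N.X ⊗[S] R}
  (hlam : ∀ r, lam (lam r) = r) (hfix : RInv.IsFixedRing S R lam.toRingEquiv)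

include hlam hfix in
/-- Hermitian Gram matrices become the identity. -/
theorem nf_one_of_herm (hsq : HasSqrt S) (h : Gram lam t s w 1)
    (hcase : Odd n ∨ (2 : N.X) ∉ N.pt.asIdeal) :
    Nf lam t N.base (1 : Matrix (Fin n) (Fin n) R) := by
  have hl := lamX_lamX lam N.X hlam
  haveI : Module.Flat S N.X := inferInstance
  have herm : AzInv.lamTr (lamX lam N.X) w = w := by rw [h.herm, one_smul]
  haveI := N.pt.isPrime
  obtain ⟨v, d, hd, hv⟩ := Herm.exists_orth (lamX lam N.X) w hl (isFixed_lamX lam N.X hfix) herm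
    (p := N.pt.asIdeal) h.unit (hcase.imp id fun h2 => ⟨1, 2, by
      rw [map_one, map_ofNat]; exact one_add_one_eq_two, h2⟩)
  obtain ⟨N', f, y, hy⟩ := Nbd.exists_sqrts hsq N d hd
  let V₀ : Matrix (Fin n) (Fin n) (N'.X ⊗[S] R) := Matrix.of fun a k => pushR f.g (v k a)
  let D : Matrix (Fin n) (Fin n) (N'.X ⊗[S] R) :=
    Matrix.diagonal fun i => algebraMap N'.X _ ↑(hy i).2.unit⁻¹
  have hD : AzInv.lamTr (lamX lam N'.X) D = D := by
    ext i j
    rcases eq_or_ne i j with rfl | hne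
    · simp [D]
    · simp [D, hne, hne.symm]
  have hV : AzInv.lamTr (lamX lam N'.X) V₀ * w.map (pushR f.g) * V₀ =
      Matrix.diagonal fun i => algebraMap N'.X _ (f.g (d i)) := by
    ext i j
    have e1 := Herm.gram_eq (lamX lam N'.X) (w.map (pushR f.g)) (fun k => pushR f.g ∘ v k) i j
    rw [H_map, hv] at e1
    refine e1.trans ?_
    rcases eq_or_ne i j with rfl | hne
    · simp [pushR_algebraMap]
    · simp [hne]
  have hU : AzInv.lamTr (lamX lam N'.X) (V₀ * D) * w.map (pushR f.g) * (V₀ * D) =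
      incl N'.X (1 : Matrix (Fin n) (Fin n) R) := by
    rw [lamTr_mul, hD]
    calc D * AzInv.lamTr (lamX lam N'.X) V₀ * w.map (pushR f.g) * (V₀ * D)
        = D * (AzInv.lamTr (lamX lam N'.X) V₀ * w.map (pushR f.g) * V₀) * D := by
          simp only [mul_assoc]
      _ = _ := by
          rw [hV]
          simp only [D, Matrix.diagonal_mul_diagonal, incl]
          rw [Matrix.map_one _ (map_zero _) (map_one _), ← Matrix.diagonal_one]
          congr 1
          funext i
          rw [← map_mul, ← map_mul]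
          have h1 : f.g (d i) = y i * y i := (hy i).1.symm
          have h2 : (↑(hy i).2.unit⁻¹ : N'.X) * y i = 1 := IsUnit.val_inv_mul _
          rw [show (↑(hy i).2.unit⁻¹ : N'.X) * f.g (d i) * ↑(hy i).2.unit⁻¹ =
            ((↑(hy i).2.unit⁻¹ : N'.X) * y i) * ((↑(hy i).2.unit⁻¹ : N'.X) * y i) by
              generalize (↑(hy i).2.unit⁻¹ : N'.X) = z; rw [h1]; ring, h2, one_mul, map_one]
  have hdet : IsUnit (V₀ * D).det := by
    have := congrArg Matrix.det hU
    rw [Matrix.det_mul, incl, Matrix.map_one _ (map_zero _) (map_one _), Matrix.det_one] at this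
    exact IsUnit.of_mul_eq_one_right _ this
  obtain ⟨s', hs'⟩ := (h.push f.g).congr hlam hdet hU
  exact ⟨N', s', _, f.base_eq, hs'⟩

include hlam hfix in
/-- Odd degree: the normal form is the identity. -/
theorem nf_one_of_odd (hsq : HasSqrt S) (hn : Odd n) (h : Gram lam t s w e) :
    Nf lam t N.base (1 : Matrix (Fin n) (Fin n) R) := by
  have hl := lamX_lamX lam N.X hlam
  obtain ⟨m, rfl⟩ := hn
  have hD : lamX lam N.X w.det = e ^ (2 * m + 1) * w.det := by
    rw [← det_lamTr, h.herm, Matrix.det_smul, Fintype.card_fin]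
  obtain ⟨D, hDu⟩ := h.unit
  refine nf_one_of_herm hlam hfix hsq (s := s)
    (h.smul hlam (c := ↑D⁻¹ * lamX lam N.X e ^ m) (e' := 1)
      (D⁻¹.isUnit.mul ((IsUnit.of_mul_eq_one _ h.norm).pow _)) ?_) (Or.inl ⟨m, rfl⟩)
  rw [mul_one, map_mul, map_pow, hl]
  have h1 : lamX lam N.X (↑D⁻¹ : N.X ⊗[S] R) * (e ^ (2 * m + 1) * ↑D) = 1 := by
    rw [hDu, ← hD, ← map_mul, ← hDu, Units.inv_mul, map_one]
  have hE : (lamX lam N.X e * e) ^ m = 1 := by rw [h.norm, one_pow]
  calc lamX lam N.X (↑D⁻¹ : N.X ⊗[S] R) * e ^ m * e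
      = lamX lam N.X (↑D⁻¹ : N.X ⊗[S] R) * e ^ m * e * (lamX lam N.X e * e) ^ m *
          ((D : N.X ⊗[S] R) * ↑D⁻¹) := by rw [hE, Units.mul_inv, mul_one, mul_one]
    _ = lamX lam N.X (↑D⁻¹ : N.X ⊗[S] R) * (e ^ (2 * m + 1) * ↑D) *
          (↑D⁻¹ * lamX lam N.X e ^ m) := by rw [mul_pow]; ring
    _ = _ := by rw [h1, one_mul]

variable (h2 : IsUnit (2 : S))

include h2 in
theorem two_notMem (Q : Ideal (N.X ⊗[S] R)) (hQ : Q ≠ ⊤) : (2 : N.X ⊗[S] R) ∉ Q := fun h =>
  hQ (Q.eq_top_of_isUnit_mem h (by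
    have := h2.map (algebraMap S (N.X ⊗[S] R))
    rwa [map_ofNat] at this))

include h2 in
theorem two_notMem_pt (N : Nbd S) : (2 : N.X) ∉ N.pt.asIdeal := fun h =>
  N.pt.isPrime.ne_top (N.pt.asIdeal.eq_top_of_isUnit_mem h (by
    have := h2.map (algebraMap S N.X)
    rwa [map_ofNat] at this))

include hlam hfix in
/-- Make a scalar a unit. -/
theorem exists_smul (h : Gram lam t s w e) {Q : Ideal (N.X ⊗[S] R)} [Q.IsPrime]
    (hQ : Q.comap (algebraMap N.X (N.X ⊗[S] R)) = N.pt.asIdeal) {c e' : N.X ⊗[S] R}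
    (hc : c ∉ Q) (hc' : lamX lam N.X c ∉ Q) (hce : lamX lam N.X c * e = c * e') :
    ∃ (N' : Nbd S) (f : Nbd.Hom N' N) (w' : Matrix (Fin n) (Fin n) (N'.X ⊗[S] R)),
      Gram lam t (s.push f.g) w' (pushR f.g e') := by
  have hl := lamX_lamX lam N.X hlam
  obtain ⟨M, hM⟩ := Herm.exists_fixed (lamX lam N.X) (isFixed_lamX lam N.X hfix)
    (x := c * lamX lam N.X c) (by rw [map_mul, hl, mul_comm])
  have hMp : M ∉ N.pt.asIdeal := fun hmem => by
    rw [← hQ, Ideal.mem_comap, hM] at hmem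
    exact (Ideal.IsPrime.mem_or_mem ‹Q.IsPrime› hmem).elim hc hc'
  obtain ⟨N', f, hu⟩ := N.exists_isUnit hMp
  have hcu : IsUnit (pushR f.g c) := by
    have h1 : IsUnit (pushR f.g (c * lamX lam N.X c)) := by
      rw [← hM, pushR_algebraMap]; exact hu.map _
    rw [map_mul] at h1
    exact isUnit_of_mul_isUnit_left h1
  exact ⟨N', f, _, (h.push f.g).smul hlam hcu (e' := pushR f.g e')
    (by rw [← pushR_lamX, ← map_mul, hce, map_mul])⟩

include hlam hfix h2 in
/-- Away from the skew case the normal form is the identity. -/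
theorem nf_one_of_two (hsq : HasSqrt S) (h : Gram lam t s w e) {Q : Ideal (N.X ⊗[S] R)} [Q.IsPrime]
    (hQ : Q.comap (algebraMap N.X (N.X ⊗[S] R)) = N.pt.asIdeal)
    (hcase : ¬ Ram lam N.base ∨ 1 + e ∉ Q) :
    Nf lam t N.base (1 : Matrix (Fin n) (Fin n) R) := by
  have hl := lamX_lamX lam N.X hlam
  have he : e ∉ Q := fun hmem => ‹Q.IsPrime›.ne_top
    (Q.eq_top_of_isUnit_mem hmem (IsUnit.of_mul_eq_one_right _ h.norm))
  obtain ⟨a, ha⟩ : ∃ a, a + lamX lam N.X a * e ∉ Q := by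
    by_contra! hall
    have h1 : 1 + e ∈ Q := by simpa using hall 1
    refine hcase.elim (fun hr => ?_) fun hc => hc h1
    obtain ⟨z, hz⟩ := not_ram_lift hlam hfix N hQ hr
    refine hz ?_
    rw [show lamX lam N.X z - z = lamX lam N.X z * (1 + e) - (z + lamX lam N.X z * e) by ring]
    exact sub_mem (Ideal.mul_mem_left _ _ h1) (hall z)
  have hce : lamX lam N.X (a + lamX lam N.X a * e) * e = a + lamX lam N.X a * e := by
    rw [map_add, map_mul, hl, add_mul, mul_assoc, h.norm, mul_one, add_comm]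
  obtain ⟨N', f, w', hw'⟩ := exists_smul hlam hfix h hQ (e' := 1) ha
    (fun hm => ha (by rw [← hce]; exact Ideal.mul_mem_right _ _ hm)) (by rw [mul_one, hce])
  rw [map_one] at hw'
  rw [← f.base_eq]
  exact nf_one_of_herm hlam hfix hsq hw' (Or.inr (two_notMem_pt h2 N'))

variable (R) in
/-- The standard skew matrix. -/
def Jm (m : ℕ) : Matrix (Fin m × Fin 2) (Fin m × Fin 2) R :=
  Matrix.of fun a b => if a.1 = b.1 then (![![(0 : R), -1], ![1, 0]] a.2 b.2) else 0

theorem Jm_mul_self (m : ℕ) : Jm R m * Jm R m = -1 := by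
  ext ⟨i, a⟩ ⟨j, b⟩
  rw [Matrix.mul_apply, Fintype.sum_prod_type, Finset.sum_eq_single i]
  · rcases eq_or_ne i j with rfl | hne
    · fin_cases a <;> fin_cases b <;> simp [Jm]
    · simp [Jm, hne]
  · intro k _ hk
    simp [Jm, hk.symm]
  · simp

variable (R) in
theorem isUnit_det_Jm (m : ℕ) : IsUnit (Jm R m).det := by
  rw [← Matrix.isUnit_iff_isUnit_det]
  refine ⟨⟨Jm R m, -Jm R m, ?_, ?_⟩, rfl⟩
  · rw [mul_neg, Jm_mul_self, neg_neg]
  · rw [neg_mul, Jm_mul_self, neg_neg]

omit [IsScalarTower S R A] in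
theorem H_map_hyp {X Y : Type u} [CommRing X] [Algebra S X] [CommRing Y] [Algebra S Y]
    (g : X →ₐ[S] Y) (h : Matrix (Fin n) (Fin n) (X ⊗[S] R)) {m : ℕ}
    {x y : Fin m → Fin n → X ⊗[S] R} (hxy : Herm.IsHyp (lamX lam X) h x y) :
    Herm.IsHyp (lamX lam Y) (h.map (pushR g)) (fun i => pushR g ∘ x i) (fun i => pushR g ∘ y i) := by
  intro i j
  obtain ⟨h1, h2, h3⟩ := hxy i j
  refine ⟨by rw [H_map, h1, map_zero], by rw [H_map, h2, map_zero], ?_⟩
  rw [H_map, h3]
  split <;> simp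

/-- Extend a hyperbolic family by an isotropic pair. -/
theorem exists_hyp_succ {X P : Type*} [CommRing X] [CommRing P] [Algebra X P] (μ : P ≃ₐ[X] P)
    (hl : ∀ z, μ (μ z) = z) {n k : ℕ} (h : Matrix (Fin n) (Fin n) P) (skew : AzInv.lamTr μ h = -h)
    {x y : Fin k → Fin n → P} (hxy : Herm.IsHyp μ h x y) {u v : Fin n → P}
    (hu1 : Herm.Perp μ h x u) (hu2 : Herm.Perp μ h y u) (hv1 : Herm.Perp μ h x v)
    (hv2 : Herm.Perp μ h y v) {s c t di half : X} (huv : Herm.H μ h u v = algebraMap X P s)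
    (hab : Herm.H μ h u u * Herm.H μ h v v = algebraMap X P c)
    (ht : c * (t * t) - 2 * (s * t) = 1) (hdi : di * (s - c * t) = 1) (hhalf : half * 2 = 1) :
    ∃ x' y' : Fin (k + 1) → Fin n → P, Herm.IsHyp μ h x' y' := by
  have hsw : ∀ z z', μ (Herm.H μ h z z') = -Herm.H μ h z' z := Herm.lam_H_skew μ h hl skew
  set a := Herm.H μ h u u with ha
  set b := Herm.H μ h v v with hb
  have hla : μ a = -a := hsw u u
  have hlb : μ b = -b := hsw v v
  have hvu : Herm.H μ h v u = -algebraMap X P s := by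
    rw [← neg_neg (Herm.H μ h v u), ← hsw, huv, AlgEquiv.commutes]
  have hT := congrArg (algebraMap X P) ht
  have hD := congrArg (algebraMap X P) hdi
  have hF := congrArg (algebraMap X P) hhalf
  simp only [map_sub, map_mul, map_ofNat, map_one] at hT hD hF
  let X₁ := u + (a * algebraMap X P t) • v
  let Z₁ := algebraMap X P di • v
  let β := algebraMap X P (di * di * half) * b
  let Y₁ := Z₁ + β • X₁
  have hX : Herm.H μ h X₁ X₁ = 0 := by
    simp only [X₁, Herm.H_add_left, Herm.H_add_right, Herm.H_smul_left, Herm.H_smul_right, ← ha, ← hb,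
      huv, hvu, map_mul, AlgEquiv.commutes, hla]
    linear_combination (-(a * (algebraMap X P t * algebraMap X P t))) * hab - a * hT
  have hXZ : Herm.H μ h X₁ Z₁ = 1 := by
    simp only [X₁, Z₁, Herm.H_add_left, Herm.H_smul_left, Herm.H_smul_right, ← hb, huv, map_mul,
      AlgEquiv.commutes, hla]
    linear_combination hD - algebraMap X P di * algebraMap X P t * hab
  have hZX : Herm.H μ h Z₁ X₁ = -1 := by
    have := hsw X₁ Z₁
    rw [hXZ, map_one] at this
    linear_combination this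
  have hY : Herm.H μ h Y₁ Y₁ = 0 := by
    simp only [Y₁, Herm.H_add_left, Herm.H_add_right, Herm.H_smul_left, Herm.H_smul_right, hX, hXZ,
      hZX]
    simp only [Z₁, β, Herm.H_smul_left, Herm.H_smul_right, ← hb, map_mul, AlgEquiv.commutes, hlb]
    linear_combination (-(algebraMap X P di * algebraMap X P di * b)) * hF
  have hXY : Herm.H μ h X₁ Y₁ = 1 := by
    rw [Herm.H_add_right μ h X₁ Z₁, Herm.H_smul_right μ h β X₁, hX, hXZ, mul_zero, add_zero]
  have hzero : ∀ {z : Fin k → Fin n → P}, Herm.Perp μ h z u → Herm.Perp μ h z v → ∀ i,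
      Herm.H μ h (z i) X₁ = 0 ∧ Herm.H μ h (z i) Y₁ = 0 ∧ Herm.H μ h X₁ (z i) = 0 ∧
        Herm.H μ h Y₁ (z i) = 0 := by
    intro z hzu hzv i
    have e1 : Herm.H μ h (z i) X₁ = 0 := by
      rw [Herm.H_add_right, Herm.H_smul_right, hzu i, hzv i, mul_zero, add_zero]
    have e2 : Herm.H μ h (z i) Y₁ = 0 := by
      rw [Herm.H_add_right, Herm.H_smul_right, Herm.H_smul_right, e1, hzv i, mul_zero, mul_zero,
        add_zero]
    have e3 : ∀ Z, Herm.H μ h (z i) Z = 0 → Herm.H μ h Z (z i) = 0 := fun Z hZ => by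
      have := hsw (z i) Z
      rwa [hZ, map_zero, eq_comm, neg_eq_zero] at this
    exact ⟨e1, e2, e3 _ e1, e3 _ e2⟩
  refine ⟨Fin.snoc x X₁, Fin.snoc y Y₁, fun i j => ?_⟩
  induction i using Fin.lastCases with
  | last =>
    induction j using Fin.lastCases with
    | last => simp [hX, hY, hXY]
    | cast j =>
      obtain ⟨-, -, a3, -⟩ := hzero hu1 hv1 j
      obtain ⟨-, -, b3, b4⟩ := hzero hu2 hv2 j
      simp [a3, b3, b4, (Fin.castSucc_lt_last j).ne']
  | cast i =>
    induction j using Fin.lastCases with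
    | last =>
      obtain ⟨a1, a2, -, -⟩ := hzero hu1 hv1 i
      obtain ⟨-, b2, -, -⟩ := hzero hu2 hv2 i
      simp [a1, a2, b2, (Fin.castSucc_lt_last i).ne]
    | cast j => simpa using hxy i j

include hlam hfix h2 in
/-- Hyperbolic families near a ramified point. -/
theorem exists_hyp (hsq : HasSqrt S) (hw : IsUnit w.det)
    (skew : AzInv.lamTr (lamX lam N.X) w = -w) (hram : Ram lam N.base) :
    ∀ k : ℕ, 2 * k ≤ n → ∃ (N' : Nbd S) (f : Nbd.Hom N' N)
      (x y : Fin k → Fin n → N'.X ⊗[S] R), Herm.IsHyp (lamX lam N'.X) (w.map (pushR f.g)) x y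
  | 0, _ => ⟨N, Nbd.Hom.id N, Fin.elim0, Fin.elim0, fun i => i.elim0⟩
  | k + 1, hk => by
    obtain ⟨N₁, f₁, x, y, hxy⟩ := exists_hyp hsq hw skew hram k (by omega)
    set h := w.map (pushR f₁.g) with hh
    have hl := lamX_lamX lam N₁.X hlam
    have hskew : AzInv.lamTr (lamX lam N₁.X) h = -h := by
      rw [hh, ← pushR_lamTr, skew]
      ext i j; simp
    have hu : IsUnit h.det := by
      rw [hh, ← AlgHom.coe_toRingHom, ← RingHom.mapMatrix_apply, ← RingHom.map_det]
      exact hw.map _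
    haveI := N₁.pt.isPrime
    have hfix₁ := isFixed_lamX lam N₁.X hfix
    obtain ⟨Q, hQp, hQ⟩ := Herm.exists_over (lamX lam N₁.X) hl hfix₁ N₁.pt.asIdeal
    haveI := hQp
    obtain ⟨u, v, s, hu1, hu2, hv1, hv2, hs, huv, huu, hvv⟩ := Herm.exists_plane (lamX lam N₁.X) h hl
      hfix₁ hskew hQ hu (ram_lift N₁ hQ (f₁.base_eq.symm ▸ hram)) (two_notMem h2 Q hQp.ne_top) hxy
      (by omega)
    set a := Herm.H (lamX lam N₁.X) h u u with ha
    set b := Herm.H (lamX lam N₁.X) h v v with hb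
    have hla : lamX lam N₁.X a = -a := Herm.lam_H_skew _ h hl hskew u u
    have hlb : lamX lam N₁.X b = -b := Herm.lam_H_skew _ h hl hskew v v
    obtain ⟨c, hc⟩ := Herm.exists_fixed (lamX lam N₁.X) hfix₁ (x := a * b)
      (by rw [map_mul, hla, hlb, neg_mul_neg])
    have hcp : c ∈ N₁.pt.asIdeal := by
      rw [← hQ, Ideal.mem_comap, hc]; exact Ideal.mul_mem_right _ _ huu
    obtain ⟨N₂, f₂, σ, hσ, -⟩ := Nbd.exists_sqrt hsq N₁ (x := s * s + c) fun hmem =>
      hs ((N₁.pt.isPrime.mem_or_mem (by simpa using sub_mem hmem hcp)).elim id id)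
    obtain ⟨σ', hσ', hsσ⟩ : ∃ σ', σ' * σ' = f₂.g (s * s + c) ∧ f₂.g s + σ' ∉ N₂.pt.asIdeal := by
      by_cases hmem : f₂.g s + σ ∈ N₂.pt.asIdeal
      · refine ⟨-σ, by rw [neg_mul_neg, hσ], fun hmem' => f₂.notMem hs ?_⟩
        refine (N₂.pt.isPrime.mem_or_mem (x := 2) ?_).resolve_left (two_notMem_pt h2 N₂)
        rw [show (2 : N₂.X) * f₂.g s = f₂.g s + σ + (f₂.g s + -σ) by ring]
        exact add_mem hmem hmem'
      · exact ⟨σ, hσ, hmem⟩
    obtain ⟨N₃, f₃, hunit⟩ := N₂.exists_isUnit hsσ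
    obtain ⟨ti, hti⟩ := hunit.exists_left_inv
    set s₃ := f₃.g (f₂.g s) with hs₃
    set c₃ := f₃.g (f₂.g c) with hc₃
    let t₃ : N₃.X := -ti
    have ht : c₃ * (t₃ * t₃) - 2 * (s₃ * t₃) = 1 := by
      have e1 : f₃.g σ' * f₃.g σ' = s₃ * s₃ + c₃ := by
        rw [← map_mul, hσ', hs₃, hc₃, map_add, map_mul, map_add, map_mul]
      have e2 : ti * (s₃ + f₃.g σ') = 1 := by rw [hs₃, ← map_add, hti]
      simp only [t₃]
      linear_combination (-(ti * ti)) * e1 + (ti * (f₃.g σ' - s₃) + 1) * e2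
    have hd : s₃ - c₃ * t₃ ∉ N₃.pt.asIdeal := fun hmem => by
      have hc3 : c₃ ∈ N₃.pt.asIdeal := by
        have h1 : f₂.g c ∈ N₂.pt.asIdeal := by
          have : c ∈ (PrimeSpectrum.comap f₂.g.toRingHom N₂.pt).asIdeal := f₂.map_pt.symm ▸ hcp
          exact this
        have : f₂.g c ∈ (PrimeSpectrum.comap f₃.g.toRingHom N₃.pt).asIdeal := f₃.map_pt.symm ▸ h1
        exact this
      exact f₃.notMem (f₂.notMem hs) (by simpa using add_mem hmem (Ideal.mul_mem_right t₃ _ hc3))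
    obtain ⟨N₄, f₄, hunit'⟩ := N₃.exists_isUnit hd
    let F : Nbd.Hom N₄ N₁ := (f₄.comp f₃).comp f₂
    let g := pushR (R := R) F.g
    obtain ⟨di, hdi⟩ := hunit'.exists_left_inv
    obtain ⟨half, hhalf⟩ := (h2.map (algebraMap S N₄.X)).exists_left_inv
    rw [map_ofNat] at hhalf
    have hcomp : w.map (pushR (F.comp f₁).g) = h.map g := by
      rw [hh, Matrix.map_map]
      congr 1
      funext z
      induction z using TensorProduct.induction_on with
      | zero => simp
      | tmul => rfl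
      | add a b ha hb => simp only [map_add, ha, hb, Function.comp_apply]
    have hskew₄ : AzInv.lamTr (lamX lam N₄.X) (h.map g) = -(h.map g) := by
      rw [← pushR_lamTr, hskew]
      ext i j; simp [g]
    obtain ⟨X₁, Y₁, hXY⟩ := exists_hyp_succ (lamX lam N₄.X) (lamX_lamX lam N₄.X hlam) (h.map g) hskew₄
      (H_map_hyp (lam := lam) F.g h hxy) (u := g ∘ u) (v := g ∘ v)
      (fun i => by rw [H_map, hu1 i, map_zero]) (fun i => by rw [H_map, hu2 i, map_zero])
      (fun i => by rw [H_map, hv1 i, map_zero]) (fun i => by rw [H_map, hv2 i, map_zero])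
      (s := f₄.g s₃) (c := f₄.g c₃) (t := f₄.g t₃) (di := di) (half := half)
      (by rw [H_map, huv, pushR_algebraMap]; rfl)
      (by rw [H_map, H_map, ← map_mul, ← ha, ← hb, ← hc, pushR_algebraMap]; rfl)
      (by rw [← map_ofNat f₄.g 2]; simp only [← map_mul, ← map_sub]; rw [ht, map_one])
      (by simp only [← map_mul, ← map_sub]; exact hdi) hhalf
    exact ⟨N₄, F.comp f₁, _, _, hcomp ▸ hXY⟩

include hlam hfix h2 in
/-- At a ramified point in the skew case: even degree and the standard skew normal form. -/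
theorem nf_J_of_two (hsq : HasSqrt S) (h : Gram lam t s w e) {Q : Ideal (N.X ⊗[S] R)} [Q.IsPrime]
    (hQ : Q.comap (algebraMap N.X (N.X ⊗[S] R)) = N.pt.asIdeal)
    (hram : Ram lam N.base) (he : 1 + e ∈ Q) :
    ∃ m, n = 2 * m ∧ Nf lam t N.base (Jm R m) := by
  have hl := lamX_lamX lam N.X hlam
  have h2Q := two_notMem (R := R) (N := N) h2 Q ‹Q.IsPrime›.ne_top
  have hc : (1 : N.X ⊗[S] R) - e ∉ Q := fun hmem => h2Q (by
    rw [show (2 : N.X ⊗[S] R) = 1 - e + (1 + e) by ring]; exact add_mem hmem he)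
  have hce : lamX lam N.X (1 - e) * e = (1 - e) * -1 := by
    rw [map_sub, map_one, sub_mul, one_mul, h.norm]; ring
  obtain ⟨N', f, w', hw'⟩ := exists_smul hlam hfix h hQ (e' := -1) hc
    (fun hm => hc (by
      have : (1 - e) * -1 ∈ Q := hce ▸ Ideal.mul_mem_right _ _ hm
      simpa using neg_mem this)) hce
  rw [map_neg, map_one] at hw'
  have hbase := f.base_eq
  have hl' := lamX_lamX lam N'.X hlam
  haveI := N'.pt.isPrime
  obtain ⟨Q', hQp', hQ'⟩ := Herm.exists_over (lamX lam N'.X) hl' (isFixed_lamX lam N'.X hfix) N'.pt.asIdeal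
  haveI := hQp'
  have hn : Even n := by
    by_contra hodd
    rw [Nat.not_even_iff_odd] at hodd
    have hD : lamX lam N'.X w'.det = -w'.det := by
      rw [← det_lamTr, hw'.herm, Matrix.det_smul, Fintype.card_fin, hodd.neg_one_pow, neg_one_mul]
    have h1 := ram_lift N' hQ' (hbase.symm ▸ hram) w'.det
    rw [hD, show -w'.det - w'.det = -(2 * w'.det) by ring, neg_mem_iff] at h1
    exact (hQp'.mem_or_mem h1).elim (two_notMem h2 Q' hQp'.ne_top)
      fun hm => hQp'.ne_top (Q'.eq_top_of_isUnit_mem hm hw'.unit)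
  obtain ⟨m, hm⟩ := hn
  refine ⟨m, by omega, ?_⟩
  obtain ⟨N'', f', x, y, hxy⟩ := exists_hyp hlam hfix h2 hsq hw'.unit
    (by rw [hw'.herm]; ext i j; simp) (hbase.symm ▸ hram) m (by omega)
  have hl'' := lamX_lamX lam N''.X hlam
  have hskew : AzInv.lamTr (lamX lam N''.X) (w'.map (pushR f'.g)) = -(w'.map (pushR f'.g)) := by
    rw [← pushR_lamTr, hw'.herm]; ext i j; simp
  let ε : Fin m × Fin 2 ≃ Fin n := finProdFinEquiv.trans (finCongr (by omega))
  let vec : Fin m × Fin 2 → Fin n → N''.X ⊗[S] R := fun c => if c.2 = 0 then y c.1 else x c.1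
  let U : Matrix (Fin n) (Fin n) (N''.X ⊗[S] R) := Matrix.of fun a k => vec (ε.symm k) a
  have hU : AzInv.lamTr (lamX lam N''.X) U * w'.map (pushR f'.g) * U =
      (incl N''.X (Jm R m)).submatrix ε.symm ε.symm := by
    ext k l
    refine (Herm.gram_eq (lamX lam N''.X) (w'.map (pushR f'.g)) (fun k => vec (ε.symm k)) k l).trans ?_
    simp only [Matrix.submatrix_apply, vec]
    obtain ⟨i, a⟩ := ε.symm k
    obtain ⟨j, b⟩ := ε.symm l
    have hyx : Herm.H (lamX lam N''.X) (w'.map (pushR f'.g)) (y i) (x j) = if i = j then -1 else 0 := by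
      have := Herm.lam_H_skew (lamX lam N''.X) (w'.map (pushR f'.g)) hl'' hskew (x j) (y i)
      rw [(hxy j i).2.2] at this
      rcases eq_or_ne i j with rfl | hne
      · simp only [if_pos, map_one] at this ⊢
        linear_combination this
      · rw [if_neg hne.symm, map_zero] at this
        rw [if_neg hne]
        linear_combination this
    fin_cases a <;> fin_cases b
    · simpa [Jm] using (hxy i j).2.1
    · simp only [Fin.zero_eta, if_pos, Fin.mk_one, one_ne_zero, if_false, hyx]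
      rcases eq_or_ne i j with rfl | hne <;> simp [Jm, *, Algebra.TensorProduct.one_def, TensorProduct.tmul_neg]
    · simp only [Fin.zero_eta, if_pos, Fin.mk_one, one_ne_zero, if_false, (hxy i j).2.2]
      rcases eq_or_ne i j with rfl | hne <;> simp [Jm, *, Algebra.TensorProduct.one_def]
    · simpa [Jm] using (hxy i j).1
  have hdet : IsUnit U.det := by
    have h1 : IsUnit ((incl (S := S) N''.X (Jm R m)).submatrix ε.symm ε.symm).det := by
      rw [Matrix.det_submatrix_equiv_self, incl]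
      rw [← AlgHom.mapMatrix_apply, ← AlgHom.map_det]
      exact (isUnit_det_Jm R m).map _
    rw [← hU, Matrix.det_mul] at h1
    exact isUnit_of_mul_isUnit_right h1
  obtain ⟨s', hs'⟩ := (hw'.push f'.g).congr hlam hdet hU
  have h3 := hs'.reindex ε.symm
  simp only [Equiv.symm_symm, Matrix.submatrix_submatrix, Equiv.symm_comp_self, Matrix.submatrix_id_id] at h3
  exact ⟨N'', _, _, f'.base_eq.trans hbase, h3⟩

end Forms

end Groth.Agent.AzInvLib
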