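import Groth.Prelude.Def_W4c2azumayainvolQEt
import Groth.Prelude.Def_AzInv
import Mathlib.RingTheory.Flat.LocallyFree
import Mathlib.RingTheory.Flat.Rank
import Mathlib.RingTheory.Flat.FaithfullyFlat.Algebra
import Mathlib.RingTheory.Unramified.Finite
import Mathlib.RingTheory.Smooth.Fiber
import Mathlib.RingTheory.Finiteness.ModuleFinitePresentation
import Mathlib.RingTheory.Kaehler.Basic
import Mathlib.RingTheory.Ideal.IdempotentFG

/-!
# Quadratic étale algebras with an involution

The fixed ring splitting `R ⊗_S R ≅ R × R` and the comparison of algebras with involution over a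
quadratic étale extension: a `lam`-involution is the exchange involution after base change to `R`.
-/

set_option autoImplicit false

universe u v w w' x

noncomputable section

open scoped TensorProduct

namespace Groth.Agent.AzInvLib

variable {S : Type u} {R : Type v} [CommRing S] [CommRing R] [Algebra S R] {lam : R ≃+* R}

theorem lam_algebraMap (hS : RInv.IsFixedRing S R lam) (s : S) :
    lam (algebraMap S R s) = algebraMap S R s :=
  (hS.2 _).mpr ⟨s, rfl⟩

/-- The ideal of the elements `r - lam r`. -/
def diffIdeal (lam : R ≃+* R) : Ideal R := Ideal.span (Set.range fun r => r - lam r)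

theorem diff_mem (r : R) : r - lam r ∈ diffIdeal lam := Ideal.subset_span ⟨r, rfl⟩

theorem map_mem_diffIdeal (hlam : Function.Involutive lam) {x : R} (hx : x ∈ diffIdeal lam) :
    lam x ∈ diffIdeal lam := by
  induction hx using Submodule.span_induction with
  | mem z hz =>
    obtain ⟨r, rfl⟩ := hz
    rw [map_sub, hlam r, ← neg_sub]
    exact neg_mem (diff_mem r)
  | zero => simp
  | add a b _ _ ha hb => rw [map_add]; exact add_mem ha hb
  | smul a x _ hx => rw [smul_eq_mul, map_mul]; exact Ideal.mul_mem_left _ _ hx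

theorem rankAtStalk_eq_two (hq : RInv.IsQuadEtale S R) (p : PrimeSpectrum S) :
    Module.rankAtStalk (R := S) R p = 2 := hq.2.2.2 p

/-- In the quadratic étale case the elements `r - lam r` generate the unit ideal. -/
theorem diffIdeal_eq_top (hlam : Function.Involutive lam) (hS : RInv.IsFixedRing S R lam)
    (hq : RInv.IsQuadEtale S R) : diffIdeal lam = ⊤ := by
  classical
  obtain ⟨hfin, hproj, hunr, hrk⟩ := hq
  set I := diffIdeal lam with hI
  have hlamI : ∀ r : R, r - lam r ∈ I := diff_mem
  let d : R →ₗ[S] I.Cotangent :=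
    { toFun := fun r => I.toCotangent ⟨r - lam r, hlamI r⟩
      map_add' := fun a b => by
        rw [← map_add]
        exact congrArg _ (Subtype.ext (by simp only [Submodule.coe_add, map_add]; ring))
      map_smul' := fun s a => by
        rw [RingHom.id_apply, ← LinearMap.map_smul_of_tower]
        exact congrArg _ (Subtype.ext (by
          simp only [Algebra.smul_def, map_mul, lam_algebraMap hS, Submodule.coe_smul_of_tower]
          ring)) }
  let D : Derivation S R I.Cotangent := Derivation.mk' d fun a b => by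
    show I.toCotangent _ = a • I.toCotangent _ + b • I.toCotangent _
    rw [← map_smul, ← map_smul, ← map_add, Ideal.toCotangent_eq, pow_two]
    have : a * b - lam (a * b) - (a * (b - lam b) + b * (a - lam a)) =
        -((a - lam a) * (b - lam b)) := by rw [map_mul]; ring
    simp only [Submodule.coe_add, SetLike.val_smul, smul_eq_mul, this]
    exact neg_mem (Ideal.mul_mem_mul (hlamI a) (hlamI b))
  have hD : ∀ r, D r = 0 := fun r => by
    rw [← D.liftKaehlerDifferential_comp_D r, Subsingleton.elim (KaehlerDifferential.D S R r) 0,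
      map_zero]
  have hsq : IsIdempotentElem I := by
    refine le_antisymm Ideal.mul_le_right (Ideal.span_le.mpr ?_)
    rintro _ ⟨r, rfl⟩
    have := hD r
    change I.toCotangent _ = 0 at this
    rw [Ideal.toCotangent_eq_zero, pow_two] at this
    exact this
  have hfg : I.FG := by
    obtain ⟨G, hG⟩ := hfin.fg_top
    refine ⟨G.image fun r => r - lam r, le_antisymm ?_ (Ideal.span_le.mpr ?_)⟩
    · refine Submodule.span_le.mpr fun z hz => ?_
      obtain ⟨r, -, rfl⟩ := Finset.mem_image.mp hz
      exact hlamI r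
    · rintro _ ⟨r, rfl⟩
      have hr : r ∈ Submodule.span S (G : Set R) := hG ▸ trivial
      induction hr using Submodule.span_induction with
      | mem z hz => exact Submodule.subset_span (Finset.mem_image_of_mem _ hz)
      | zero => simp
      | add a b _ _ ha hb =>
        simp only [SetLike.mem_coe] at ha hb ⊢
        rw [map_add, add_sub_add_comm]
        exact add_mem ha hb
      | smul s a _ ha =>
        simp only [SetLike.mem_coe] at ha ⊢
        rw [Algebra.smul_def, map_mul, lam_algebraMap hS, ← mul_sub]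
        exact Ideal.mul_mem_left _ _ ha
  obtain ⟨e, he, hIe⟩ := (Ideal.isIdempotentElem_iff_of_fg I hfg).mp hsq
  change I = Ideal.span {e} at hIe
  have hmem : ∀ x ∈ I, e * x = x := fun x hx => by
    obtain ⟨c, rfl⟩ := Ideal.mem_span_singleton'.mp (hIe ▸ hx)
    rw [← mul_assoc, mul_comm e c, mul_assoc, he]
  have heI : e ∈ I := hIe ▸ Ideal.mem_span_singleton_self e
  have hlame : lam e = e := by
    have h2 : lam (e * lam e) = lam (lam e) := by rw [hmem _ (map_mem_diffIdeal hlam heI)]
    rw [map_mul, hlam e, mul_comm, hmem _ (map_mem_diffIdeal hlam heI)] at h2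
    exact h2
  obtain ⟨f, hf⟩ := (hS.2 (1 - e)).mp (by rw [map_sub, map_one, hlame])
  have hfix : ∀ r : R, (1 - e) * r ∈ Set.range (algebraMap S R) := fun r => by
    refine (hS.2 _).mp ?_
    rw [map_mul, map_sub, map_one, hlame, eq_comm, ← sub_eq_zero, ← mul_sub, sub_mul, one_mul,
      hmem _ (hlamI r), sub_self]
  by_contra htop
  have he1 : 1 - e ≠ 0 := fun h => htop (by
    rw [hIe, (sub_eq_zero.mp h).symm, Ideal.span_singleton_one])
  have hfnil : ¬ IsNilpotent f := fun ⟨n, hn⟩ => he1 (by
    have h := congrArg (algebraMap S R) hn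
    rw [map_pow, hf, map_zero] at h
    rcases n with - | n
    · rw [pow_zero] at h
      exact (mul_one (1 - e)).symm.trans (by rw [h, mul_zero])
    · rwa [he.one_sub.pow_succ_eq] at h)
  rw [← mem_nilradical, nilradical_eq_sInf, Ideal.mem_sInf] at hfnil
  push Not at hfnil
  obtain ⟨P, hP, hfP⟩ := hfnil
  haveI : P.IsPrime := hP
  let Sf := Localization.Away f
  let R' := Sf ⊗[S] R
  have hfu : IsUnit (algebraMap S Sf f) := IsLocalization.Away.algebraMap_isUnit f
  have hsurj : Function.Surjective (algebraMap Sf R') := fun z => by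
    induction z using TensorProduct.induction_on with
    | zero => exact ⟨0, map_zero _⟩
    | tmul s r =>
      obtain ⟨c, hc⟩ := hfix r
      refine ⟨s * hfu.unit⁻¹ * algebraMap S Sf c, ?_⟩
      have h1 : f • r = c • (1 : R) := by
        rw [Algebra.smul_def, Algebra.smul_def, hf, mul_one, hc]
      calc algebraMap Sf R' (s * hfu.unit⁻¹ * algebraMap S Sf c)
          = (s * ↑hfu.unit⁻¹ * algebraMap S Sf c) ⊗ₜ[S] (1 : R) := by
            rfl
        _ = (s * ↑hfu.unit⁻¹) ⊗ₜ[S] (f • r) := by
            rw [h1, ← TensorProduct.smul_tmul, Algebra.smul_def, mul_comm (algebraMap S Sf c)]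
        _ = s ⊗ₜ[S] r := by
            rw [← TensorProduct.smul_tmul, Algebra.smul_def, mul_comm (algebraMap S Sf f), mul_assoc,
              IsUnit.val_inv_mul, mul_one]
    | add a b ha hb =>
      obtain ⟨a', rfl⟩ := ha
      obtain ⟨b', rfl⟩ := hb
      exact ⟨a' + b', map_add _ _ _⟩
  obtain ⟨q, hq'⟩ : ∃ q : PrimeSpectrum Sf, q.asIdeal.comap (algebraMap S Sf) = P :=
    ⟨⟨P.map (algebraMap S Sf), IsLocalization.isPrime_of_isPrime_disjoint (Submonoid.powers f) Sf P
      hP ((Ideal.disjoint_powers_iff_notMem f hP.isRadical).mpr hfP)⟩,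
      IsLocalization.under_map_of_isPrime_disjoint (Submonoid.powers f) Sf hP
        ((Ideal.disjoint_powers_iff_notMem f hP.isRadical).mpr hfP)⟩
  haveI : Module.Finite Sf R' := inferInstance
  have hle := Module.rankAtStalk_le_one_iff_surjective (R := Sf) (S := R') |>.mpr hsurj q
  have h2 : Module.rankAtStalk (R := Sf) R' q = 2 := by
    rw [Module.rankAtStalk_baseChange, hrk]
  rw [h2] at hle
  omega

/-- `r ⊗ r' ↦ (r r', r lam r')`. -/
def splitMap (hS : RInv.IsFixedRing S R lam) : R ⊗[S] R →ₐ[R] R × R :=
  Algebra.TensorProduct.lift (Algebra.ofId R (R × R))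
    ((AlgHom.id S R).prod
      { toRingHom := lam.toRingHom, commutes' := lam_algebraMap hS })
    fun _ _ => Commute.all _ _

@[simp] theorem splitMap_tmul (hS : RInv.IsFixedRing S R lam) (a r : R) :
    splitMap hS (a ⊗ₜ r) = (a * r, a * lam r) := by
  simp [splitMap]

theorem splitMap_bijective (hlam : Function.Involutive lam) (hS : RInv.IsFixedRing S R lam)
    (hq : RInv.IsQuadEtale S R) : Function.Bijective (splitMap hS) := by
  classical
  have hsurj : Function.Surjective (splitMap hS) := by
    have h1 : (1 : R) ∈ diffIdeal lam := by rw [diffIdeal_eq_top hlam hS hq]; trivial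
    obtain ⟨c, hc⟩ := Finsupp.mem_span_range_iff_exists_finsupp.mp h1
    let z : R ⊗[S] R := c.sum fun r a => a ⊗ₜ[S] r - (a * lam r) ⊗ₜ[S] 1
    have hz : splitMap hS z = (1, 0) := by
      simp only [z, Finsupp.sum, map_sum, map_sub, splitMap_tmul, mul_one, map_one]
      ext
      · rw [Prod.fst_sum, ← hc]
        exact Finset.sum_congr rfl fun r _ => by simp only [Prod.fst_sub, smul_eq_mul]; ring
      · rw [Prod.snd_sum]
        exact Finset.sum_eq_zero fun r _ => by rw [Prod.snd_sub, sub_self]
    rintro ⟨a, b⟩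
    refine ⟨a • z + b • (1 - z), ?_⟩
    rw [map_add, map_smul, map_smul, map_sub, map_one, hz]
    ext <;> simp
  haveI := hq.1
  haveI := hq.2.1
  refine Module.bijective_of_surjective_of_rankAtStalk_eq (φ := (splitMap hS).toLinearMap) hsurj
    (fun m _ => ?_)
  haveI : Nontrivial R := (⟨m, inferInstance⟩ : PrimeSpectrum R).nontrivial
  rw [Module.rankAtStalk_baseChange, hq.2.2.2, Module.rankAtStalk_prod, Pi.add_apply,
    Module.rankAtStalk_self]
  rfl

theorem etale (hq : RInv.IsQuadEtale S R) : Algebra.Etale S R := by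
  obtain ⟨h1, h2, h3, -⟩ := hq
  haveI : Module.FinitePresentation S R := Module.finitePresentation_of_projective S R
  haveI : Algebra.FinitePresentation S R := inferInstance
  exact Algebra.Etale.of_formallyUnramified_of_flat

theorem faithfullyFlat (hq : RInv.IsQuadEtale S R) : Module.FaithfullyFlat S R := by
  haveI := hq.1
  haveI := hq.2.1
  refine Module.FaithfullyFlat.of_comap_surjective
    (PrimeSpectrum.rankAtStalk_pos_iff_comap_surjective.mp fun p => ?_)
  rw [hq.2.2.2 p]
  omega

section Compare

variable (lam' : R ≃ₐ[S] R)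

variable {A : Type w} [Ring A] [Algebra S A] [Algebra R A] [IsScalarTower S R A]
variable {A' : Type w'} [Ring A'] [Algebra S A'] [Algebra R A'] [IsScalarTower S R A']
variable (T : Type x) [CommRing T] [Algebra S T] [Algebra R T] [IsScalarTower S R T]

/-- The projection to the tensor product over `R`. -/
def toR (R : Type v) [CommRing R] [Algebra S R] [Algebra R A] [IsScalarTower S R A] (T : Type x) [CommRing T]
    [Algebra S T] [Algebra R T] [IsScalarTower S R T] : T ⊗[S] A →ₐ[T] T ⊗[R] A := Algebra.TensorProduct.mapOfCompatibleSMul R S T T A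

@[simp] theorem toR_tmul (a : A) (s : T) : toR R T (s ⊗ₜ[S] a) = s ⊗ₜ[R] a :=
  Algebra.TensorProduct.mapOfCompatibleSMul_tmul ..

/-- Extension of scalars to `T`. -/
def ρ : R ⊗[S] R →ₐ[S] T ⊗[S] A :=
  Algebra.TensorProduct.map (IsScalarTower.toAlgHom S R T) (IsScalarTower.toAlgHom S R A)

theorem ρ_tmul (r r' : R) :
    ρ T (r ⊗ₜ r') = (algebraMap R T r) ⊗ₜ[S] (algebraMap R A r') := rfl

theorem commute_ρ (z : R ⊗[S] R) (y : T ⊗[S] A) : Commute (ρ T z) y := by
  induction z using TensorProduct.induction_on with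
  | zero => simp
  | add a b ha hb => rw [map_add]; exact ha.add_left hb
  | tmul r r' =>
    induction y using TensorProduct.induction_on with
    | zero => simp
    | add a b ha hb => exact ha.add_right hb
    | tmul s a =>
      rw [ρ_tmul, Commute, SemiconjBy, Algebra.TensorProduct.tmul_mul_tmul,
        Algebra.TensorProduct.tmul_mul_tmul, mul_comm, Algebra.commutes]

theorem toR_ρ (z : R ⊗[S] R) :
    toR R T (ρ (A := A) T z) = algebraMap R (T ⊗[R] A) (TensorProduct.lift (LinearMap.mul S R) z) := by
  induction z using TensorProduct.induction_on with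
  | zero => simp
  | add a b ha hb => simp only [map_add, ha, hb]
  | tmul r r' =>
    rw [ρ_tmul, toR_tmul, TensorProduct.lift.tmul, LinearMap.mul_apply']
    rw [Algebra.algebraMap_eq_smul_one (R := R) (A := A), ← TensorProduct.smul_tmul,
      Algebra.TensorProduct.algebraMap_apply, Algebra.smul_def, map_mul, mul_comm]

variable {T}

theorem toR_bc (t : AzInv.LamInv R A lam') (x y : T ⊗[S] A) :
    t.bc S lam' T (x * y) = t.bc S lam' T y * t.bc S lam' T x := by
  induction x using TensorProduct.induction_on with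
  | zero => simp
  | add a b ha hb => simp only [add_mul, mul_add, map_add, ha, hb]
  | tmul s a =>
    induction y using TensorProduct.induction_on with
    | zero => simp
    | add c d hc hd => simp only [add_mul, mul_add, map_add, hc, hd]
    | tmul s' a' =>
      simp [Algebra.TensorProduct.tmul_mul_tmul, t.map_mul, mul_comm s s']

theorem bc_bc (t : AzInv.LamInv R A lam') (x : T ⊗[S] A) :
    t.bc S lam' T (t.bc S lam' T x) = x := by
  induction x using TensorProduct.induction_on with
  | zero => simp
  | add a b ha hb => simp only [map_add, ha, hb]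
  | tmul s a => simp

variable (T)

/-- The two components of an element. -/
def comps (t : AzInv.LamInv R A lam') : T ⊗[S] A →ₗ[T] (T ⊗[R] A) × (T ⊗[R] A) :=
  (toR R T).toLinearMap.prod ((toR R T).toLinearMap ∘ₗ t.bc S lam' T)

theorem comps_apply (t : AzInv.LamInv R A lam') (x : T ⊗[S] A) :
    comps lam' T t x = (toR R T x, toR R T (t.bc S lam' T x)) := rfl

variable (hlam : ∀ r, lam' (lam' r) = r) (hS : RInv.IsFixedRing S R lam'.toRingEquiv)
  (hq : RInv.IsQuadEtale S R)

include hlam hS hq in
theorem comps_bijective (t : AzInv.LamInv R A lam') : Function.Bijective (comps lam' T t) := by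
  classical
  have hbij := splitMap_bijective (lam := lam'.toRingEquiv) hlam hS hq
  obtain ⟨ε, hε⟩ := hbij.2 (1, 0)
  have hrel1 : ∀ r : R, ε * (r ⊗ₜ[S] 1) = ε * ((1 : R) ⊗ₜ[S] r) := fun r => hbij.1 (by
    simp [map_mul, hε])
  have hrel2 : ∀ r : R, (1 - ε) * (r ⊗ₜ[S] 1) = (1 - ε) * ((1 : R) ⊗ₜ[S] lam' r) := fun r => hbij.1 (by
    simp [map_mul, hε, hlam r]
    ext <;> simp)
  have hmul : ∀ z, TensorProduct.lift (LinearMap.mul S R) z = (splitMap hS z).1 := fun z => by
    induction z using TensorProduct.induction_on with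
    | zero => simp
    | add a b ha hb => simp only [map_add, ha, hb, Prod.fst_add]
    | tmul r r' => simp
  have hbc : ∀ z : R ⊗[S] R, toR R T (t.bc S lam' T (ρ (A := A) T z)) =
      algebraMap R (T ⊗[R] A) (splitMap hS z).2 := fun z => by
    induction z using TensorProduct.induction_on with
    | zero => simp
    | add a b ha hb => simp only [map_add, ha, hb, Prod.snd_add]
    | tmul r r' =>
      rw [ρ_tmul, AzInv.LamInv.bc_tmul, t.map_algebraMap, toR_tmul, splitMap_tmul,
        Algebra.algebraMap_eq_smul_one (R := R) (A := A), ← TensorProduct.smul_tmul,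
        Algebra.TensorProduct.algebraMap_apply, Algebra.smul_def, map_mul, mul_comm]
      rfl
  set η : T ⊗[S] A := ρ T ε with hη
  have hη1 : toR R T η = 1 := by rw [hη, toR_ρ, hmul, hε, map_one]
  have hη2 : toR R T (t.bc S lam' T η) = 0 := by rw [hη, hbc, hε, map_zero]
  -- the two sections
  have hbal1 : ∀ (r : R) (s : T) (a : A), η * ((r • s) ⊗ₜ[S] a) = η * (s ⊗ₜ[S] (r • a)) := by
    intro r s a
    have h := congrArg (fun z => ρ (A := A) T z * (s ⊗ₜ[S] a)) (hrel1 r)
    simp only [map_mul, ρ_tmul, map_one, mul_assoc, Algebra.TensorProduct.tmul_mul_tmul, one_mul] at h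
    rw [hη, Algebra.smul_def, Algebra.smul_def]
    exact h
  have hbal2 : ∀ (r : R) (s : T) (a : A),
      (1 - η) * ((r • s) ⊗ₜ[S] t a) = (1 - η) * (s ⊗ₜ[S] t (r • a)) := by
    intro r s a
    have h := congrArg (fun z => ρ (A := A) T z * (s ⊗ₜ[S] t a)) (hrel2 r)
    simp only [map_mul, map_sub, map_one, ρ_tmul, mul_assoc, Algebra.TensorProduct.tmul_mul_tmul,
      one_mul] at h
    rw [hη, t.map_smul, Algebra.smul_def, Algebra.smul_def]
    exact h
  let L₁ : T ⊗[R] A →+ T ⊗[S] A := TensorProduct.liftAddHom
    ((AddMonoidHom.mulLeft η).compHom.comp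
      (AddMonoidHom.mk' (fun s => (TensorProduct.mk S T A s).toAddMonoidHom)
        fun a b => AddMonoidHom.ext fun c => by simp [TensorProduct.add_tmul]))
    fun r s a => hbal1 r s a
  let tA : T →+ A →+ T ⊗[S] A :=
    AddMonoidHom.mk' (fun s => (TensorProduct.mk S T A s).toAddMonoidHom.comp t.toAddMonoidHom)
      fun a b => AddMonoidHom.ext fun c => by simp [TensorProduct.add_tmul]
  let L₂ : T ⊗[R] A →+ T ⊗[S] A := TensorProduct.liftAddHom
    ((AddMonoidHom.mulLeft (1 - η)).compHom.comp tA) fun r s a => hbal2 r s a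
  have hL₁ : ∀ s a, L₁ (s ⊗ₜ a) = η * (s ⊗ₜ[S] a) := fun s a => rfl
  have hL₂ : ∀ s a, L₂ (s ⊗ₜ a) = (1 - η) * (s ⊗ₜ[S] t a) := fun s a => rfl
  have hinv : ∀ x, L₁ (comps lam' T t x).1 + L₂ (comps lam' T t x).2 = x := by
    intro x
    induction x using TensorProduct.induction_on with
    | zero => simp
    | add a b ha hb =>
      simp only [map_add, Prod.fst_add, Prod.snd_add]
      rw [add_add_add_comm, ha, hb]
    | tmul s a =>
      simp only [comps_apply, toR_tmul, AzInv.LamInv.bc_tmul, hL₁, hL₂, t.invol, sub_mul, one_mul,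
        add_sub_cancel]
  refine Function.bijective_iff_has_inverse.mpr ⟨fun p => L₁ p.1 + L₂ p.2, hinv, fun p => ?_⟩
  have e1 : ∀ u, toR R T (L₁ u) = u ∧ toR R T (t.bc S lam' T (L₁ u)) = 0 := fun u => by
    induction u using TensorProduct.induction_on with
    | zero => simp
    | add a b ha hb => simp only [map_add, ha, hb, add_zero, and_self]
    | tmul s a =>
      rw [hL₁, map_mul, hη1, one_mul, toR_tmul, toR_bc, map_mul, hη2, mul_zero]
      exact ⟨rfl, rfl⟩
  have e2 : ∀ u, toR R T (L₂ u) = 0 ∧ toR R T (t.bc S lam' T (L₂ u)) = u := fun u => by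
    induction u using TensorProduct.induction_on with
    | zero => simp
    | add a b ha hb => simp only [map_add, ha, hb, add_zero, and_self]
    | tmul s a =>
      rw [hL₂, map_mul, map_sub, map_one, hη1, sub_self, zero_mul, toR_bc, map_mul, map_sub,
        map_sub (toR R (A := A) T), hη2, sub_zero]
      refine ⟨rfl, ?_⟩
      rw [AzInv.LamInv.bc_tmul, t.invol, toR_tmul]
      rw [show (1 : T ⊗[S] A) = (1 : T) ⊗ₜ 1 from Algebra.TensorProduct.one_def,
        AzInv.LamInv.bc_tmul, t.map_one, toR_tmul, ← Algebra.TensorProduct.one_def, mul_one]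
  rw [comps_apply]
  simp only [map_add, (e1 p.1).1, (e1 p.1).2, (e2 p.2).1, (e2 p.2).2, add_zero, zero_add]

include hlam hS hq in
/-- An isomorphism over `T` gives one of algebras with involution over the base. -/
theorem exists_iso_of_split (t : AzInv.LamInv R A lam') (t' : AzInv.LamInv R A' lam')
    (Φ : T ⊗[R] A ≃ₐ[T] T ⊗[R] A') :
    ∃ f : T ⊗[S] A ≃ₐ[T] T ⊗[S] A',
      (∀ (r : R) (x : T ⊗[S] A),
        f (((1 : T) ⊗ₜ[S] algebraMap R A r) * x) = ((1 : T) ⊗ₜ[S] algebraMap R A' r) * f x) ∧
      ∀ x : T ⊗[S] A, f (t.bc S lam' T x) = t'.bc S lam' T (f x) := by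
  let e := LinearEquiv.ofBijective _ (comps_bijective lam' T hlam hS hq t)
  let e' := LinearEquiv.ofBijective _ (comps_bijective lam' T hlam hS hq t')
  let g : T ⊗[S] A ≃ₗ[T] T ⊗[S] A' :=
    (e.trans (Φ.toLinearEquiv.prodCongr Φ.toLinearEquiv)).trans e'.symm
  have hg : ∀ x, comps lam' T t' (g x) = (Φ (toR R T x), Φ (toR R T (t.bc S lam' T x))) := fun x =>
    e'.apply_symm_apply _
  have hgm : ∀ x y, g (x * y) = g x * g y := fun x y => by
    refine (comps_bijective lam' T hlam hS hq t').1 ?_
    rw [hg]
    have h1 := Prod.ext_iff.mp (hg x)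
    have h2 := Prod.ext_iff.mp (hg y)
    simp only [comps_apply] at h1 h2
    simp only [comps_apply, map_mul, toR_bc, h1.1, h1.2, h2.1, h2.2]
  have hg1 : g 1 = 1 := by
    refine (comps_bijective lam' T hlam hS hq t').1 ?_
    rw [hg, comps_apply]
    simp only [Algebra.TensorProduct.one_def, toR_tmul, AzInv.LamInv.bc_tmul, AzInv.LamInv.map_one]
    simp only [← Algebra.TensorProduct.one_def, map_one]
  refine ⟨AlgEquiv.ofLinearEquiv g hg1 hgm, fun r x => ?_, fun x => ?_⟩
  · refine (hgm _ _).trans (congrArg (· * g x) ((comps_bijective lam' T hlam hS hq t').1 ?_))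
    rw [hg, comps_apply]
    simp only [toR_tmul, AzInv.LamInv.bc_tmul, AzInv.LamInv.map_algebraMap]
    have key : ∀ r : R, Φ ((1 : T) ⊗ₜ[R] algebraMap R A r) = (1 : T) ⊗ₜ[R] algebraMap R A' r := by
      intro r
      rw [Algebra.algebraMap_eq_smul_one, Algebra.algebraMap_eq_smul_one, TensorProduct.tmul_smul,
        TensorProduct.tmul_smul, ← Algebra.TensorProduct.one_def, ← Algebra.TensorProduct.one_def,
        ← AlgEquiv.restrictScalars_apply R, map_smul, AlgEquiv.restrictScalars_apply, map_one]
    rw [key, key]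
  · refine (comps_bijective lam' T hlam hS hq t').1 ?_
    show comps lam' T t' (g (t.bc S lam' T x)) = comps lam' T t' (t'.bc S lam' T (g x))
    rw [hg]
    have h1 := Prod.ext_iff.mp (hg x)
    simp only [comps_apply] at h1
    rw [comps_apply, bc_bc, bc_bc, h1.1, h1.2]

end Compare

end Groth.Agent.AzInvLib
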