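import Groth.Agent.AzInvLib.Split

/-!
# Involutions over a quadratic étale extension

Two algebras with involution which are isomorphic over an étale covering of `R` are locally
isomorphic with their involutions over the fixed ring.
-/

set_option autoImplicit false

universe u v w w'

noncomputable section

open scoped TensorProduct

namespace Groth.Agent.AzInvLib

variable {S : Type u} {R : Type v} [CommRing S] [CommRing R] [Algebra S R] (lam : R ≃ₐ[S] R)
  {A : Type w} [Ring A] [Algebra S A] [Algebra R A] [IsScalarTower S R A]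
  {A' : Type w'} [Ring A'] [Algebra S A'] [Algebra R A'] [IsScalarTower S R A']

/-- Split algebras over a common étale covering of `R` give locally isomorphic involutions. -/
theorem locIsoEt_of_split (hlam : ∀ r, lam (lam r) = r) (hS : RInv.IsFixedRing S R lam.toRingEquiv)
    (hq : RInv.IsQuadEtale S R) (T : Type v) [CommRing T] [Algebra R T] [Algebra.Etale R T]
    [Module.FaithfullyFlat R T] (Φ : T ⊗[R] A ≃ₐ[T] T ⊗[R] A')
    (t : AzInv.LamInv R A lam) (t' : AzInv.LamInv R A' lam) : AzInv.LocIsoEt S lam t t' := by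
  letI : Algebra S T := ((algebraMap R T).comp (algebraMap S R)).toAlgebra
  haveI : IsScalarTower S R T := IsScalarTower.of_algebraMap_eq' rfl
  haveI := etale hq
  haveI := faithfullyFlat hq
  haveI : Algebra.Etale S T := Algebra.Etale.comp S R T
  haveI : Module.FaithfullyFlat S T := Module.FaithfullyFlat.trans S R T
  obtain ⟨Y, _, _, ⟨e⟩⟩ := exists_model (R := S) T
  letI : Algebra R Y := ((e.symm.toAlgHom.toRingHom).comp (algebraMap R T)).toAlgebra
  haveI : IsScalarTower S R Y := IsScalarTower.of_algebraMap_eq fun s => by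
    show algebraMap S Y s = e.symm (algebraMap R T (algebraMap S R s))
    rw [← IsScalarTower.algebraMap_apply, AlgEquiv.commutes]
  haveI : Algebra.Etale S Y := Algebra.Etale.of_equiv e.symm
  haveI : Module.FaithfullyFlat S Y :=
    Module.FaithfullyFlat.of_linearEquiv (R := S) (M := T) e.toLinearEquiv
  let eR : Y ≃ₐ[R] T := AlgEquiv.ofRingEquiv (f := e.toRingEquiv) fun r => by
    show e (e.symm (algebraMap R T r)) = _
    rw [AlgEquiv.apply_symm_apply]
  let eA : Y ⊗[R] A ≃ₐ[R] T ⊗[R] A := Algebra.TensorProduct.congr eR AlgEquiv.refl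
  let eA' : Y ⊗[R] A' ≃ₐ[R] T ⊗[R] A' := Algebra.TensorProduct.congr eR AlgEquiv.refl
  let ΦY : Y ⊗[R] A ≃ₐ[Y] Y ⊗[R] A' :=
    AlgEquiv.ofRingEquiv (f := (eA.trans ((Φ.restrictScalars R).trans eA'.symm)).toRingEquiv) fun y => by
      show eA'.symm (Φ (eA (algebraMap Y (Y ⊗[R] A) y))) = _
      apply eA'.injective
      rw [AlgEquiv.apply_symm_apply]
      simp [eA, eA', Algebra.TensorProduct.algebraMap_apply]
      exact Φ.commutes (eR y)
  obtain ⟨f, h1, h2⟩ := exists_iso_of_split lam Y hlam hS hq t t' ΦY
  exact ⟨Y, inferInstance, inferInstance, inferInstance, inferInstance, f, h1, h2⟩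

end Groth.Agent.AzInvLib
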