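import Groth.Agent.AzInvLib.Global
import Groth.Agent.S15574
import Mathlib.RingTheory.Jacobson.Ideal

/-!
# The ramification locus of a ring with involution
-/

set_option autoImplicit false

universe u v

noncomputable section

open scoped TensorProduct

namespace Groth.Agent.AzInvLib

variable {S : Type u} {R : Type v} [CommRing S] [CommRing R] [Algebra S R]

/-- An involution as an algebra automorphism. -/
def toAlgInv (lam : R ≃+* R) (hS : RInv.IsFixedRing S R lam) : R ≃ₐ[S] R :=
  AlgEquiv.ofRingEquiv (f := lam) fun b => (hS.2 _).mpr ⟨b, rfl⟩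

variable {lam : R ≃ₐ[S] R} (hlam : ∀ r, lam (lam r) = r)
  (hfix : RInv.IsFixedRing S R lam.toRingEquiv)

include hlam hfix in
/-- A difference outside a prime over `p` gives one invertible near `p`. -/
theorem exists_sq_notMem {p : PrimeSpectrum S} (h : ¬ Ram lam p) :
    ∃ (r : R) (M : S), M ∉ p.asIdeal ∧ algebraMap S R M = (r - lam r) * (r - lam r) := by
  simp only [Ram, not_forall] at h
  obtain ⟨Q, hQ, hQp, r, hr⟩ := h
  obtain ⟨M, hM⟩ := Herm.exists_fixed lam hfix (x := (r - lam r) * (r - lam r))
    (by rw [map_mul, map_sub, hlam]; ring)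
  refine ⟨r, M, fun hmem => hr ?_, hM⟩
  rw [← hQp, Ideal.mem_comap, hM] at hmem
  rw [← neg_sub]
  exact neg_mem ((hQ.mem_or_mem hmem).elim id id)

include hlam hfix in
/-- A quadratic étale point is not ramified. -/
theorem not_ram_of_quad (p : PrimeSpectrum S) (h : RInv.IsQuadEtale (Localization.AtPrime p.asIdeal)
    (Localization.AtPrime p.asIdeal ⊗[S] R)) : ¬ Ram lam p := by
  intro hram
  obtain ⟨Q, hQp, hQ⟩ := Herm.exists_over lam hlam hfix p.asIdeal
  haveI := hQp
  let L := Localization.AtPrime p.asIdeal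
  haveI : Module.Flat S L := IsLocalization.flat L p.asIdeal.primeCompl
  obtain ⟨z, hz⟩ := Groth.Agent.S15574.result L (L ⊗[S] R) (lamX lam L).toRingEquiv
    (lamX_lamX lam L hlam) (isFixed_lamX lam L hfix) h
  let g : R →ₐ[S] Q.ResidueField := IsScalarTower.toAlgHom S R Q.ResidueField
  have hg : ∀ r, g r = 0 ↔ r ∈ Q := fun r => Ideal.algebraMap_residueField_eq_zero
  have hu : ∀ y : p.asIdeal.primeCompl, IsUnit (algebraMap S Q.ResidueField y) := fun y => by
    rw [isUnit_iff_ne_zero, IsScalarTower.algebraMap_apply S R Q.ResidueField, ne_eq,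
      Ideal.algebraMap_residueField_eq_zero, ← Ideal.mem_comap, hQ]
    exact y.2
  let fL : L →ₐ[S] Q.ResidueField := IsLocalization.liftAlgHom (M := p.asIdeal.primeCompl)
    (f := Algebra.ofId S Q.ResidueField) hu
  let F : L ⊗[S] R →ₐ[S] Q.ResidueField := Algebra.TensorProduct.lift fL g fun _ _ => Commute.all _ _
  have hF : ∀ w, F (lamX lam L w) = F w := fun w => by
    induction w using TensorProduct.induction_on with
    | zero => simp
    | add a b ha hb => rw [map_add, map_add, map_add, ha, hb]
    | tmul l r =>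
      rw [lamX_tmul, Algebra.TensorProduct.lift_tmul, Algebra.TensorProduct.lift_tmul]
      congr 1
      rw [← sub_eq_zero, ← map_sub, hg]
      exact hram Q hQp hQ r
  exact (hz.map F).ne_zero (by
    show F (z - lamX lam L z) = 0
    rw [map_sub, hF, sub_self])

include hlam hfix in
theorem not_quad_iff (p : PrimeSpectrum S) :
    ¬ RInv.IsQuadEtale (Localization.AtPrime p.asIdeal) (Localization.AtPrime p.asIdeal ⊗[S] R) ↔
      Ram lam p :=
  ⟨ram_of_not_quad hlam hfix p, fun h hq => not_ram_of_quad hlam hfix p hq h⟩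

include hlam hfix in
/-- The ramified points form a closed set. -/
theorem isClosed_ram : IsClosed {p : PrimeSpectrum S | Ram lam p} := by
  haveI : Algebra.IsIntegral S R := isIntegral_fixed (lam := lam.toRingEquiv) hlam hfix
  have h : {p : PrimeSpectrum S | Ram lam p} = PrimeSpectrum.comap (algebraMap S R) ''
      PrimeSpectrum.zeroLocus (Set.range fun r => lam r - r) := by
    ext p
    constructor
    · intro hp
      obtain ⟨Q, hQp, hQ⟩ := Herm.exists_over lam hlam hfix p.asIdeal
      exact ⟨⟨Q, hQp⟩, Set.range_subset_iff.mpr (hp Q hQp hQ), PrimeSpectrum.ext hQ⟩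
    · rintro ⟨q, hq, rfl⟩
      exact ram_of_exists hlam hfix (q := q.asIdeal) (fun r => hq ⟨r, rfl⟩) rfl
  rw [h]
  exact PrimeSpectrum.isClosedMap_comap_of_isIntegral (algebraMap S R)
    (algebraMap_isIntegral_iff.mpr inferInstance) _ (PrimeSpectrum.isClosed_zeroLocus _)

include hlam hfix in
/-- Primes containing the vanishing ideal of the ramified locus are ramified. -/
theorem ram_of_le {P : Ideal R} [P.IsPrime]
    (h : (PrimeSpectrum.vanishingIdeal {p : PrimeSpectrum S | Ram lam p}).map (algebraMap S R) ≤ P) :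
    Ram lam ⟨P.comap (algebraMap S R), inferInstance⟩ := by
  have h1 : (⟨P.comap (algebraMap S R), inferInstance⟩ : PrimeSpectrum S) ∈
      closure {p : PrimeSpectrum S | Ram lam p} := by
    rw [← PrimeSpectrum.zeroLocus_vanishingIdeal_eq_closure]
    exact Ideal.map_le_iff_le_comap.mp h
  rwa [(isClosed_ram hlam hfix).closure_eq] at h1

theorem mem_jacobson_iff {x : R} : x ∈ Ring.jacobson R ↔ ∀ M : Ideal R, M.IsMaximal → x ∈ M := by
  rw [← Ideal.jacobson_bot, Ideal.jacobson, Submodule.mem_sInf]
  exact ⟨fun h M hM => h M ⟨bot_le, hM⟩, fun h M hM => h M hM.2⟩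

include hlam hfix in
theorem comap_maximal [IsLocalRing S] {M : Ideal R} (hM : M.IsMaximal) :
    M.comap (algebraMap S R) = IsLocalRing.maximalIdeal S := by
  haveI : Algebra.IsIntegral S R := isIntegral_fixed (lam := lam.toRingEquiv) hlam hfix
  exact IsLocalRing.eq_maximalIdeal (Ideal.isMaximal_comap_of_isIntegral_of_isMaximal M)

end Groth.Agent.AzInvLib
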