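import Groth.Agent.S5720
import Groth.Agent.AzInvLib.Quad
import Mathlib.RingTheory.Etale.Pi
import Mathlib.RingTheory.Etale.StandardEtale
import Mathlib.RingTheory.TensorProduct.Pi
import Mathlib.RingTheory.MatrixAlgebra
import Mathlib.RingTheory.FinitePresentation
import Mathlib.LinearAlgebra.Matrix.Unique
import Mathlib.Algebra.Algebra.Shrink

/-!
# Étale splittings of Azumaya algebras
-/

set_option autoImplicit false

universe u v w

noncomputable section

open scoped TensorProduct

namespace Groth.Agent.AzInvLib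

/-- Matrices over a product. -/
def matrixPi {ι : Type*} {R : Type*} [CommSemiring R] (X : ι → Type*) [∀ i, CommSemiring (X i)]
    [∀ i, Algebra R (X i)] (n : Type*) [Fintype n] [DecidableEq n] :
    Matrix n n (Π i, X i) ≃ₐ[R] Π i, Matrix n n (X i) :=
  AlgEquiv.ofBijective
    (Pi.algHom R _ fun i => (Pi.evalAlgHom R X i).mapMatrix)
    ⟨fun M N h => Matrix.ext fun a b => funext fun i => congrFun (congrFun (congrFun h i) a) b,
     fun M => ⟨Matrix.of fun a b i => M i a b, rfl⟩⟩

/-- An Azumaya algebra of degree `n` is split by an étale covering. -/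
theorem exists_etale_split' {R : Type u} [CommRing R] {A : Type u} [Ring A] [Algebra R A] {n : ℕ}
    (hA : AzInv.IsAzumayaDeg R A n) :
    ∃ (T : Type u) (_ : CommRing T) (_ : Algebra R T) (_ : Algebra.Etale R T)
      (_ : Module.FaithfullyFlat R T),
      Nonempty (T ⊗[R] A ≃ₐ[T] Matrix (Fin n) (Fin n) T) := by
  classical
  haveI := hA.1
  choose f hf X _ _ _ _ hfin het hff r hr he using
    fun p : PrimeSpectrum R => S5720.result R A p.asIdeal
  have hcov : Ideal.span (Set.range f) = ⊤ := by
    by_contra h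
    obtain ⟨m, hm, hle⟩ := Ideal.exists_le_maximal _ h
    exact hf ⟨m, hm.isPrime⟩ (hle (Ideal.subset_span ⟨_, rfl⟩))
  obtain ⟨s, hs, h1⟩ :=
    Submodule.mem_span_finite_of_mem_span ((Ideal.eq_top_iff_one _).mp hcov)
  choose g hg using fun y : s => hs y.2
  let P : s → PrimeSpectrum R := g
  have hPf : ∀ y : s, f (P y) = y := hg
  let T := Π y : s, X (P y)
  have hXet : ∀ p, Algebra.Etale R (X p) := fun p =>
    haveI := het p
    haveI : Algebra.Etale R (Localization.Away (f p)) := Algebra.Etale.of_isLocalizationAway (f p)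
    Algebra.Etale.comp R (Localization.Away (f p)) (X p)
  haveI : ∀ y : s, Algebra.Etale R (X (P y)) := fun y => hXet _
  have hT : Algebra.Etale R T := inferInstance
  have hTff : Module.FaithfullyFlat R T := by
    haveI : ∀ y : s, Module.Flat R (X (P y)) := fun y =>
      haveI := hff (P y)
      Module.Flat.trans R (Localization.Away (f (P y))) (X (P y))
    haveI : Module.Flat R T :=
      Module.Flat.of_linearEquiv (DirectSum.linearEquivFunOnFintype R s fun y => X (P y)).symm
    refine Module.FaithfullyFlat.of_comap_surjective fun p => ?_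
    obtain ⟨y, hy⟩ : ∃ y : s, (y : R) ∉ p.asIdeal := by
      by_contra! h
      exact p.isPrime.ne_top ((Ideal.eq_top_iff_one _).mpr
        (Submodule.span_le.mpr (fun y hy => h ⟨y, hy⟩) h1))
    haveI := hff (P y)
    let Rf := Localization.Away (f (P y))
    obtain ⟨q, hq⟩ : ∃ q : PrimeSpectrum Rf, PrimeSpectrum.comap (algebraMap R Rf) q = p := by
      have := (PrimeSpectrum.localization_away_comap_range Rf (f (P y))).symm ▸
        (show p ∈ (PrimeSpectrum.basicOpen (f (P y)) : Set (PrimeSpectrum R)) by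
          simpa [PrimeSpectrum.mem_basicOpen, hPf y] using hy)
      exact this
    obtain ⟨q', hq'⟩ := PrimeSpectrum.comap_surjective_of_faithfullyFlat (A := Rf) (B := X (P y)) q
    refine ⟨PrimeSpectrum.comap (Pi.evalRingHom (fun y : s => X (P y)) y) q', ?_⟩
    rw [← hq, ← hq', ← PrimeSpectrum.comap_comp_apply, ← PrimeSpectrum.comap_comp_apply]
    congr 1
    exact (IsScalarTower.algebraMap_eq R Rf (X (P y)))
  refine ⟨T, inferInstance, inferInstance, hT, hTff, ?_⟩
  have hn : ∀ y : s, Nonempty (X (P y) ⊗[R] A ≃ₐ[X (P y)] Matrix (Fin n) (Fin n) (X (P y))) := by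
    intro y
    obtain ⟨e⟩ := he (P y)
    rcases subsingleton_or_nontrivial (X (P y)) with hsub | hnt
    · haveI : Subsingleton (X (P y) ⊗[R] A) := Module.subsingleton (X (P y)) _
      exact ⟨AlgEquiv.ofBijective ⟨⟨⟨⟨fun _ => 0, Subsingleton.elim _ _⟩,
        fun _ _ => Subsingleton.elim _ _⟩, Subsingleton.elim _ _, fun _ _ => Subsingleton.elim _ _⟩,
        fun _ => Subsingleton.elim _ _⟩
        ⟨fun _ _ _ => Subsingleton.elim _ _, fun _ => ⟨0, Subsingleton.elim _ _⟩⟩⟩
    obtain ⟨q⟩ : Nonempty (PrimeSpectrum (X (P y))) := inferInstance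
    have h2 := congrFun (Module.rankAtStalk_eq_of_equiv e.toLinearEquiv) q
    rw [Module.rankAtStalk_baseChange, hA.2, Module.rankAtStalk_eq_finrank_of_free,
      Pi.natCast_apply, Module.finrank_matrix, Fintype.card_fin, Module.finrank_self, mul_one] at h2
    have : n = r (P y) := by
      have : n ^ 2 = r (P y) ^ 2 := by rw [h2]; simp [pow_two]
      exact Nat.pow_left_injective two_ne_zero this
    subst this
    exact ⟨e⟩
  let F : T ⊗[R] A ≃ₐ[R] Π y : s, X (P y) ⊗[R] A :=
    (Algebra.TensorProduct.comm R T A).trans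
      ((Algebra.TensorProduct.piRight R R A (fun y : s => X (P y))).trans
        (AlgEquiv.piCongrRight fun y => Algebra.TensorProduct.comm R A (X (P y))))
  let G : T ⊗[R] A ≃ₐ[R] Matrix (Fin n) (Fin n) T :=
    F.trans ((AlgEquiv.piCongrRight fun y => (hn y).some.restrictScalars R).trans
      (matrixPi (fun y : s => X (P y)) (Fin n)).symm)
  refine ⟨AlgEquiv.ofRingEquiv (f := G.toRingEquiv) fun t => ?_⟩
  apply (matrixPi (R := R) (fun y : s => X (P y)) (Fin n)).injective
  show matrixPi _ _ ((matrixPi (R := R) (fun y : s => X (P y)) (Fin n)).symm _) = _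
  rw [AlgEquiv.apply_symm_apply]
  funext y
  show (hn y).some (Algebra.TensorProduct.comm R A (X (P y))
    (Algebra.TensorProduct.piRight R R A (fun y : s => X (P y))
      (Algebra.TensorProduct.comm R T A (t ⊗ₜ[R] (1 : A))) y)) = _
  rw [Algebra.TensorProduct.comm_tmul]
  show (hn y).some (t y ⊗ₜ[R] (1 : A)) = _
  refine ((hn y).some.commutes (t y)).trans ?_
  ext a c
  show _ = (algebraMap T (Matrix (Fin n) (Fin n) T) t) a c y
  rcases eq_or_ne a c with rfl | h
  · simp [Matrix.algebraMap_matrix_apply]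
  · simp [Matrix.algebraMap_matrix_apply, h]
    rfl

/-- An étale algebra has a model in the universe of the base. -/
theorem exists_model {R : Type u} [CommRing R] (X : Type v) [CommRing X] [Algebra R X]
    [Algebra.FinitePresentation R X] :
    ∃ (Y : Type u) (_ : CommRing Y) (_ : Algebra R Y), Nonempty (Y ≃ₐ[R] X) := by
  obtain ⟨n, f, hf, -⟩ := Algebra.FinitePresentation.out (R := R) (A := X)
  exact ⟨_, inferInstance, inferInstance, ⟨Ideal.quotientKerAlgEquivOfSurjective hf⟩⟩

theorem exists_etale_split {R : Type v} [CommRing R] {A : Type w} [Ring A] [Algebra R A] {n : ℕ}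
    (hA : AzInv.IsAzumayaDeg R A n) :
    ∃ (T : Type v) (_ : CommRing T) (_ : Algebra R T) (_ : Algebra.Etale R T)
      (_ : Module.FaithfullyFlat R T),
      Nonempty (T ⊗[R] A ≃ₐ[T] Matrix (Fin n) (Fin n) T) := by
  haveI := hA.1
  haveI : Small.{v} A := by
    obtain ⟨m, f, hf⟩ := Module.Finite.exists_fin' R A
    exact small_of_surjective hf
  let e : Shrink.{v} A ≃ₐ[R] A := Shrink.algEquiv R A
  have hA' : AzInv.IsAzumayaDeg R (Shrink.{v} A) n :=
    ⟨IsAzumaya.of_AlgEquiv R A (Shrink.{v} A) e.symm, fun p => by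
      rw [Module.rankAtStalk_eq_of_equiv e.toLinearEquiv, hA.2]⟩
  obtain ⟨T, hT1, hT2, hT3, hT4, ⟨φ⟩⟩ := exists_etale_split' hA'
  exact ⟨T, hT1, hT2, hT3, hT4,
    ⟨(Algebra.TensorProduct.congr (AlgEquiv.refl : T ≃ₐ[T] T) e.symm).trans φ⟩⟩

end Groth.Agent.AzInvLib
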