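import Groth.Agent.AzInvLib.Invariant
import Groth.Agent.S15573

/-!
# Types of involutions
-/

set_option autoImplicit false

universe u v w w'

noncomputable section

open scoped TensorProduct
open Matrix

namespace Groth.Agent.AzInvLib

/-- When `2` is invertible, units have square roots locally for the étale topology. -/
theorem hasSqrt_of_two {S : Type u} [CommRing S] (h2 : IsUnit (2 : S)) : HasSqrt S := by
  intro S₁ _ _ _ x
  have h2' : IsUnit (2 : S₁) := by simpa [map_ofNat] using h2.map (algebraMap S S₁)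
  obtain ⟨u, hu⟩ := (h2'.mul x.isUnit).exists_left_inv
  let F : Polynomial S₁ := Polynomial.X ^ 2 - Polynomial.C (x : S₁)
  let P : StandardEtalePair S₁ :=
    { f := F
      monic_f := Polynomial.monic_X_pow_sub_C _ (by omega)
      g := 1
      cond := ⟨Polynomial.C u * Polynomial.X, -(Polynomial.C (2 * u)), 0, by
        have hC : Polynomial.C u * (Polynomial.C (2 : S₁) * Polynomial.C (x : S₁)) =
            (1 : Polynomial S₁) := by
          rw [← Polynomial.C_mul, ← Polynomial.C_mul, hu, Polynomial.C_1]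
        simp only [F, Polynomial.derivative_sub, Polynomial.derivative_C, sub_zero,
          Polynomial.derivative_X_pow, pow_zero, Polynomial.C_mul, Nat.cast_ofNat]
        linear_combination hC⟩ }
  haveI : Algebra.Etale S₁ (AdjoinRoot F) := Algebra.Etale.of_equiv (P.equivAwayAdjoinRoot.trans
    ((IsLocalization.atUnit _ _ (AdjoinRoot.mk P.f P.g)
      (by rw [show P.g = 1 from rfl, map_one]; exact isUnit_one)).symm.restrictScalars S₁))
  have hm : F.Monic := Polynomial.monic_X_pow_sub_C _ (by omega)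
  haveI : Module.Free S₁ (AdjoinRoot F) := hm.free_adjoinRoot
  haveI : Module.Finite S₁ (AdjoinRoot F) := hm.finite_adjoinRoot
  refine ⟨AdjoinRoot F, inferInstance, inferInstance, inferInstance, ?_, AdjoinRoot.root F, ?_⟩
  · rcases subsingleton_or_nontrivial S₁ with h | h
    · exact Module.FaithfullyFlat.of_comap_surjective fun p =>
        (p.isPrime.ne_top (Subsingleton.elim _ _)).elim
    · haveI : Nonempty (Fin (AdjoinRoot.powerBasis' hm).dim) := ⟨⟨0, by
        simp [F, Polynomial.natDegree_X_pow_sub_C]⟩⟩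
      haveI : Nontrivial (AdjoinRoot F) :=
        (AdjoinRoot.powerBasis' hm).basis.repr.toEquiv.nontrivial
      infer_instance
  · have h := AdjoinRoot.eval₂_root F
    simp only [F, Polynomial.eval₂_sub, Polynomial.eval₂_X_pow, Polynomial.eval₂_C] at h
    rw [← pow_two]
    exact sub_eq_zero.mp h

variable {S : Type u} {R : Type v} [CommRing S] [CommRing R] [Algebra S R] {lam : R ≃ₐ[S] R}
  {A : Type w} [Ring A] [Algebra S A] [Algebra R A] [IsScalarTower S R A]
  {A' : Type w'} [Ring A'] [Algebra S A'] [Algebra R A'] [IsScalarTower S R A']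

variable (lam) in
/-- Gram matrices of size `n` exist near every point. -/
def HasGram (t : AzInv.LamInv R A lam) (n : ℕ) : Prop :=
  ∀ p : PrimeSpectrum S, ∃ (N : Nbd S) (s : Spl S R A (Fin n) N.X)
    (w : Matrix (Fin n) (Fin n) (N.X ⊗[S] R)) (e : N.X ⊗[S] R), N.base = p ∧ Gram lam t s w e

theorem hasGram (hlam : ∀ r, lam (lam r) = r) (hfix : RInv.IsFixedRing S R lam.toRingEquiv) {n : ℕ}
    (hn : 0 < n) (hA : AzInv.IsAzumayaDeg R A n) (t : AzInv.LamInv R A lam) : HasGram lam t n :=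
  exists_gram hlam hfix hn hA t

namespace Gram

variable {X : Type u} [CommRing X] [Algebra S X] {ι : Type*} [Fintype ι] [DecidableEq ι]
  {t : AzInv.LamInv R A lam} {s : Spl S R A ι X} {w : Matrix ι ι (X ⊗[S] R)} {e : X ⊗[S] R}

/-- Gram matrices of the matrix algebra. -/
theorem block (h : Gram lam t s w e) (κ : Type*) [Fintype κ] [DecidableEq κ] :
    Gram lam (t.matrix κ) (s.block κ)
      (Matrix.compAlgEquiv κ ι (X ⊗[S] R) S (Matrix.diagonal fun _ => w)) e where
  unit := by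
    rw [← Matrix.isUnit_iff_isUnit_det]
    refine IsUnit.map _ ?_
    obtain ⟨W, hW⟩ := (Matrix.isUnit_iff_isUnit_det w).mpr h.unit
    exact ⟨⟨Matrix.diagonal fun _ => w, Matrix.diagonal fun _ => ↑W⁻¹,
      by rw [Matrix.diagonal_mul_diagonal]; simp [← hW],
      by rw [Matrix.diagonal_mul_diagonal]; simp [← hW]⟩, rfl⟩
  herm := by
    ext ⟨i, a⟩ ⟨j, b⟩
    rcases eq_or_ne i j with rfl | hne
    · simpa [Matrix.compAlgEquiv] using congrFun (congrFun h.herm a) b
    · simp [Matrix.compAlgEquiv, Matrix.diagonal_apply_ne _ hne, Matrix.diagonal_apply_ne _ hne.symm]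
  norm := h.norm
  conj M := by
    have hT : AzInv.lamTr (lamX lam X) (Matrix.compAlgEquiv κ ι (X ⊗[S] R) S (s.φ.mapMatrix M)) =
        Matrix.compAlgEquiv κ ι (X ⊗[S] R) S
          (Matrix.of fun i j => AzInv.lamTr (lamX lam X) (s.φ (M j i))) := by
      ext ⟨i, a⟩ ⟨j, b⟩
      simp [Matrix.compAlgEquiv]
    show Matrix.compAlgEquiv κ ι (X ⊗[S] R) S (s.φ.mapMatrix (t.matrix κ M)) * _ =
      _ * AzInv.lamTr (lamX lam X) (Matrix.compAlgEquiv κ ι (X ⊗[S] R) S (s.φ.mapMatrix M))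
    rw [hT, ← map_mul, ← map_mul]
    congr 1
    ext i j : 1
    rw [Matrix.mul_diagonal, Matrix.diagonal_mul]
    simpa [AlgHom.mapMatrix_apply] using h.conj (M j i)

theorem comap (h : Gram lam t s w e) {t' : AzInv.LamInv R A' lam}
    (f : X ⊗[S] A' ≃ₐ[X] X ⊗[S] A)
    (hf : ∀ (r : R) (x : X ⊗[S] A'),
      f (((1 : X) ⊗ₜ[S] algebraMap R A' r) * x) = ((1 : X) ⊗ₜ[S] algebraMap R A r) * f x)
    (hft : ∀ x : X ⊗[S] A', f (t'.bc S lam X x) = t.bc S lam X (f x)) :
    Gram lam t' (s.comap f hf) w e where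
  unit := h.unit
  herm := h.herm
  norm := h.norm
  conj a := by
    show s.equiv (f ((1 : X) ⊗ₜ t' a)) * w =
      w * AzInv.lamTr (lamX lam X) (s.equiv (f ((1 : X) ⊗ₜ a)))
    rw [← AzInv.LamInv.bc_tmul S lam X t', hft, h.equiv_bc]

end Gram

/-- Matrix algebras have Gram matrices. -/
theorem HasGram.matrix {t : AzInv.LamInv R A lam} {n : ℕ} (h : HasGram lam t n) (m : ℕ) :
    HasGram lam (t.matrix (Fin m)) (m * n) := fun p => by
  obtain ⟨N, s, w, e, hp, hg⟩ := h p
  exact ⟨N, _, _, _, hp, (hg.block (Fin m)).reindex finProdFinEquiv⟩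

theorem Nf.reindex {t : AzInv.LamInv R A lam} {p : PrimeSpectrum S} {ι : Type*} [Fintype ι]
    [DecidableEq ι] {W₀ : Matrix ι ι R} (h : Nf lam t p W₀) {κ : Type*} [Fintype κ] [DecidableEq κ]
    (ε : ι ≃ κ) : Nf lam t p (W₀.submatrix ε.symm ε.symm) := by
  obtain ⟨N, s, e, hp, hg⟩ := h
  exact ⟨N, _, e, hp, hg.reindex ε⟩

theorem exists_isoOver_of_nf {t : AzInv.LamInv R A lam} {t' : AzInv.LamInv R A' lam}
    {p : PrimeSpectrum S} {ι : Type*} [Fintype ι] [DecidableEq ι] {W₀ : Matrix ι ι R}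
    (h : Nf lam t p W₀) (h' : Nf lam t' p W₀) : ∃ N : Nbd S, N.base = p ∧ IsoOver lam t t' N.X := by
  obtain ⟨N₁, s₁, e₁, hp₁, h₁⟩ := h
  obtain ⟨N₂, s₂, e₂, hp₂, h₂⟩ := h'
  obtain ⟨N, ⟨f₁⟩, ⟨f₂⟩⟩ := Nbd.exists_common N₁ N₂ (hp₁.trans hp₂.symm)
  refine ⟨N, f₁.base_eq.trans hp₁, ?_⟩
  have h₁' := h₁.push f₁.g
  have h₂' := h₂.push f₂.g
  rw [map_pushR_incl] at h₁' h₂'
  exact isoOver_of_gram h₁' h₂'

/-- The model involution `M ↦ W₀ lamTr(M) W₀⁻¹`. -/
theorem gram_model {ι : Type*} [Fintype ι] [DecidableEq ι] (X : Type u) [CommRing X] [Algebra S X]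
    (t : AzInv.LamInv R (Matrix ι ι R) lam) (W₀ : Matrix ι ι R) (e₀ : R) (hu : IsUnit W₀.det)
    (hh : AzInv.lamTr lam W₀ = e₀ • W₀) (he : lam e₀ * e₀ = 1)
    (ht : ∀ M, t M * W₀ = W₀ * AzInv.lamTr lam M) :
    Gram lam t (Spl.self S R ι X) (incl X W₀) ((1 : X) ⊗ₜ e₀) where
  unit := by
    rw [incl, ← AlgHom.mapMatrix_apply, ← AlgHom.map_det]
    exact hu.map _
  herm := by
    ext i j
    have h1 : lam (W₀ j i) = e₀ * W₀ i j := congrFun (congrFun hh i) j
    simp [incl, h1]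
  norm := by
    simp [Algebra.TensorProduct.tmul_mul_tmul, he, Algebra.TensorProduct.one_def]
  conj M := by
    show (t M).map (Algebra.TensorProduct.includeRight : R →ₐ[S] X ⊗[S] R) * incl X W₀ = _
    rw [incl, ← Matrix.map_mul, ht, Matrix.map_mul]
    congr 1

theorem nf_model {ι : Type*} [Fintype ι] [DecidableEq ι]
    (t : AzInv.LamInv R (Matrix ι ι R) lam) (W₀ : Matrix ι ι R) (e₀ : R) (hu : IsUnit W₀.det)
    (hh : AzInv.lamTr lam W₀ = e₀ • W₀) (he : lam e₀ * e₀ = 1)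
    (ht : ∀ M, t M * W₀ = W₀ * AzInv.lamTr lam M) (p : PrimeSpectrum S) : Nf lam t p W₀ :=
  ⟨Nbd.self p, _, _, Nbd.base_self p, gram_model _ t W₀ e₀ hu hh he ht⟩

theorem hasGram_model {n : ℕ} (t : AzInv.LamInv R (Matrix (Fin n) (Fin n) R) lam)
    (W₀ : Matrix (Fin n) (Fin n) R) (e₀ : R) (hu : IsUnit W₀.det)
    (hh : AzInv.lamTr lam W₀ = e₀ • W₀) (he : lam e₀ * e₀ = 1)
    (ht : ∀ M, t M * W₀ = W₀ * AzInv.lamTr lam M) : HasGram lam t n := fun p => by
  obtain ⟨N, s, e, hp, hg⟩ := nf_model t W₀ e₀ hu hh he ht p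
  exact ⟨N, s, _, e, hp, hg⟩

section Orth

variable (hlam : ∀ r, lam (lam r) = r) (hfix : RInv.IsFixedRing S R lam.toRingEquiv)
  (h2 : IsUnit (2 : S))

include hlam hfix h2 in
theorem orth_matrix_iff {t : AzInv.LamInv R A lam} {n : ℕ} (hn : 0 < n) (h : HasGram lam t n) {m : ℕ}
    (hm : 0 < m) (q : PrimeSpectrum R) (hq : ∀ r, lam r - r ∈ q.asIdeal) :
    Orth lam (t.matrix (Fin m)) (m * n) q ↔ Orth lam t n q := by
  obtain ⟨N, s, w, e, hp, hg⟩ := h (PrimeSpectrum.comap (algebraMap S R) q)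
  haveI := N.pt.isPrime
  obtain ⟨Q, hQp, hQ⟩ := Herm.exists_over (lamX lam N.X) (lamX_lamX lam N.X hlam)
    (isFixed_lamX lam N.X hfix) N.pt.asIdeal
  haveI := hQp
  rw [orth_iff hlam hfix h2 (by simp) (Nat.mul_pos hm hn) (hg.block (Fin m)) q hq hp.symm hQ,
    orth_iff hlam hfix h2 (Fintype.card_fin n) hn hg q hq hp.symm hQ]

end Orth

/-- An isomorphism over `X` pushed forward. -/
theorem IsoOver.push {t : AzInv.LamInv R A lam} {t' : AzInv.LamInv R A' lam} {X : Type u} [CommRing X]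
    [Algebra S X] (h : IsoOver lam t t' X) {Y : Type u} [CommRing Y] [Algebra S Y] (g : X →ₐ[S] Y) :
    IsoOver lam t t' Y := by
  obtain ⟨f, hf, hft⟩ := h
  let fwd : Y ⊗[S] A →ₐ[Y] Y ⊗[S] A' := Algebra.TensorProduct.lift (Algebra.ofId Y _)
    (((Spl.pushA (A := A') g).comp (f.toAlgHom.restrictScalars S)).comp Algebra.TensorProduct.includeRight)
    fun y _ => Algebra.commutes y _
  let bwd : Y ⊗[S] A' →ₐ[Y] Y ⊗[S] A := Algebra.TensorProduct.lift (Algebra.ofId Y _)
    (((Spl.pushA (A := A) g).comp (f.symm.toAlgHom.restrictScalars S)).comp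
      Algebra.TensorProduct.includeRight) fun y _ => Algebra.commutes y _
  have hfwd : ∀ z, fwd (Spl.pushA g z) = Spl.pushA g (f z) := fun z => by
    induction z using TensorProduct.induction_on with
    | zero => simp
    | add a b ha hb => simp only [map_add, ha, hb]
    | tmul x a =>
      rw [show x ⊗ₜ[S] a = (algebraMap X (X ⊗[S] A) x) * ((1 : X) ⊗ₜ a) by
        simp [Algebra.TensorProduct.tmul_mul_tmul], map_mul, map_mul, map_mul, map_mul, AlgEquiv.commutes,
        show Spl.pushA g (algebraMap X (X ⊗[S] A) x) = algebraMap Y _ (g x) by simp,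
        show Spl.pushA g (algebraMap X (X ⊗[S] A') x) = algebraMap Y _ (g x) by simp,
        AlgHom.commutes]
      congr 1
      simp [fwd, ← Algebra.TensorProduct.one_def]
  have hbwd : ∀ z, bwd (Spl.pushA g z) = Spl.pushA g (f.symm z) := fun z => by
    induction z using TensorProduct.induction_on with
    | zero => simp
    | add a b ha hb => simp only [map_add, ha, hb]
    | tmul x a =>
      rw [show x ⊗ₜ[S] a = (algebraMap X (X ⊗[S] A') x) * ((1 : X) ⊗ₜ a) by
        simp [Algebra.TensorProduct.tmul_mul_tmul], map_mul, map_mul, map_mul, map_mul, AlgEquiv.commutes,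
        show Spl.pushA g (algebraMap X (X ⊗[S] A) x) = algebraMap Y _ (g x) by simp,
        show Spl.pushA g (algebraMap X (X ⊗[S] A') x) = algebraMap Y _ (g x) by simp,
        AlgHom.commutes]
      congr 1
      simp [bwd, ← Algebra.TensorProduct.one_def]
  have h1 : fwd.comp bwd = AlgHom.id Y _ := by
    refine Algebra.TensorProduct.ext (AlgHom.ext fun y => by simp only [AlgHom.comp_apply, Algebra.TensorProduct.includeLeft_apply, AlgHom.id_apply]; rw [show (y ⊗ₜ[S] _) = algebraMap Y _ y from rfl, AlgHom.commutes, AlgHom.commutes]) (AlgHom.ext fun a => ?_)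
    show fwd (bwd ((1 : Y) ⊗ₜ a)) = (1 : Y) ⊗ₜ a
    rw [show (1 : Y) ⊗ₜ[S] a = Spl.pushA g ((1 : X) ⊗ₜ a) by simp, hbwd, hfwd, AlgEquiv.apply_symm_apply]
  have h2 : bwd.comp fwd = AlgHom.id Y _ := by
    refine Algebra.TensorProduct.ext (AlgHom.ext fun y => by simp only [AlgHom.comp_apply, Algebra.TensorProduct.includeLeft_apply, AlgHom.id_apply]; rw [show (y ⊗ₜ[S] _) = algebraMap Y _ y from rfl, AlgHom.commutes, AlgHom.commutes]) (AlgHom.ext fun a => ?_)
    show bwd (fwd ((1 : Y) ⊗ₜ a)) = (1 : Y) ⊗ₜ a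
    rw [show (1 : Y) ⊗ₜ[S] a = Spl.pushA g ((1 : X) ⊗ₜ a) by simp, hfwd, hbwd, AlgEquiv.symm_apply_apply]
  refine ⟨AlgEquiv.ofAlgHom fwd bwd h1 h2, fun r x => ?_, fun x => ?_⟩
  · show fwd (_ * x) = _ * fwd x
    rw [map_mul]
    congr 1
    have e0 := hf r 1
    rw [mul_one, map_one, mul_one] at e0
    rw [show (1 : Y) ⊗ₜ[S] algebraMap R A r = Spl.pushA g ((1 : X) ⊗ₜ algebraMap R A r) by simp,
      hfwd, e0]
    simp
  · show fwd (t.bc S lam Y x) = t'.bc S lam Y (fwd x)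
    induction x using TensorProduct.induction_on with
    | zero => simp
    | add a b ha hb => simp only [map_add, ha, hb]
    | tmul y a =>
      rw [show y ⊗ₜ[S] a = y • ((1 : Y) ⊗ₜ[S] a) by rw [TensorProduct.smul_tmul', smul_eq_mul, mul_one],
        map_smul, map_smul, map_smul, map_smul, AzInv.LamInv.bc_tmul]
      congr 1
      rw [show (1 : Y) ⊗ₜ[S] (t a) = Spl.pushA g ((1 : X) ⊗ₜ t a) by simp,
        show (1 : Y) ⊗ₜ[S] a = Spl.pushA g ((1 : X) ⊗ₜ a) by simp, hfwd, hfwd,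
        ← AzInv.LamInv.bc_tmul S lam X t, hft]
      induction f ((1 : X) ⊗ₜ a) using TensorProduct.induction_on with
      | zero => simp
      | add a b ha hb => simp only [map_add, ha, hb]
      | tmul x b => simp

section Sign

variable (hlam : ∀ r, lam (lam r) = r) (hfix : RInv.IsFixedRing S R lam.toRingEquiv)

include hlam hfix in
/-- Locally isomorphic algebras with involution have equal degree and sign. -/
theorem locIsoEt_degree_sign {t : AzInv.LamInv R A lam} {t' : AzInv.LamInv R A' lam}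
    (h : AzInv.LocIsoEt S lam t t') {n n' : ℕ} (hg : HasGram lam t n) (hg' : HasGram lam t' n')
    (p : PrimeSpectrum S) :
    n = n' ∧ (0 < n → IsUnit (2 : S) → ∀ q : PrimeSpectrum R, (∀ r, lam r - r ∈ q.asIdeal) →
      PrimeSpectrum.comap (algebraMap S R) q = p → (Orth lam t n q ↔ Orth lam t' n' q)) := by
  obtain ⟨X, _, _, _, _, f, hf, hft⟩ := h
  obtain ⟨x, hx⟩ := PrimeSpectrum.comap_surjective_of_faithfullyFlat (A := S) (B := X) p
  let N₀ : Nbd S := { X := X, pt := x }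
  obtain ⟨N₁, s₁, w₁, e₁, hp₁, g₁⟩ := hg p
  obtain ⟨N₂, s₂, w₂, e₂, hp₂, g₂⟩ := hg' p
  obtain ⟨M, ⟨a₁⟩, ⟨a₂⟩⟩ := Nbd.exists_common N₁ N₂ (hp₁.trans hp₂.symm)
  obtain ⟨N, ⟨b₀⟩, ⟨b⟩⟩ := Nbd.exists_common N₀ M (hx.trans (a₁.base_eq.trans hp₁).symm)
  have h₁ := g₁.push (b.comp a₁).g
  have h₂ := g₂.push (b.comp a₂).g
  obtain ⟨f', hf', hft'⟩ := IsoOver.push (lam := lam) (t := t) (t' := t') (X := N₀.X) ⟨f, hf, hft⟩ b₀.g
  have h₃ := h₂.comap f' hf' hft'
  haveI := N.pt.isPrime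
  obtain ⟨Q, hQp, hQ⟩ := Herm.exists_over (lamX lam N.X) (lamX_lamX lam N.X hlam)
    (isFixed_lamX lam N.X hfix) N.pt.asIdeal
  haveI := hQp
  have hnn : n = n' := by
    set sa := s₁.push (b.comp a₁).g
    set sb := (s₂.push (b.comp a₂).g).comap f' hf'
    let g : Matrix (Fin n) (Fin n) (N.X ⊗[S] R) ≃ₗ[N.X ⊗[S] R]
        Matrix (Fin n') (Fin n') (N.X ⊗[S] R) :=
      { (sa.equiv.symm.trans sb.equiv).toLinearEquiv with
        map_smul' := fun c M => by
          show sb.equiv (sa.equiv.symm (c • M)) = c • sb.equiv (sa.equiv.symm M)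
          rw [← Spl.equiv_scal]
          congr 1
          rw [AlgEquiv.symm_apply_eq, Spl.equiv_scal, AlgEquiv.apply_symm_apply] }
    haveI : Nontrivial (N.X ⊗[S] R) := ⟨⟨0, 1, fun h => hQp.ne_top
      ((Ideal.eq_top_iff_one _).mpr (h ▸ Q.zero_mem))⟩⟩
    have := g.finrank_eq
    simp only [Module.finrank_matrix, Fintype.card_fin, Module.finrank_self, mul_one] at this
    exact Nat.mul_self_inj.mp this
  subst hnn
  refine ⟨rfl, fun hn h2 q hq hqp => ?_⟩
  have hbase : PrimeSpectrum.comap (algebraMap S R) q = N.base :=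
    hqp.trans ((b.comp a₁).base_eq.trans hp₁).symm
  obtain ⟨d1, d2⟩ := finrank_symSpan_residueField hlam hfix h2 h₁ q hq hbase hQ
  obtain ⟨d3, d4⟩ := finrank_symSpan_residueField hlam hfix h2 h₃ q hq hbase hQ
  rw [orth_iff hlam hfix h2 (Fintype.card_fin n) hn h₂ q hq hbase hQ,
    orth_iff hlam hfix h2 (Fintype.card_fin n) hn h₁ q hq hbase hQ]
  rw [Fintype.card_fin] at d1 d2 d3 d4
  by_cases c1 : 1 + pushR (b.comp a₁).g e₁ ∈ Q <;> by_cases c2 : 1 + pushR (b.comp a₂).g e₂ ∈ Q <;>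
    simp only [c1, c2, not_true, not_false_iff]
  · exact absurd ((d3 c2).symm.trans (d2 c1)) (choose_ne hn)
  · exact absurd ((d1 c1).symm.trans (d4 c2)) (choose_ne hn)

include hlam hfix in
/-- With `2` invertible, equal signs give a local isomorphism. -/
theorem locIsoEt_of_signs (h2 : IsUnit (2 : S)) (hsq : HasSqrt S) {t : AzInv.LamInv R A lam}
    {t' : AzInv.LamInv R A' lam} {n : ℕ} (hn : 0 < n) (hg : HasGram lam t n) (hg' : HasGram lam t' n)
    (h : ∀ q : PrimeSpectrum R, (∀ r, lam r - r ∈ q.asIdeal) → (Orth lam t n q ↔ Orth lam t' n q)) :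
    AzInv.LocIsoEt S lam t t' := by
  refine locIsoEt_of_local lam t t' fun p => ?_
  obtain ⟨N₁, s₁, w₁, e₁, hp₁, g₁⟩ := hg p
  obtain ⟨N₂, s₂, w₂, e₂, hp₂, g₂⟩ := hg' p
  obtain ⟨c₁, d₁⟩ := nf_cases hlam hfix h2 hsq hn g₁
  obtain ⟨c₂, d₂⟩ := nf_cases hlam hfix h2 hsq hn g₂
  rw [hp₁] at c₁ d₁
  rw [hp₂] at c₂ d₂
  by_cases hr : Ram lam p
  · obtain ⟨Q, hQp, hQ⟩ := Herm.exists_over lam hlam hfix p.asIdeal
    let q : PrimeSpectrum R := ⟨Q, hQp⟩
    have hq : ∀ r, lam r - r ∈ q.asIdeal := hr Q hQp hQ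
    have hb : PrimeSpectrum.comap (algebraMap S R) q = p := PrimeSpectrum.ext hQ
    by_cases ho : Orth lam t n q
    · exact exists_isoOver_of_nf ((d₁ q hq hb).1 ho) ((d₂ q hq hb).1 ((h q hq).mp ho))
    · obtain ⟨m, hm, k₁⟩ := (d₁ q hq hb).2 ho
      obtain ⟨m', hm', k₂⟩ := (d₂ q hq hb).2 fun ho' => ho ((h q hq).mpr ho')
      obtain rfl : m = m' := by omega
      exact exists_isoOver_of_nf k₁ k₂
  · exact exists_isoOver_of_nf (c₁ hr) (c₂ hr)

include hlam hfix in
/-- In odd degree the normal form is the identity everywhere. -/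
theorem nf_one_of_hasGram (hsq : HasSqrt S) {t : AzInv.LamInv R A lam} {n : ℕ} (hn : Odd n)
    (hg : HasGram lam t n) (p : PrimeSpectrum S) : Nf lam t p (1 : Matrix (Fin n) (Fin n) R) := by
  obtain ⟨N, s, w, e, hp, g⟩ := hg p
  exact hp ▸ nf_one_of_odd hlam hfix hsq hn g

include hlam hfix in
/-- The sign is locally constant on the ramified primes. -/
theorem exists_basicOpen_orth_iff (h2 : IsUnit (2 : S)) {t : AzInv.LamInv R A lam} {n : ℕ}
    (hn : 0 < n) (hg : HasGram lam t n) (q : PrimeSpectrum R) (hq : ∀ r, lam r - r ∈ q.asIdeal) :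
    ∃ f : R, f ∉ q.asIdeal ∧ ∀ q' : PrimeSpectrum R, (∀ r, lam r - r ∈ q'.asIdeal) →
      f ∉ q'.asIdeal → (Orth lam t n q' ↔ Orth lam t n q) := by
  obtain ⟨N, s, w, e, hp, g⟩ := hg (PrimeSpectrum.comap (algebraMap S R) q)
  have hl := lamX_lamX lam N.X hlam
  haveI := N.pt.isPrime
  obtain ⟨Q, hQp, hQ⟩ := Herm.exists_over (lamX lam N.X) hl (isFixed_lamX lam N.X hfix) N.pt.asIdeal
  haveI := hQp
  have horth := orth_iff hlam hfix h2 (Fintype.card_fin n) hn g q hq hp.symm hQ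
  have hram : Ram lam N.base :=
    ram_of_exists hlam hfix hq (congrArg PrimeSpectrum.asIdeal hp.symm)
  obtain ⟨ε, hε, hc⟩ : ∃ ε : N.X ⊗[S] R, (ε = 1 ∨ ε = -1) ∧ 1 + ε * e ∉ Q := by
    by_cases he : 1 + e ∈ Q
    · refine ⟨-1, Or.inr rfl, fun hm => two_notMem (R := R) (N := N) h2 Q hQp.ne_top ?_⟩
      rw [show (2 : N.X ⊗[S] R) = 1 + e + (1 + -1 * e) by ring]
      exact add_mem he hm
    · exact ⟨1, Or.inl rfl, by rwa [one_mul]⟩
  obtain ⟨M, hM⟩ := Herm.exists_fixed (lamX lam N.X) (isFixed_lamX lam N.X hfix)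
    (x := (1 + ε * e) * lamX lam N.X (1 + ε * e)) (by rw [map_mul, hl, mul_comm])
  have hMp : M ∉ N.pt.asIdeal := fun hmem => by
    rw [← hQ, Ideal.mem_comap, hM] at hmem
    refine (hQp.mem_or_mem hmem).elim hc fun h1 => hc ?_
    rw [← sub_sub_cancel (lamX lam N.X (1 + ε * e)) (1 + ε * e)]
    exact sub_mem h1 (ram_lift N hQ hram _)
  obtain ⟨N', f', hu⟩ := N.exists_isUnit hMp
  have hcu : IsUnit (pushR (R := R) f'.g (1 + ε * e)) := by
    have h1 : IsUnit (pushR (R := R) f'.g ((1 + ε * e) * lamX lam N.X (1 + ε * e))) := by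
      rw [← hM, pushR_algebraMap]; exact hu.map _
    rw [map_mul] at h1
    exact isUnit_of_mul_isUnit_left h1
  have hopen : IsOpen (Set.range (PrimeSpectrum.comap (algebraMap S N'.X))) :=
    PrimeSpectrum.isOpenMap_comap_of_hasGoingDown_of_finitePresentation.isOpen_range
  have hmem : PrimeSpectrum.comap (algebraMap S R) q ∈
      Set.range (PrimeSpectrum.comap (algebraMap S N'.X)) := ⟨N'.pt, f'.base_eq.trans hp⟩
  obtain ⟨U, ⟨f₀, hf₀⟩, hqU, hU⟩ :=
    PrimeSpectrum.isTopologicalBasis_basic_opens.exists_subset_of_mem_open hmem hopen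
  refine ⟨algebraMap S R f₀, fun hm => ?_, fun q' hq' hf' => ?_⟩
  · rw [← hf₀] at hqU
    exact hqU hm
  · obtain ⟨x, hx⟩ := hU (show PrimeSpectrum.comap (algebraMap S R) q' ∈ U by rw [← hf₀]; exact hf')
    let N'' : Nbd S := { X := N'.X, pt := x }
    haveI := x.isPrime
    obtain ⟨Q'', hQp'', hQ''⟩ := Herm.exists_over (lamX lam N''.X) (lamX_lamX lam N''.X hlam)
      (isFixed_lamX lam N''.X hfix) N''.pt.asIdeal
    haveI := hQp''
    rw [orth_iff (N := N'') hlam hfix h2 (Fintype.card_fin n) hn (g.push f'.g) q' hq' hx.symm hQ'',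
      horth]
    have hnot : 1 + pushR f'.g ε * pushR f'.g e ∉ Q'' := fun hm =>
      hQp''.ne_top (Q''.eq_top_of_isUnit_mem hm (by rwa [← map_mul, ← map_one (pushR (R := R) f'.g), ← map_add]))
    rcases hε with rfl | rfl
    · rw [map_one, one_mul] at hnot
      rw [one_mul] at hc
      exact iff_of_true hnot hc
    · rw [map_neg, map_one] at hnot
      have hsq : ∀ {P : Type (max u v)} [CommRing P] (I : Ideal P) [I.IsPrime] (z : P),
          1 + -1 * z ∉ I → z * z - 1 ∈ I → 1 + z ∈ I := fun I _ z h1 h3 => by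
        refine (Ideal.IsPrime.mem_or_mem ‹I.IsPrime› (x := 1 + -1 * z) ?_).resolve_left h1
        rw [show (1 + -1 * z) * (1 + z) = -(z * z - 1) by ring]
        exact neg_mem h3
      have e1 : e * e - 1 ∈ Q := by
        rw [show e * e - 1 = e * (e - lamX lam N.X e) + (lamX lam N.X e * e - 1) by ring, g.norm,
          sub_self, add_zero, ← neg_sub (lamX lam N.X e), mul_neg]
        exact neg_mem (Ideal.mul_mem_left _ _ (ram_lift N hQ hram e))
      have e2 : pushR f'.g e * pushR f'.g e - 1 ∈ Q'' := by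
        have hram'' : Ram lam N''.base :=
          ram_of_exists hlam hfix hq' (congrArg PrimeSpectrum.asIdeal hx.symm)
        have h3 := (g.push f'.g).norm
        set z := pushR (R := R) f'.g e
        rw [show z * z - 1 = z * (z - lamX lam N'.X z) + (lamX lam N'.X z * z - 1) by ring, h3,
          sub_self, add_zero, ← neg_sub (lamX lam N'.X z), mul_neg]
        exact neg_mem (Ideal.mul_mem_left _ _ (ram_lift N'' hQ'' hram'' z))
      exact iff_of_false (not_not.mpr (hsq Q'' _ hnot e2)) (not_not.mpr (hsq Q e hc e1))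

end Sign

end Groth.Agent.AzInvLib
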